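import Cfsg.Agent.Lib.QPair.Classes
import Cfsg.Agent.Lib.Core.Layer

/-!
# The classes of root groups and their quasisimple groups
-/

set_option autoImplicit false

namespace Cfsg.Agent.Lib.QPair

open Cfsg LinearMap Cfsg.Lib.Linear.Dickson
open scoped MatrixGroups commutatorElement

section SLTwo

variable {K : Type*} [Field K]

theorem sl_quasisimple {b : K} (hb : b ≠ 0) (hb2 : b * b ≠ 1) : IsQuasisimple SL(2, K) := by
  refine ⟨Group.isPerfect_def.mpr (commutator_sl_two hb hb2), ?_⟩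
  exact Matrix.ProjectiveSpecialLinearGroup.rank_two_simple' ⟨b, hb, by rwa [pow_two]⟩

theorem sl_normal_top {b : K} (hb : b ≠ 0) (hb2 : b * b ≠ 1) {P : Subgroup SL(2, K)} [P.Normal] {g h : SL(2, K)}
    (hg : g ∈ P) (hne : g * h ≠ h * g) : P = ⊤ :=
  (Cfsg.Lib.Core.quasisimple_normal (sl_quasisimple hb hb2)).resolve_left fun hle =>
    hne ((Subgroup.mem_center_iff.mp (hle hg) h).symm)

end SLTwo

variable {k : Type*} [Field k] {M : Type*} [AddCommGroup M] [Module k M] [FiniteDimensional k M]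
  {G : Subgroup (GeneralLinearGroup k M)}

/-- A unipotent subgroup of `G` normalised by `G` is trivial. -/
theorem unipotent_normal_bot (hG : IsQuadraticPair G) {U : Subgroup (GeneralLinearGroup k M)}
    (hu : IsUnipotentOn U) (hconj : ∀ g ∈ G, conjBy U g ≤ U) : U = ⊥ := by
  obtain ⟨n, hn⟩ := unipotent_iff.mp hu
  obtain ⟨⟨m₀, hm₀⟩, hirr⟩ := hG.1
  have hex : ∃ v : M, v ≠ 0 ∧ ∀ Z ∈ ddSpan U, Z v = 0 := by
    induction n generalizing m₀ with
    | zero =>
      exfalso
      rw [pow_zero] at hn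
      have h1 : (1 : Module.End k M) ∈ (⊥ : Submodule k (Module.End k M)) := hn ▸ Submodule.one_le.mp le_rfl
      rw [Submodule.mem_bot] at h1
      exact hm₀ (LinearMap.congr_fun h1 m₀)
    | succ n ih =>
      by_cases h0 : ddSpan U ^ n = ⊥
      · exact ih h0 m₀ hm₀
      obtain ⟨P, hP, hP0⟩ := Submodule.exists_mem_ne_zero_of_ne_bot h0
      obtain ⟨v, hv⟩ : ∃ v, P v ≠ 0 := by
        by_contra h; push Not at h; exact hP0 (LinearMap.ext h)
      refine ⟨P v, hv, fun Z hZ => ?_⟩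
      have h1 : Z * P ∈ ddSpan U ^ (n + 1) := by rw [pow_succ']; exact Submodule.mul_mem_mul hZ hP
      rw [hn, Submodule.mem_bot] at h1
      exact LinearMap.congr_fun h1 v
  obtain ⟨v, hv, hfix⟩ := hex
  let Fx : Submodule k M :=
    { carrier := {m | ∀ Z ∈ ddSpan U, Z m = 0}
      add_mem' := fun {a b} ha hb Z hZ => by rw [map_add, ha Z hZ, hb Z hZ, add_zero]
      zero_mem' := fun Z _ => map_zero Z
      smul_mem' := fun c a ha Z hZ => by rw [map_smul, ha Z hZ, smul_zero] }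
  have hstab : ∀ g ∈ G, ∀ w ∈ Fx, (g : M →ₗ[k] M) w ∈ Fx := by
    intro g hg w hw Z hZ
    refine Submodule.span_induction (p := fun Z _ => Z ((g : M →ₗ[k] M) w) = 0) ?_ (by simp)
      (fun a b _ _ ha hb => by rw [LinearMap.add_apply, ha, hb, add_zero])
      (fun c a _ ha => by rw [LinearMap.smul_apply, ha, smul_zero]) hZ
    rintro _ ⟨x, hx, rfl⟩
    have hx' : g⁻¹ * x * g ∈ U := by
      have := hconj g⁻¹ (inv_mem hg) (RankOne.conj_mem_conjBy (g := g⁻¹) hx)
      simpa using this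
    have h1 := hw _ (dd_mem_span hx')
    have e := dd_conjE g (g⁻¹ * x * g)
    rw [show g * (g⁻¹ * x * g) * g⁻¹ = x by group] at e
    rw [e]
    show conjE g _ ((g : Module.End k M) w) = 0
    rw [conjE, Module.End.mul_apply, Module.End.mul_apply, ← Module.End.mul_apply _ (g : Module.End k M) w,
      Units.inv_mul, Module.End.one_apply, h1, map_zero]
  rcases hirr Fx hstab with h | h
  · exact absurd ((Submodule.eq_bot_iff _).mp h v hfix) hv
  · refine (Subgroup.eq_bot_iff_forall _).mpr fun x hx => dd_eq_zero.mp (LinearMap.ext fun m => ?_)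
    exact (h ▸ Submodule.mem_top : m ∈ Fx) _ (dd_mem_span hx)

theorem conjBy_le_of {H : Type*} [Group H] {U : Subgroup H} {g : H} (h : ∀ x ∈ U, g * x * g⁻¹ ∈ U) : conjBy U g ≤ U := by
  intro y hy
  have := h _ (RankOne.mem_conjBy.mp hy)
  simpa [mul_assoc] using this

theorem gen_conj_le {W : Set (Subgroup (GeneralLinearGroup k M))} {g : GeneralLinearGroup k M}
    (h : ∀ A ∈ W, conjBy A g ∈ W) : conjBy (gen W) g ≤ gen W := by
  show (gen W).map _ ≤ _
  rw [gen, Subgroup.map_iSup]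
  simp only [Subgroup.map_iSup]
  exact iSup₂_le fun A hA => le_gen (h A hA)

/-- The property that the group has no unipotent normal subgroup is inherited by normal subgroups. -/
theorem descend {H : Subgroup (GeneralLinearGroup k M)} {N : Subgroup (GeneralLinearGroup k M)}
    (hH : ∀ U, U ≤ H → IsUnipotentOn U → (∀ g ∈ H, conjBy U g ≤ U) → U = ⊥) (hNH : N ≤ H)
    (hN : ∀ g ∈ H, conjBy N g ≤ N) {U : Subgroup (GeneralLinearGroup k M)} (hUN : U ≤ N) (hu : IsUnipotentOn U)
    (hn : ∀ g ∈ N, conjBy U g ≤ U) : U = ⊥ := by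
  set W : Set (Subgroup (GeneralLinearGroup k M)) := {A | ∃ g ∈ H, A = conjBy U g} with hW
  have hle : ∀ A ∈ W, A ≤ H := by
    rintro _ ⟨g, hg, rfl⟩ y hy
    have := mul_mem (mul_mem hg (hNH (hUN (RankOne.mem_conjBy.mp hy)))) (inv_mem hg)
    simpa [mul_assoc] using this
  have huc : ∀ g, IsUnipotentOn (conjBy U g) := by
    intro g
    obtain ⟨n, hn'⟩ := unipotent_iff.mp hu
    refine unipotent_iff.mpr ⟨n, eq_bot_iff.mpr ?_⟩
    have hmap : ∀ Z ∈ ddSpan (conjBy U g), conjE g⁻¹ Z ∈ ddSpan U := by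
      intro Z hZ
      refine Submodule.span_induction (p := fun Z _ => conjE g⁻¹ Z ∈ ddSpan U) ?_ ?_ ?_ ?_ hZ
      · rintro _ ⟨x, hx, rfl⟩
        rw [← dd_conjE, inv_inv]
        exact dd_mem_span (RankOne.mem_conjBy.mp hx)
      · simp [conjE]
      · intro a b _ _ ha hb
        rw [show conjE g⁻¹ (a + b) = conjE g⁻¹ a + conjE g⁻¹ b by simp [conjE, mul_add, add_mul]]
        exact add_mem ha hb
      · intro c a _ ha
        rw [conjE_smul]; exact Submodule.smul_mem _ c ha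
    have hpow : ∀ i : ℕ, ∀ Z ∈ ddSpan (conjBy U g) ^ i, conjE g⁻¹ Z ∈ ddSpan U ^ i := by
      intro i
      induction i with
      | zero =>
        intro Z hZ
        rw [pow_zero] at hZ ⊢
        obtain ⟨c, rfl⟩ := Submodule.mem_one.mp hZ
        refine Submodule.mem_one.mpr ⟨c, ?_⟩
        rw [Algebra.algebraMap_eq_smul_one, conjE_smul, show conjE g⁻¹ (1 : Module.End k M) = 1 by simp [conjE]]
      | succ i ih =>
        intro Z hZ
        rw [pow_succ] at hZ ⊢
        refine Submodule.mul_induction_on hZ (fun a ha b hb => ?_) fun a b ha hb => ?_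
        · rw [← conjE_mul]; exact Submodule.mul_mem_mul (ih a ha) (hmap b hb)
        · rw [show conjE g⁻¹ (a + b) = conjE g⁻¹ a + conjE g⁻¹ b by simp [conjE, mul_add, add_mul]]
          exact add_mem ha hb
    intro Z hZ
    have := hpow n Z hZ
    rw [hn', Submodule.mem_bot, conjE_eq_zero] at this
    rw [this]; exact zero_mem _
  have hpair : ∀ A ∈ W, ∀ B ∈ W, IsUnipotentOn (A ⊔ B) := by
    rintro _ ⟨g, hg, rfl⟩ _ ⟨g', hg', rfl⟩
    refine unipotent_sup (huc g) (huc g') fun x hx d hd => ?_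
    have hxN : x ∈ N := hN g' hg' (Subgroup.map_mono hUN hx)
    have h1 : g⁻¹ * x * g ∈ N := by
      have := hN g⁻¹ (inv_mem hg) (RankOne.conj_mem_conjBy (g := g⁻¹) hxN)
      simpa using this
    have h2 := hn _ h1 (RankOne.conj_mem_conjBy (g := g⁻¹ * x * g) (RankOne.mem_conjBy.mp hd))
    rw [RankOne.mem_conjBy]
    convert h2 using 1
    group
  have hconj : ∀ A ∈ W, ∀ h ∈ H, conjBy A h ∈ W := by
    rintro _ ⟨g, hg, rfl⟩ h hh
    exact ⟨h * g, mul_mem hh hg, RankOne.conjBy_conjBy U g h⟩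
  have h0 := hH (gen W) (iSup₂_le hle) (gen_unipotent hle hpair hconj) fun g hg => gen_conj_le fun A hA => hconj A hA g hg
  refine eq_bot_iff.mpr ?_
  rw [← h0]
  exact le_gen (C := W) ⟨1, one_mem _, (RankOne.conjBy_one U).symm⟩

/-- Conjugacy under the group generated by the root groups. -/
def Rel (G : Subgroup (GeneralLinearGroup k M)) (A B : Subgroup (GeneralLinearGroup k M)) : Prop :=
  ∃ g ∈ rootsGen G, B = conjBy A g

theorem Rel.refl (A : Subgroup (GeneralLinearGroup k M)) : Rel G A A := ⟨1, one_mem _, (RankOne.conjBy_one A).symm⟩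

theorem Rel.symm {A B : Subgroup (GeneralLinearGroup k M)} (h : Rel G A B) : Rel G B A := by
  obtain ⟨g, hg, rfl⟩ := h
  exact ⟨g⁻¹, inv_mem hg, by rw [RankOne.conjBy_conjBy, inv_mul_cancel, RankOne.conjBy_one]⟩

theorem Rel.trans {A B C : Subgroup (GeneralLinearGroup k M)} (h : Rel G A B) (h' : Rel G B C) : Rel G A C := by
  obtain ⟨g, hg, rfl⟩ := h
  obtain ⟨g', hg', rfl⟩ := h'
  exact ⟨g' * g, mul_mem hg' hg, RankOne.conjBy_conjBy A g g'⟩

/-- The class of a root group. -/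
def classOf (G : Subgroup (GeneralLinearGroup k M)) (A : Subgroup (GeneralLinearGroup k M)) :
    Set (Subgroup (GeneralLinearGroup k M)) := {B | B ∈ quadraticRootSubgroups G ∧ Rel G A B}

theorem rel_of_linked {σ τ : GeneralLinearGroup k M} (hσ : σ ∈ minimalQuadraticElements G)
    (hτ : τ ∈ minimalQuadraticElements G) (h : Linked G (dd σ) (dd τ)) :
    Rel G (sameActionSubgroup G σ) (sameActionSubgroup G τ) := by
  obtain ⟨g, hg, e⟩ := h
  obtain ⟨h1, h2⟩ := conjBy_root_group hσ (roots_le hg)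
  refine ⟨g, hg, ?_⟩
  rw [h2]
  exact (root_group_eq hτ h1 (by rw [dd_conjE]; exact e)).symm

theorem rel_of_ne (hk2 : ringChar k ≠ 2) (hk3 : Nat.card k ≠ 3) (hG : IsQuadraticPair G)
    {A B : Subgroup (GeneralLinearGroup k M)} (hA : A ∈ quadraticRootSubgroups G) (hB : B ∈ quadraticRootSubgroups G)
    (hne : ⁅A, B⁆ ≠ ⊥) : Rel G A B := by
  obtain ⟨σ, hσ, rfl⟩ := hA
  obtain ⟨τ, hτ, rfl⟩ := hB
  refine rel_of_linked hσ hτ (linked_of_ne hk2 hk3 hG (root_of_minimal hσ) (root_of_minimal hτ) fun h => hne ?_)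
  rw [sub_eq_zero] at h
  rw [RankOne.commutator_eq_bot_iff]
  exact fun a ha b hb => commute_iff.mpr (sp_commute_all hk2 (root_of_minimal hσ) (root_of_minimal hτ) h
    ((mem_root_group hσ).mp ha).2 ((mem_root_group hτ).mp hb).2)

theorem comm_case_rel (hk2 : ringChar k ≠ 2) (hk3 : Nat.card k ≠ 3) (hG : IsQuadraticPair G)
    {σ τ : GeneralLinearGroup k M} (hσ : σ ∈ minimalQuadraticElements G) (hτ : τ ∈ minimalQuadraticElements G)
    (hN : IsNilpotent (dd σ * dd τ)) (hne : dd σ * dd τ - dd τ * dd σ ≠ 0) :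
    Rel G (sameActionSubgroup G σ) ⁅sameActionSubgroup G σ, sameActionSubgroup G τ⁆ := by
  have hX := root_of_minimal hσ
  have hY := root_of_minimal hτ
  obtain ⟨n1, n2⟩ := nilp_all hk2 hk3 hX hY hN (self_mem_sp hX) (self_mem_sp hY)
  obtain ⟨⟨ρ, hρ, e⟩, -, -, -, -, -, -⟩ := core_of hk2 hk3 hG hσ hτ hN hne
  rw [e]
  refine rel_of_linked hσ hρ ?_
  have hmem : σ * τ * σ⁻¹ * τ⁻¹ ∈ sameActionSubgroup G ρ :=
    e ▸ Subgroup.commutator_mem_commutator (self_mem_group hσ) (self_mem_group hτ)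
  have hdd : dd (σ * τ * σ⁻¹ * τ⁻¹) = dd σ * dd τ - dd τ * dd σ := dd_comm hX.sq hY.sq n1 n2 rfl rfl
  have hs := sp_eq (root_of_minimal hρ) (hdd ▸ ((mem_root_group hρ).mp hmem).2) hne
  obtain ⟨g, hg, eg⟩ := linked_comm hk2 hk3 hG hX hY hN hne
  exact ⟨g, hg, eg.trans hs⟩

section Part

variable {A₀ : Subgroup (GeneralLinearGroup k M)}

theorem classOf_conj {A : Subgroup (GeneralLinearGroup k M)} (hA : A ∈ classOf G A₀) {g : GeneralLinearGroup k M}
    (hg : g ∈ rootsGen G) : conjBy A g ∈ classOf G A₀ :=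
  ⟨conj_mem_roots hA.1 (roots_le hg), hA.2.trans ⟨g, hg, rfl⟩⟩

theorem class_le (A₀ : Subgroup (GeneralLinearGroup k M)) : gen (classOf G A₀) ≤ rootsGen G :=
  iSup₂_le fun A hA => le_iSup₂ (f := fun B (_ : B ∈ quadraticRootSubgroups G) => B) A hA.1

theorem class_commute (hk2 : ringChar k ≠ 2) (hk3 : Nat.card k ≠ 3) (hG : IsQuadraticPair G)
    {A B : Subgroup (GeneralLinearGroup k M)} (hA : A ∈ classOf G A₀) (hB : B ∈ quadraticRootSubgroups G)
    (hnB : ¬ Rel G A₀ B) : ⁅A, B⁆ = ⊥ := by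
  by_contra h
  exact hnB (hA.2.trans (rel_of_ne hk2 hk3 hG hA.1 hB h))

theorem inner (hk2 : ringChar k ≠ 2) (hk3 : Nat.card k ≠ 3) (hG : IsQuadraticPair G) {g : GeneralLinearGroup k M}
    (hg : g ∈ rootsGen G) :
    ∃ h ∈ gen (classOf G A₀), ∀ x ∈ gen (classOf G A₀), g * x * g⁻¹ = h * x * h⁻¹ := by
  have hgen : rootsGen G = Subgroup.closure (⋃ A ∈ quadraticRootSubgroups G, (A : Set (GeneralLinearGroup k M))) := by
    simp only [rootsGen, Subgroup.closure_iUnion, Subgroup.closure_eq]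
  rw [hgen] at hg
  have base : ∀ x ∈ ⋃ A ∈ quadraticRootSubgroups G, (A : Set (GeneralLinearGroup k M)),
      ∃ h ∈ gen (classOf G A₀), ∀ y ∈ gen (classOf G A₀), x * y * x⁻¹ = h * y * h⁻¹ := by
    intro x hx
    simp only [Set.mem_iUnion, SetLike.mem_coe] at hx
    obtain ⟨B, hB, hxB⟩ := hx
    by_cases hr : Rel G A₀ B
    · exact ⟨x, le_gen (C := classOf G A₀) ⟨hB, hr⟩ hxB, fun y _ => rfl⟩
    · refine ⟨1, one_mem _, fun y hy => ?_⟩
      have hle : gen (classOf G A₀) ≤ Subgroup.centralizer (B : Set (GeneralLinearGroup k M)) :=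
        iSup₂_le fun A hA => Subgroup.commutator_eq_bot_iff_le_centralizer.mp (class_commute hk2 hk3 hG hA hB hr)
      rw [Subgroup.mem_centralizer_iff.mp (hle hy) x hxB]
      group
  induction hg using Subgroup.closure_induction'' with
  | one => exact ⟨1, one_mem _, fun y _ => rfl⟩
  | mem x hx => exact base x hx
  | inv_mem x hx =>
    refine base x⁻¹ ?_
    simp only [Set.mem_iUnion, SetLike.mem_coe] at hx ⊢
    obtain ⟨B, hB, hxB⟩ := hx
    exact ⟨B, hB, inv_mem hxB⟩
  | mul a b _ _ iha ihb =>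
    obtain ⟨ha, hha, ea⟩ := iha
    obtain ⟨hb, hhb, eb⟩ := ihb
    refine ⟨ha * hb, mul_mem hha hhb, fun y hy => ?_⟩
    have hy' : hb * y * hb⁻¹ ∈ gen (classOf G A₀) := mul_mem (mul_mem hhb hy) (inv_mem hhb)
    calc a * b * y * (a * b)⁻¹ = a * (b * y * b⁻¹) * a⁻¹ := by group
      _ = ha * (hb * y * hb⁻¹) * ha⁻¹ := by rw [eb y hy, ea _ hy']
      _ = _ := by group

theorem class_inner_conj (hk2 : ringChar k ≠ 2) (hk3 : Nat.card k ≠ 3) (hG : IsQuadraticPair G)
    {A B : Subgroup (GeneralLinearGroup k M)} (hA : A ∈ classOf G A₀) (hB : B ∈ classOf G A₀) :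
    ∃ h ∈ gen (classOf G A₀), B = conjBy A h := by
  obtain ⟨g, hg, rfl⟩ := hA.2.symm.trans hB.2
  obtain ⟨h, hh, e⟩ := inner (A₀ := A₀) hk2 hk3 hG hg
  refine ⟨h, hh, Subgroup.ext fun y => ⟨?_, ?_⟩⟩
  · rintro ⟨x, hx, rfl⟩
    exact ⟨x, hx, (e x (le_gen hA hx)).symm⟩
  · rintro ⟨x, hx, rfl⟩
    exact ⟨x, hx, e x (le_gen hA hx)⟩

theorem class_no_unipotent (hk2 : ringChar k ≠ 2) (hk3 : Nat.card k ≠ 3) (hG : IsQuadraticPair G)
    (A₀ : Subgroup (GeneralLinearGroup k M)) :
    ∀ U, U ≤ gen (classOf G A₀) → IsUnipotentOn U → (∀ g ∈ gen (classOf G A₀), conjBy U g ≤ U) → U = ⊥ := by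
  have hroots : ∀ U, U ≤ rootsGen G → IsUnipotentOn U → (∀ g ∈ rootsGen G, conjBy U g ≤ U) → U = ⊥ := fun U hU hu hn =>
    descend (fun V _ hV hVn => unipotent_normal_bot hG hV hVn) roots_le
      (fun g hg => gen_conj_le fun A hA => conj_mem_roots hA hg) hU hu hn
  intro U hU hu hn
  exact descend hroots (class_le A₀) (fun g hg => gen_conj_le fun A hA => classOf_conj hA hg) hU hu hn

theorem exists_opposite_class (hk2 : ringChar k ≠ 2) (hk3 : Nat.card k ≠ 3) (hG : IsQuadraticPair G)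
    {σ : GeneralLinearGroup k M} (hσ : σ ∈ minimalQuadraticElements G)
    (hA : sameActionSubgroup G σ ∈ classOf G A₀) :
    ∃ τ ∈ minimalQuadraticElements G, sameActionSubgroup G τ ∈ classOf G A₀ ∧ dd σ * dd τ * dd σ = dd σ ∧
      dd τ * dd σ * dd τ = dd τ ∧ ¬ IsNilpotent (dd σ * dd τ) := by
  obtain ⟨R, hR, h1, h2, -⟩ := exists_opposite hk2 hk3 hG (root_of_minimal hσ)
  obtain ⟨τ, hτ, rfl⟩ := exists_minimal hR
  have hN : ¬ IsNilpotent (dd σ * dd τ) := by
    rintro ⟨j, hj⟩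
    have e : ∀ i : ℕ, (dd σ * dd τ) ^ i * dd σ = dd σ := by
      intro i
      induction i with
      | zero => rw [pow_zero, one_mul]
      | succ i ih => rw [pow_succ, mul_assoc, h1, ih]
    exact (root_of_minimal hσ).ne (by rw [← e j, hj, zero_mul])
  exact ⟨τ, hτ, ⟨⟨τ, hτ, rfl⟩, hA.2.trans (rel_of_linked hσ hτ
    (linked_of_good hk2 hk3 (root_of_minimal hσ) hR hN))⟩, h1, h2, hN⟩

/-- The torus of an exact pair scales the space. -/
theorem torus_scale (hk2 : ringChar k ≠ 2) (hk3 : Nat.card k ≠ 3) {X R : Module.End k M} (hX : IsRoot G X)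
    (hR : IsRoot G R) (hXRX : X * R * X = X) (hN : ¬ IsNilpotent (X * R)) {t : k} (ht : t ≠ 0) :
    ∃ h ∈ twoFam X R, ∀ Z ∈ sp G X, conjE h Z = (t * t) • Z := by
  obtain ⟨f, P⟩ := exists_good hk2 hk3 hX hR hN
  have : Fact (Irreducible f) := ⟨P.irr⟩
  have hroot : AdjoinRoot.root f = 1 := by
    rw [← AdjoinRoot.mk_X, ← map_one (AdjoinRoot.mk f), AdjoinRoot.mk_eq_mk, ← P.iff_dvd, map_sub, sub_mul,
      show pev X R Polynomial.X = X * R from Polynomial.aeval_X _, map_one, one_mul, hXRX, sub_self]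
  have htK : algebraMap k (AdjoinRoot f) t ≠ 0 := by simpa using ht
  refine ⟨P.psi (dg _ htK), (P.range_psi hk2 hk3).le ⟨_, rfl⟩, fun Z hZ => ?_⟩
  have hdd : dd (P.psi (dg _ htK)) = (t - 1) • (X * R) + (t⁻¹ - 1) • (R * X) := by
    rw [P.dd_psi_eq (p := Polynomial.C (t - 1)) (q := 0) (r := 0) (s := Polynomial.C (t⁻¹ - 1))
      (by simp [dg_coe, hroot]) (by simp [dg_coe]) (by simp [dg_coe, hroot]) (by simp [dg_coe, hroot])]
    simp only [quad, pev, map_zero, zero_mul, mul_zero, add_zero, Polynomial.aeval_C, ← Algebra.smul_def]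
    rw [← Algebra.commutes, ← Algebra.smul_def, smul_mul_assoc]
  have hdi : dd (P.psi (dg _ htK))⁻¹ = (t⁻¹ - 1) • (X * R) + (t - 1) • (R * X) := by
    rw [← map_inv, dg_inv, P.dd_psi_eq (p := Polynomial.C (t⁻¹ - 1)) (q := 0) (r := 0) (s := Polynomial.C (t - 1))
      (by simp [dg_coe, hroot]) (by simp [dg_coe]) (by simp [dg_coe, hroot]) (by simp [dg_coe, hroot])]
    simp only [quad, pev, map_zero, zero_mul, mul_zero, add_zero, Polynomial.aeval_C, ← Algebra.smul_def]
    rw [← Algebra.commutes, ← Algebra.smul_def, smul_mul_assoc]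
  have a1 : X * R * Z = Z := LinearMap.ext fun m => by
    obtain ⟨u, hu⟩ := sp_range hZ (LinearMap.mem_range_self Z m)
    rw [Module.End.mul_apply, ← hu]
    exact LinearMap.congr_fun hXRX u
  have a2 : R * X * Z = 0 := by rw [mul_assoc, mul_sp_eq_zero hZ hX.sq, mul_zero]
  have a3 : Z * (X * R) = 0 := by rw [← mul_assoc, sp_mul hX hZ (self_mem_sp hX), zero_mul]
  have a4 : Z * (R * X) = Z := by
    have h1 : X * (1 - R * X) = 0 := by rw [mul_sub, mul_one, ← mul_assoc, hXRX, sub_self]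
    have := sp_mul_eq_zero hZ h1
    rw [mul_sub, mul_one, sub_eq_zero] at this
    exact this.symm
  rw [conjE, coe_eq, coe_eq ((P.psi (dg _ htK))⁻¹), hdd, hdi]
  have e1 : (1 + ((t - 1) • (X * R) + (t⁻¹ - 1) • (R * X))) * Z = t • Z := by
    simp only [add_mul, one_mul, smul_mul_assoc, a1, a2, smul_zero, add_zero]
    module
  rw [e1]
  simp only [mul_add, mul_one, mul_smul_comm, smul_mul_assoc, a3, a4, smul_zero, zero_add]
  module

/-- The commutator of an element scaling a root space with an element of the root group. -/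
theorem dd_comm_scale {X : Module.End k M} (hX : IsRoot G X) {h a : GeneralLinearGroup k M} {c : k}
    (ha : dd a ∈ sp G X) (hscale : conjE h (dd a) = c • dd a) : dd (h * a * h⁻¹ * a⁻¹) = (c - 1) • dd a := by
  have hsq : dd a * dd a = 0 := sp_mul hX ha ha
  rw [dd_mul (h * a * h⁻¹), dd_conjE, dd_inv hsq, hscale, mul_neg, smul_mul_assoc, hsq, smul_zero, neg_zero, add_zero,
    sub_smul, one_smul, sub_eq_add_neg]

theorem root_group_normal_sub (hk2 : ringChar k ≠ 2) (hk3 : Nat.card k ≠ 3) (hG : IsQuadraticPair G)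
    {N : Subgroup (GeneralLinearGroup k M)} (hN : ∀ g ∈ gen (classOf G A₀), conjBy N g ≤ N)
    {ρ : GeneralLinearGroup k M} (hρ : ρ ∈ minimalQuadraticElements G)
    (hA : sameActionSubgroup G ρ ∈ classOf G A₀) (hρN : ρ ∈ N) : sameActionSubgroup G ρ ≤ N := by
  obtain ⟨τ, hτ, hτA, h1, -, hnil⟩ := exists_opposite_class hk2 hk3 hG hρ hA
  obtain ⟨b, hb, hb2⟩ := exists_scalar (Ring.two_ne_zero hk2) hk3
  have hX := root_of_minimal hρ
  have hR := root_of_minimal hτ
  obtain ⟨f, P⟩ := exists_good hk2 hk3 hX hR hnil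
  have : Fact (Irreducible f) := ⟨P.irr⟩
  have hfam : twoFam (dd ρ) (dd τ) ≤ gen (classOf G A₀) := by
    rw [twoFam, Subgroup.closure_le]
    rintro g (⟨c, hc⟩ | ⟨c, hc⟩)
    · refine le_gen hA ((mem_root_group hρ).mpr ⟨?_, hc ▸ Submodule.smul_mem _ c (self_mem_sp hX)⟩)
      exact twoFam_le hX hR (Subgroup.subset_closure (Or.inl ⟨c, hc⟩))
    · refine le_gen hτA ((mem_root_group hτ).mpr ⟨?_, hc ▸ Submodule.smul_mem _ c (self_mem_sp hR)⟩)
      exact twoFam_le hX hR (Subgroup.subset_closure (Or.inr ⟨c, hc⟩))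
  have hpsi : ∀ z, P.psi z ∈ gen (classOf G A₀) := fun z => hfam ((P.range_psi hk2 hk3).le ⟨z, rfl⟩)
  have : (N.comap P.psi).Normal := ⟨fun n hn z => by
    have := hN _ (hpsi z) (RankOne.conj_mem_conjBy (g := P.psi z) (Subgroup.mem_comap.mp hn))
    rwa [Subgroup.mem_comap, map_mul, map_mul, map_inv]⟩
  obtain ⟨u, hu⟩ : ρ ∈ P.psi.range :=
    (P.range_psi hk2 hk3).ge (Subgroup.subset_closure (Or.inl ⟨1, (one_smul _ _).symm⟩))
  obtain ⟨v, hv⟩ : τ ∈ P.psi.range :=
    (P.range_psi hk2 hk3).ge (Subgroup.subset_closure (Or.inr ⟨1, (one_smul _ _).symm⟩))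
  have htop := sl_normal_top (K := AdjoinRoot f) (b := algebraMap k _ b) (by simpa using hb)
    (fun h => hb2 ((algebraMap k (AdjoinRoot f)).injective (by rw [map_mul, h, map_one])))
    (P := N.comap P.psi) (g := u) (h := v) (by rw [Subgroup.mem_comap, hu]; exact hρN) (fun e => by
      refine hX.ne ?_
      have e' := congrArg P.psi e
      rw [map_mul, map_mul, hu, hv] at e'
      rw [← h1, commute_iff.mp e', mul_assoc, hX.sq, mul_zero])
  obtain ⟨h, hh, hscale⟩ := torus_scale hk2 hk3 hX hR h1 hnil hb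
  have hhN : h ∈ N := by
    obtain ⟨z, rfl⟩ := (P.range_psi hk2 hk3).ge hh
    exact Subgroup.mem_comap.mp (htop.ge (Subgroup.mem_top z))
  intro a ha
  obtain ⟨haG, hZ⟩ := (mem_root_group hρ).mp ha
  have hne : b * b - 1 ≠ 0 := sub_ne_zero.mpr hb2
  obtain ⟨a', ha', ea'⟩ := (sp_fam (Submodule.smul_mem _ (b * b - 1)⁻¹ hZ)).exists_mem
  have ha'A : a' ∈ sameActionSubgroup G ρ := (mem_root_group hρ).mpr ⟨ha', ea' ▸ Submodule.smul_mem _ _ hZ⟩
  have hw : h * a' * h⁻¹ * a'⁻¹ ∈ N := by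
    have h5 := hN a' (le_gen hA ha'A) (RankOne.conj_mem_conjBy (g := a') (inv_mem hhN))
    have h6 := mul_mem hhN h5
    simpa [mul_assoc] using h6
  convert hw using 1
  refine dd_injective ?_
  rw [dd_comm_scale hX (ea' ▸ Submodule.smul_mem _ _ hZ) (hscale _ (ea' ▸ Submodule.smul_mem _ _ hZ)), ea', smul_smul,
    mul_inv_cancel₀ hne, one_smul]

/-- A normal subgroup of a class group is central or everything. -/
theorem normal_dichotomy' (hk2 : ringChar k ≠ 2) (hk3 : Nat.card k ≠ 3) (hG : IsQuadraticPair G)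
    {N : Subgroup (GeneralLinearGroup k M)} (hNle : N ≤ gen (classOf G A₀))
    (hN : ∀ g ∈ gen (classOf G A₀), conjBy N g ≤ N) :
    (∀ n ∈ N, ∀ x ∈ gen (classOf G A₀), n * x = x * n) ∨ N = gen (classOf G A₀) := by
  classical
  by_cases hall : ∀ T ∈ classOf G A₀, ∀ n ∈ N, ⁅T, conjBy T n⁆ = ⊥
  · left
    have key : ∀ T ∈ classOf G A₀, ∀ n ∈ N, ∀ a ∈ T, n * a = a * n := by
      intro T hT
      set W : Set (Subgroup (GeneralLinearGroup k M)) := {A | ∃ n ∈ N, A = conjBy T n} with hW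
      have hWc : ∀ A ∈ W, A ∈ classOf G A₀ := by
        rintro _ ⟨n, hn, rfl⟩; exact classOf_conj hT (class_le A₀ (hNle hn))
      have hcom : ∀ A ∈ W, ∀ B ∈ W, ⁅A, B⁆ = ⊥ := by
        rintro _ ⟨n, hn, rfl⟩ _ ⟨n', hn', rfl⟩
        have h := hall T hT (n⁻¹ * n') (mul_mem (inv_mem hn) hn')
        have h2 := congrArg (fun H : Subgroup (GeneralLinearGroup k M) => conjBy H n) h
        simp only [RankOne.conjBy_bot] at h2
        rwa [conjBy, Subgroup.map_commutator, ← conjBy, ← conjBy, RankOne.conjBy_conjBy, mul_inv_cancel_left] at h2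
      have hpair : ∀ A ∈ W, ∀ B ∈ W, IsUnipotentOn (A ⊔ B) := by
        intro A hA B hB
        obtain ⟨σ, hσ, rfl⟩ := (hWc A hA).1
        obtain ⟨τ, hτ, rfl⟩ := (hWc B hB).1
        refine unipotent_groups hk2 hk3 hσ hτ ?_
        have hc := (RankOne.commutator_eq_bot_iff.mp (hcom _ hA _ hB)) σ (self_mem_group hσ) τ (self_mem_group hτ)
        refine ⟨2, ?_⟩
        rw [pow_two, mul_assoc, ← mul_assoc (dd τ), ← commute_iff.mp hc, mul_assoc (dd σ) (dd τ),
          (root_of_minimal hτ).sq, mul_zero, mul_zero]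
      have hgu : IsUnipotentOn (gen W) := by
        refine gen_unipotent (G := gen W) (fun A hA => le_gen hA) hpair fun A hA g hg => ?_
        have hfix : conjBy A g = A := by
          refine RankOne.conjBy_eq_self_of_commute fun a ha => ?_
          have hle : gen W ≤ Subgroup.centralizer (A : Set (GeneralLinearGroup k M)) :=
            iSup₂_le fun B hB => Subgroup.commutator_eq_bot_iff_le_centralizer.mp (hcom B hB A hA)
          exact (Subgroup.mem_centralizer_iff.mp (hle hg) a ha).symm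
        rw [hfix]; exact hA
      have hconjW : ∀ n ∈ N, conjBy (gen W) n ≤ gen W := fun n hn => gen_conj_le fun A hA => by
        obtain ⟨n', hn', rfl⟩ := hA
        exact ⟨n * n', mul_mem hn hn', RankOne.conjBy_conjBy T n' n⟩
      have hbot := descend (class_no_unipotent hk2 hk3 hG A₀) hNle hN (U := gen W ⊓ N) inf_le_right
        (unipotent_mono inf_le_left hgu) fun n hn => conjBy_le_of fun x hx =>
          Subgroup.mem_inf.mpr ⟨hconjW n hn (RankOne.conj_mem_conjBy (Subgroup.mem_inf.mp hx).1),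
            mul_mem (mul_mem hn (Subgroup.mem_inf.mp hx).2) (inv_mem hn)⟩
      intro n hn a ha
      have haW : a ∈ gen W := le_gen (C := W) ⟨1, one_mem _, (RankOne.conjBy_one T).symm⟩ ha
      have h1 : n * a * n⁻¹ * a⁻¹ ∈ gen W := mul_mem (le_gen (C := W) ⟨n, hn, rfl⟩ (RankOne.conj_mem_conjBy ha)) (inv_mem haW)
      have h2 : n * a * n⁻¹ * a⁻¹ ∈ N := by
        have h3 := hN a (le_gen hT ha) (RankOne.conj_mem_conjBy (g := a) (inv_mem hn))
        simpa [mul_assoc] using mul_mem hn h3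
      have h4 : n * a * n⁻¹ * a⁻¹ ∈ gen W ⊓ N := ⟨h1, h2⟩
      rw [hbot, Subgroup.mem_bot, mul_inv_eq_one] at h4
      exact mul_inv_eq_iff_eq_mul.mp h4
    intro n hn x hx
    have hle : gen (classOf G A₀) ≤ Subgroup.centralizer {n} := iSup₂_le fun T hT a ha =>
      Subgroup.mem_centralizer_singleton_iff.mpr (key T hT n hn a ha).symm
    exact (Subgroup.mem_centralizer_singleton_iff.mp (hle hx)).symm
  · right
    push Not at hall
    obtain ⟨T, hT, n, hn, hne⟩ := hall
    obtain ⟨σ, hσ, rfl⟩ := hT.1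
    have hnG : n ∈ rootsGen G := class_le A₀ (hNle hn)
    obtain ⟨hτ, hTn⟩ := conjBy_root_group hσ (roots_le hnG)
    have hTn' : sameActionSubgroup G (n * σ * n⁻¹) ∈ classOf G A₀ := hTn ▸ classOf_conj hT hnG
    set τ := n * σ * n⁻¹ with hτdef
    rw [hTn] at hne
    have hX := root_of_minimal hσ
    have hY := root_of_minimal hτ
    have hne' : dd σ * dd τ - dd τ * dd σ ≠ 0 := fun h => hne (by
      rw [sub_eq_zero] at h
      rw [RankOne.commutator_eq_bot_iff]
      exact fun a ha b hb => commute_iff.mpr (sp_commute_all hk2 hX hY h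
        ((mem_root_group hσ).mp ha).2 ((mem_root_group hτ).mp hb).2))
    have hm : σ⁻¹ * τ ∈ N := by
      have h3 := hN σ⁻¹ (inv_mem (le_gen hT (self_mem_group hσ))) (RankOne.conj_mem_conjBy (g := σ⁻¹) hn)
      have h4 := mul_mem h3 (inv_mem hn)
      simpa [hτdef, mul_assoc] using h4
    obtain ⟨ρ, hρ, hρA, hρN⟩ : ∃ ρ ∈ minimalQuadraticElements G,
        sameActionSubgroup G ρ ∈ classOf G A₀ ∧ ρ ∈ N := by
      by_cases hnil : IsNilpotent (dd σ * dd τ)
      · obtain ⟨hD, -, -, -, -, hz, -⟩ := core_of hk2 hk3 hG hσ hτ hnil hne'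
        obtain ⟨ρ, hρ, e⟩ := id hD
        set c := τ * σ * τ⁻¹ * σ⁻¹ with hc
        have hcD : c ∈ ⁅sameActionSubgroup G σ, sameActionSubgroup G τ⁆ := by
          rw [Subgroup.commutator_comm]
          exact Subgroup.commutator_mem_commutator (self_mem_group hτ) (self_mem_group hσ)
        have hcN : c ∈ N := by
          have h3 := hN σ (le_gen hT (self_mem_group hσ)) (RankOne.conj_mem_conjBy (g := σ) (inv_mem hm))
          have h4 := mul_mem hm h3
          have e4 : σ⁻¹ * τ * (σ * (σ⁻¹ * τ)⁻¹ * σ⁻¹) = σ⁻¹ * c * σ := by rw [hc]; group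
          rw [e4] at h4
          have hzz := hz c hcD σ (Subgroup.mem_sup_left (self_mem_group hσ))
          rwa [mul_assoc, hzz, inv_mul_cancel_left] at h4
        obtain ⟨n1, n2⟩ := nilp_all hk2 hk3 hX hY hnil (self_mem_sp hX) (self_mem_sp hY)
        have hcdd : dd c = dd τ * dd σ - dd σ * dd τ := dd_comm hY.sq hX.sq n2 n1 rfl rfl
        rw [e] at hcD
        obtain ⟨hcG, hcs⟩ := (mem_root_group hρ).mp hcD
        have hc0 : dd c ≠ 0 := by rw [hcdd, ← neg_sub]; exact neg_ne_zero.mpr hne'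
        have hcr := (sp_root (root_of_minimal hρ) hcs hc0).1
        refine ⟨c, minimal_of_root hcG hcr, ?_, hcN⟩
        rw [root_group_eq hρ (minimal_of_root hcG hcr) (sp_eq (root_of_minimal hρ) hcs hc0), ← e]
        exact ⟨hD, hT.2.trans (comm_case_rel hk2 hk3 hG hσ hτ hnil hne')⟩
      · refine ⟨σ, hσ, hT, ?_⟩
        obtain ⟨b, hb, hb2⟩ := exists_scalar (Ring.two_ne_zero hk2) hk3
        obtain ⟨f, P⟩ := exists_good hk2 hk3 hX hY hnil
        have : Fact (Irreducible f) := ⟨P.irr⟩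
        obtain ⟨u, hu⟩ : σ ∈ P.psi.range :=
          (P.range_psi hk2 hk3).ge (Subgroup.subset_closure (Or.inl ⟨1, (one_smul _ _).symm⟩))
        obtain ⟨v, hv⟩ : τ ∈ P.psi.range :=
          (P.range_psi hk2 hk3).ge (Subgroup.subset_closure (Or.inr ⟨1, (one_smul _ _).symm⟩))
        have hpsi : ∀ z, P.psi z ∈ gen (classOf G A₀) := by
          have hfam : twoFam (dd σ) (dd τ) ≤ gen (classOf G A₀) := by
            rw [twoFam, Subgroup.closure_le]
            rintro g (⟨c, hc⟩ | ⟨c, hc⟩)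
            · refine le_gen hT ((mem_root_group hσ).mpr ⟨?_, hc ▸ Submodule.smul_mem _ c (self_mem_sp hX)⟩)
              exact twoFam_le hX hY (Subgroup.subset_closure (Or.inl ⟨c, hc⟩))
            · refine le_gen hTn' ((mem_root_group hτ).mpr ⟨?_, hc ▸ Submodule.smul_mem _ c (self_mem_sp hY)⟩)
              exact twoFam_le hX hY (Subgroup.subset_closure (Or.inr ⟨c, hc⟩))
          exact fun z => hfam ((P.range_psi hk2 hk3).le ⟨z, rfl⟩)
        have : (N.comap P.psi).Normal := ⟨fun m hm z => by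
          have := hN _ (hpsi z) (RankOne.conj_mem_conjBy (g := P.psi z) (Subgroup.mem_comap.mp hm))
          rwa [Subgroup.mem_comap, map_mul, map_mul, map_inv]⟩
        have htop := sl_normal_top (K := AdjoinRoot f) (b := algebraMap k _ b) (by simpa using hb)
          (fun h => hb2 ((algebraMap k (AdjoinRoot f)).injective (by rw [map_mul, h, map_one])))
          (P := N.comap P.psi) (g := u⁻¹ * v) (h := u)
          (by rw [Subgroup.mem_comap, map_mul, map_inv, hu, hv]; exact hm) (fun e => by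
            refine hne' (sub_eq_zero.mpr ?_)
            have e' := congrArg P.psi e
            simp only [map_mul, map_inv, hu, hv] at e'
            refine commute_iff.mp ?_
            calc σ * τ = σ * (σ * (σ⁻¹ * τ)) := by group
              _ = σ * (σ⁻¹ * τ * σ) := by rw [e']
              _ = τ * σ := by group)
        have := Subgroup.mem_comap.mp (htop.ge (Subgroup.mem_top u))
        rwa [hu] at this
    have hle := root_group_normal_sub hk2 hk3 hG hN hρ hρA hρN
    refine le_antisymm hNle (iSup₂_le fun B hB => ?_)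
    obtain ⟨h, hh, rfl⟩ := class_inner_conj hk2 hk3 hG hρA hB
    exact (Subgroup.map_mono hle).trans (hN h hh)

theorem class_perfect (hk2 : ringChar k ≠ 2) (hk3 : Nat.card k ≠ 3) (hG : IsQuadraticPair G)
    (A₀ : Subgroup (GeneralLinearGroup k M)) :
    gen (classOf G A₀) ≤ ⁅gen (classOf G A₀), gen (classOf G A₀)⁆ := by
  refine iSup₂_le fun A hA => ?_
  obtain ⟨σ, hσ, rfl⟩ := hA.1
  obtain ⟨τ, hτ, hτA, h1, -, hnil⟩ := exists_opposite_class hk2 hk3 hG hσ hA
  obtain ⟨b, hb, hb2⟩ := exists_scalar (Ring.two_ne_zero hk2) hk3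
  have hX := root_of_minimal hσ
  have hR := root_of_minimal hτ
  obtain ⟨h, hh, hscale⟩ := torus_scale hk2 hk3 hX hR h1 hnil hb
  have hhC : h ∈ gen (classOf G A₀) := by
    refine (Subgroup.closure_le _).mpr ?_ hh
    rintro g (⟨c, hc⟩ | ⟨c, hc⟩)
    · refine le_gen hA ((mem_root_group hσ).mpr ⟨?_, hc ▸ Submodule.smul_mem _ c (self_mem_sp hX)⟩)
      exact twoFam_le hX hR (Subgroup.subset_closure (Or.inl ⟨c, hc⟩))
    · refine le_gen hτA ((mem_root_group hτ).mpr ⟨?_, hc ▸ Submodule.smul_mem _ c (self_mem_sp hR)⟩)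
      exact twoFam_le hX hR (Subgroup.subset_closure (Or.inr ⟨c, hc⟩))
  intro a ha
  obtain ⟨haG, hZ⟩ := (mem_root_group hσ).mp ha
  have hne : b * b - 1 ≠ 0 := sub_ne_zero.mpr hb2
  obtain ⟨a', ha', ea'⟩ := (sp_fam (Submodule.smul_mem _ (b * b - 1)⁻¹ hZ)).exists_mem
  have ha'A : a' ∈ sameActionSubgroup G σ := (mem_root_group hσ).mpr ⟨ha', ea' ▸ Submodule.smul_mem _ _ hZ⟩
  convert Subgroup.commutator_mem_commutator hhC (le_gen hA ha'A) using 1
  refine dd_injective ?_
  rw [commutatorElement_def, dd_comm_scale hX (ea' ▸ Submodule.smul_mem _ _ hZ)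
    (hscale _ (ea' ▸ Submodule.smul_mem _ _ hZ)), ea', smul_smul, mul_inv_cancel₀ hne, one_smul]

set_option maxHeartbeats 1000000 in
theorem class_quasisimple (hk2 : ringChar k ≠ 2) (hk3 : Nat.card k ≠ 3) (hG : IsQuadraticPair G)
    (hA₀ : A₀ ∈ quadraticRootSubgroups G) : IsQuasisimple ↥(gen (classOf G A₀)) := by
  set H := gen (classOf G A₀) with hH
  have hperf : commutator H = ⊤ := by
    refine Subgroup.map_injective H.subtype_injective ?_
    rw [commutator_def, Subgroup.map_commutator, ← MonoidHom.range_eq_map, Subgroup.range_subtype]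
    exact le_antisymm (Subgroup.commutator_le.mpr fun a ha b hb =>
      mul_mem (mul_mem (mul_mem ha hb) (inv_mem ha)) (inv_mem hb)) (class_perfect hk2 hk3 hG A₀)
  obtain ⟨σ, hσ, rfl⟩ := id hA₀
  have hσC : sameActionSubgroup G σ ∈ classOf G (sameActionSubgroup G σ) := ⟨hA₀, Rel.refl _⟩
  obtain ⟨τ, hτ, hτA, h1, -, hnil⟩ := exists_opposite_class hk2 hk3 hG hσ hσC
  have hcent : Subgroup.center H ≠ ⊤ := by
    intro h
    have hs : (⟨σ, le_gen hσC (self_mem_group hσ)⟩ : H) ∈ Subgroup.center H := h ▸ Subgroup.mem_top _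
    have := congrArg Subtype.val (Subgroup.mem_center_iff.mp hs ⟨τ, le_gen hτA (self_mem_group hτ)⟩)
    refine (root_of_minimal hσ).ne ?_
    rw [← h1, commute_iff.mp (this.symm : σ * τ = τ * σ), mul_assoc, (root_of_minimal hσ).sq, mul_zero]
  refine ⟨Group.isPerfect_def.mpr hperf, ?_⟩
  have : Nontrivial (H ⧸ Subgroup.center H) := by
    rw [← not_subsingleton_iff_nontrivial, QuotientGroup.subsingleton_iff]
    exact hcent
  refine ⟨fun N hN => ?_⟩
  set N' := N.comap (QuotientGroup.mk' (Subgroup.center H)) with hN'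
  have hN'n : N'.Normal := hN.comap _
  have hdich := normal_dichotomy' hk2 hk3 hG (A₀ := sameActionSubgroup G σ) (N := N'.map H.subtype)
    (Subgroup.map_subtype_le _) (fun g hg => by
      rintro _ ⟨_, ⟨x, hx, rfl⟩, rfl⟩
      exact ⟨⟨g, hg⟩ * x * ⟨g, hg⟩⁻¹, hN'n.conj_mem x hx _, rfl⟩)
  rcases hdich with h | h
  · left
    have hle : N' ≤ Subgroup.center H := fun x hx => Subgroup.mem_center_iff.mpr fun y =>
      Subtype.ext (h (x : GeneralLinearGroup k M) ⟨x, hx, rfl⟩ y y.2).symm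
    rw [← Subgroup.map_comap_eq_self_of_surjective (QuotientGroup.mk'_surjective _) N, ← hN', eq_bot_iff]
    refine (Subgroup.map_mono hle).trans ?_
    rw [QuotientGroup.map_mk'_self]
  · right
    rw [← Subgroup.map_comap_eq_self_of_surjective (QuotientGroup.mk'_surjective _) N, ← hN']
    have : N' = ⊤ := Subgroup.map_injective H.subtype_injective (by
      rw [h, ← MonoidHom.range_eq_map, Subgroup.range_subtype])
    rw [this, Subgroup.map_top_of_surjective _ (QuotientGroup.mk'_surjective _)]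

end Part

end Cfsg.Agent.Lib.QPair
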