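import Cfsg.Prelude.Def_RootSubgroups

/-!
# Quadratic pairs: the space of maps of a root subgroup

For a minimal quadratic element `σ` the maps `g - 1`, `g ∈ E(σ)`, form a subspace `qSpace G σ` of endomorphisms
whose non-zero members all have the kernel and the range of `σ - 1`.
-/

set_option autoImplicit false

namespace Cfsg.Agent.Lib.QPair

open Cfsg LinearMap

variable {k : Type*} [Field k] {M : Type*} [AddCommGroup M] [Module k M]

/-- `g - 1` as an endomorphism. -/
def dd (g : GeneralLinearGroup k M) : Module.End k M := (g : M →ₗ[k] M) - 1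

theorem coe_eq (g : GeneralLinearGroup k M) : (g : Module.End k M) = 1 + dd g := by
  simp [dd]

theorem dd_injective : Function.Injective (dd (k := k) (M := M)) := fun g h e =>
  Units.ext (by rw [coe_eq g, coe_eq h, e])

theorem dd_one : dd (1 : GeneralLinearGroup k M) = 0 := by simp [dd]

theorem dd_eq_zero {g : GeneralLinearGroup k M} : dd g = 0 ↔ g = 1 :=
  ⟨fun e => dd_injective (e.trans dd_one.symm), fun e => e ▸ dd_one⟩

theorem dd_mul (g h : GeneralLinearGroup k M) : dd (g * h) = dd g + dd h + dd g * dd h := by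
  show (g : Module.End k M) * (h : Module.End k M) - 1 = _
  rw [coe_eq g, coe_eq h]
  noncomm_ring

/-- The unit `1 + X` for a square zero `X`. -/
def oneAdd (X : Module.End k M) (hX : X * X = 0) : GeneralLinearGroup k M where
  val := 1 + X
  inv := 1 - X
  val_inv := by rw [show (1 + X) * (1 - X) = 1 - X * X by noncomm_ring, hX, sub_zero]
  inv_val := by rw [show (1 - X) * (1 + X) = 1 - X * X by noncomm_ring, hX, sub_zero]

theorem dd_oneAdd (X : Module.End k M) (hX : X * X = 0) : dd (oneAdd X hX) = X := add_sub_cancel_left 1 X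

theorem inv_coe {g : GeneralLinearGroup k M} (hg : dd g * dd g = 0) :
    ((g⁻¹ : GeneralLinearGroup k M) : Module.End k M) = 1 - dd g := by
  rw [show g = oneAdd (dd g) hg from dd_injective (dd_oneAdd _ hg).symm]
  show (1 : Module.End k M) - dd g = 1 - dd (oneAdd (dd g) hg)
  rw [dd_oneAdd]

theorem dd_inv {g : GeneralLinearGroup k M} (hg : dd g * dd g = 0) : dd g⁻¹ = -dd g := by
  show ((g⁻¹ : GeneralLinearGroup k M) : Module.End k M) - 1 = _
  rw [inv_coe hg, sub_sub_cancel_left]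

theorem dd_conj {f g : GeneralLinearGroup k M} (hf : dd f * dd f = 0) :
    dd (f * g * f⁻¹) = (1 + dd f) * dd g * (1 - dd f) := by
  show (f : Module.End k M) * (g : Module.End k M) * ((f⁻¹ : GeneralLinearGroup k M) : Module.End k M) - 1 = _
  rw [inv_coe hf, coe_eq f, coe_eq g]
  calc (1 + dd f) * (1 + dd g) * (1 - dd f) - 1
      = (1 + dd f) * dd g * (1 - dd f) - dd f * dd f := by noncomm_ring
    _ = _ := by rw [hf, sub_zero]

theorem commute_iff {g h : GeneralLinearGroup k M} : g * h = h * g ↔ dd g * dd h = dd h * dd g := by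
  rw [← dd_injective.eq_iff, dd_mul, dd_mul, add_comm (dd h) (dd g)]
  exact add_right_inj _

variable (G : Subgroup (GeneralLinearGroup k M))

theorem quadratic_iff {σ : GeneralLinearGroup k M} :
    σ ∈ quadraticElements G ↔ σ ∈ G ∧ dd σ * dd σ = 0 ∧ dd σ ≠ 0 ∧ ∀ c : k, ∃ τ ∈ G, dd τ = c • dd σ := by
  constructor
  · rintro ⟨hσ, ⟨h1, h2⟩, h3⟩
    refine ⟨hσ, h1, h2, fun c => ?_⟩
    have hc : (c • dd σ) * (c • dd σ) = 0 := by
      rw [smul_mul_assoc, mul_smul_comm, show dd σ * dd σ = 0 from h1, smul_zero, smul_zero]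
    exact ⟨oneAdd _ hc, h3 ⟨c, rfl⟩, dd_oneAdd _ hc⟩
  · rintro ⟨hσ, h1, h2, h3⟩
    refine ⟨hσ, ⟨h1, h2⟩, ?_⟩
    rintro τ ⟨c, hc⟩
    obtain ⟨τ', hτ', e⟩ := h3 c
    have : τ = τ' := dd_injective (by
      rw [e]
      show (τ : Module.End k M) - 1 = _
      rw [hc]
      exact add_sub_cancel_left _ _)
    exact this ▸ hτ'

/-- The maps `g - 1` for the elements of `G` with scalar family in `G` and inside the action of `σ`. -/
def qSpace (σ : GeneralLinearGroup k M) : Submodule k (Module.End k M) where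
  carrier := {X | (dd σ * dd σ = 0) ∧ range X ≤ range (dd σ) ∧ ker (dd σ) ≤ ker X ∧
    ∀ c : k, ∃ g ∈ G, dd g = c • X} ∪ {0}
  zero_mem' := Or.inr rfl
  add_mem' := by
    intro X Y hX hY
    rcases hY with hY | hY
    swap
    · rw [Set.mem_singleton_iff.mp hY, add_zero]; exact hX
    rcases hX with hX | hX
    swap
    · rw [Set.mem_singleton_iff.mp hX, zero_add]; exact Or.inl hY
    obtain ⟨hσ, hX1, hX2, hX3⟩ := hX
    obtain ⟨-, hY1, hY2, hY3⟩ := hY
    have hXY : X * Y = 0 := LinearMap.ext fun m => by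
      have h1 : Y m ∈ ker (dd σ) := by
        obtain ⟨n, hn⟩ := hY1 (LinearMap.mem_range_self Y m)
        rw [← hn]
        exact LinearMap.congr_fun hσ n
      exact hX2 h1
    refine Or.inl ⟨hσ, (LinearMap.range_add_le _ _).trans (sup_le hX1 hY1), fun m hm => ?_, fun c => ?_⟩
    · show X m + Y m = 0
      rw [show X m = 0 from hX2 hm, show Y m = 0 from hY2 hm, add_zero]
    · obtain ⟨g, hg, eg⟩ := hX3 c
      obtain ⟨h, hh, eh⟩ := hY3 c
      refine ⟨g * h, mul_mem hg hh, ?_⟩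
      rw [dd_mul, eg, eh, smul_mul_assoc, mul_smul_comm, hXY, smul_zero, smul_zero, add_zero, smul_add]
  smul_mem' := by
    intro c X hX
    rcases hX with ⟨hσ, hX1, hX2, hX3⟩ | hX
    · refine Or.inl ⟨hσ, ?_, fun m hm => ?_, fun c' => ?_⟩
      · rintro _ ⟨m, rfl⟩
        exact Submodule.smul_mem _ c (hX1 (LinearMap.mem_range_self X m))
      · show c • X m = 0
        rw [show X m = 0 from hX2 hm, smul_zero]
      · obtain ⟨g, hg, eg⟩ := hX3 (c' * c)
        exact ⟨g, hg, by rw [eg, mul_smul]⟩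
    · rw [Set.mem_singleton_iff.mp hX, smul_zero]; exact Or.inr rfl

variable {G} {σ : GeneralLinearGroup k M}

theorem qSpace_range {X : Module.End k M} (hX : X ∈ qSpace G σ) : range X ≤ range (dd σ) := by
  rcases hX with hX | hX
  · exact hX.2.1
  · rw [Set.mem_singleton_iff.mp hX]; simp

theorem qSpace_ker {X : Module.End k M} (hX : X ∈ qSpace G σ) : ker (dd σ) ≤ ker X := by
  rcases hX with hX | hX
  · exact hX.2.2.1
  · rw [Set.mem_singleton_iff.mp hX]; simp

theorem qSpace_exists {X : Module.End k M} (hX : X ∈ qSpace G σ) (c : k) : ∃ g ∈ G, dd g = c • X := by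
  rcases hX with hX | hX
  · exact hX.2.2.2 c
  · exact ⟨1, one_mem _, by rw [Set.mem_singleton_iff.mp hX, smul_zero, dd_one]⟩

theorem minimal_sq (hσ : σ ∈ minimalQuadraticElements G) : dd σ * dd σ = 0 := ((quadratic_iff G).mp hσ.1).2.1

theorem mem_qSpace (hσ : σ ∈ minimalQuadraticElements G) {X : Module.End k M} (h1 : range X ≤ range (dd σ))
    (h2 : ker (dd σ) ≤ ker X) (h3 : ∀ c : k, ∃ g ∈ G, dd g = c • X) : X ∈ qSpace G σ :=
  Or.inl ⟨minimal_sq hσ, h1, h2, h3⟩

theorem qSpace_mul (hσ : σ ∈ minimalQuadraticElements G) {X Y : Module.End k M} (hX : X ∈ qSpace G σ)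
    (hY : Y ∈ qSpace G σ) : X * Y = 0 := LinearMap.ext fun m => by
  refine qSpace_ker hX ?_
  obtain ⟨n, hn⟩ := qSpace_range hY (LinearMap.mem_range_self Y m)
  rw [← hn]
  exact LinearMap.congr_fun (minimal_sq hσ) n

theorem self_mem_qSpace (hσ : σ ∈ minimalQuadraticElements G) : dd σ ∈ qSpace G σ :=
  mem_qSpace hσ le_rfl le_rfl ((quadratic_iff G).mp hσ.1).2.2.2

theorem qSpace_quadratic (hσ : σ ∈ minimalQuadraticElements G) {X : Module.End k M} (hX : X ∈ qSpace G σ)
    (hX0 : X ≠ 0) {g : GeneralLinearGroup k M} (hg : g ∈ G) (e : dd g = X) : g ∈ quadraticElements G :=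
  (quadratic_iff G).mpr ⟨hg, by rw [e]; exact qSpace_mul hσ hX hX, e ▸ hX0, fun c => e ▸ qSpace_exists hX c⟩

variable [FiniteDimensional k M]

theorem qSpace_eq (hσ : σ ∈ minimalQuadraticElements G) {X : Module.End k M} (hX : X ∈ qSpace G σ)
    (hX0 : X ≠ 0) : range X = range (dd σ) ∧ ker X = ker (dd σ) := by
  obtain ⟨g, hg, e⟩ := qSpace_exists hX 1
  rw [one_smul] at e
  have h1 : Module.finrank k (range (dd σ)) ≤ Module.finrank k (range X) := e ▸ hσ.2 g (qSpace_quadratic hσ hX hX0 hg e)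
  have hr := Submodule.eq_of_le_of_finrank_le (qSpace_range hX) h1
  refine ⟨hr, (Submodule.eq_of_le_of_finrank_le (qSpace_ker hX) ?_).symm⟩
  have e1 := LinearMap.finrank_range_add_finrank_ker X
  have e2 := LinearMap.finrank_range_add_finrank_ker (dd σ)
  rw [hr] at e1
  omega

theorem mem_sameAction (hσ : σ ∈ minimalQuadraticElements G) {g : GeneralLinearGroup k M} :
    g ∈ sameActionSubgroup G σ ↔ g ∈ G ∧ dd g ∈ qSpace G σ := by
  constructor
  · intro hg
    induction hg using Subgroup.closure_induction with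
    | mem g hg =>
      refine ⟨hg.1.1.1, mem_qSpace hσ (le_of_eq hg.2.2) (le_of_eq hg.2.1.symm) ?_⟩
      exact ((quadratic_iff G).mp hg.1.1).2.2.2
    | one => exact ⟨one_mem _, by rw [dd_one]; exact zero_mem _⟩
    | mul x y _ _ hx hy =>
      refine ⟨mul_mem hx.1 hy.1, ?_⟩
      rw [dd_mul, qSpace_mul hσ hx.2 hy.2, add_zero]
      exact add_mem hx.2 hy.2
    | inv x _ hx =>
      refine ⟨inv_mem hx.1, ?_⟩
      rw [dd_inv (qSpace_mul hσ hx.2 hx.2)]
      exact neg_mem hx.2
  · rintro ⟨hg, hX⟩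
    by_cases h0 : dd g = 0
    · rw [dd_eq_zero.mp h0]; exact one_mem _
    obtain ⟨hr, hk⟩ := qSpace_eq hσ hX h0
    refine Subgroup.subset_closure ⟨⟨qSpace_quadratic hσ hX h0 hg rfl, fun τ hτ => ?_⟩, hk, hr⟩
    have h1 := hσ.2 τ hτ
    show Module.finrank k (range (dd g)) ≤ _
    rw [hr]
    exact h1

/-- If conjugation by `1 + Y` preserves the space of `σ`, then `Y` commutes with it. -/
theorem commute_of_stable (hσ : σ ∈ minimalQuadraticElements G) {Y : Module.End k M} (hY : Y * Y = 0)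
    (h2 : (2 : k) ≠ 0) (hst : ∀ X ∈ qSpace G σ, (1 + Y) * X * (1 - Y) ∈ qSpace G σ) :
    ∀ X ∈ qSpace G σ, Y * X = X * Y := by
  have hYz : ∀ Z, Y * (Y * Z) = 0 := fun Z => by rw [← mul_assoc, hY, zero_mul]
  have hT : ∀ X ∈ qSpace G σ, Y * X - X * Y - Y * X * Y ∈ qSpace G σ := fun X hX => by
    convert sub_mem (hst X hX) hX using 1
    noncomm_ring
  have h2z : ∀ Z : Module.End k M, Z + Z = 0 → Z = 0 := fun Z hZ => by
    rw [← two_smul k] at hZ
    exact (smul_eq_zero.mp hZ).resolve_left h2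
  have key : ∀ X ∈ qSpace G σ, Y * (Y * X - X * Y - Y * X * Y) = (Y * X - X * Y - Y * X * Y) * Y →
      Y * X - X * Y - Y * X * Y = 0 := by
    intro X hX e
    set X' := Y * X - X * Y - Y * X * Y with hX'
    by_contra h0
    obtain ⟨hr, hk⟩ := qSpace_eq hσ (hT X hX) h0
    have hl : Y * X' = -(Y * X * Y) := by
      simp only [hX', mul_sub, mul_assoc, hYz]
      abel
    have hrt : X' * Y = Y * X * Y := by
      simp only [hX', sub_mul, mul_assoc, hY, mul_zero, sub_zero]
    have hW : Y * X * Y = 0 := by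
      refine h2z _ ?_
      rw [hl, hrt] at e
      nth_rewrite 1 [← e]
      exact neg_add_cancel _
    rw [hW, neg_zero] at hl
    rw [hW] at hrt
    have hYX : Y * X = 0 := LinearMap.ext fun m => by
      have h1 : X m ∈ range X' := hr ▸ qSpace_range hX (LinearMap.mem_range_self X m)
      obtain ⟨n, hn⟩ := h1
      show Y (X m) = 0
      rw [← hn]
      exact LinearMap.congr_fun hl n
    have hXY : X * Y = 0 := LinearMap.ext fun m => by
      refine qSpace_ker hX ?_
      rw [← hk]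
      exact LinearMap.congr_fun hrt m
    exact h0 (by rw [hX', hW, hYX, hXY]; abel)
  intro X hX
  set X₁ := Y * X - X * Y - Y * X * Y with hX₁
  have hl1 : Y * X₁ = -(Y * X * Y) := by
    simp only [hX₁, mul_sub, mul_assoc, hYz]
    abel
  have hr1 : X₁ * Y = Y * X * Y := by
    simp only [hX₁, sub_mul, mul_assoc, hY, mul_zero, sub_zero]
  have hmid : Y * X₁ * Y = 0 := by
    rw [mul_assoc, hr1, mul_assoc, hYz]
  have h2' : Y * X₁ - X₁ * Y - Y * X₁ * Y = 0 := by
    refine key X₁ (hT X hX) ?_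
    rw [hmid, sub_zero, hl1, hr1]
    simp only [mul_sub, sub_mul, mul_neg, neg_mul, mul_assoc, hY, hYz, mul_zero, neg_zero, sub_zero]
  rw [hmid, sub_zero, sub_eq_zero] at h2'
  have hl : Y * X * Y = 0 := by
    refine h2z _ ?_
    rw [hl1, hr1] at h2'
    nth_rewrite 1 [← h2']
    exact neg_add_cancel _
  have h1 : X₁ = 0 := key X hX h2'
  rw [hX₁, hl, sub_zero, sub_eq_zero] at h1
  exact h1

theorem stable_of_commute (hσ : σ ∈ minimalQuadraticElements G) {f : GeneralLinearGroup k M} (hf : f ∈ G)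
    (hf2 : dd f * dd f = 0) {X₀ : Module.End k M} (hX₀ : X₀ ∈ qSpace G σ) (h0 : X₀ ≠ 0)
    (hc : dd f * X₀ = X₀ * dd f) {X : Module.End k M} (hX : X ∈ qSpace G σ) :
    (1 + dd f) * X * (1 - dd f) ∈ qSpace G σ := by
  obtain ⟨hr, hk⟩ := qSpace_eq hσ hX₀ h0
  refine mem_qSpace hσ ?_ (fun m hm => ?_) fun c => ?_
  · rintro _ ⟨m, rfl⟩
    set n := X ((1 - dd f) m)
    have hn : n ∈ range X₀ := hr ▸ qSpace_range hX (LinearMap.mem_range_self X _)
    obtain ⟨m₀, hm₀⟩ := hn
    rw [← hr]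
    refine ⟨m₀ + dd f m₀, ?_⟩
    show X₀ (m₀ + dd f m₀) = n + dd f n
    rw [map_add, hm₀, ← hm₀]
    congr 1
    exact (LinearMap.congr_fun hc m₀).symm
  · rw [← hk] at hm
    have h1 : (1 - dd f) m ∈ ker X := by
      refine qSpace_ker hX ?_
      rw [← hk]
      show X₀ (m - dd f m) = 0
      rw [map_sub, show X₀ (dd f m) = dd f (X₀ m) from (LinearMap.congr_fun hc m).symm,
        show X₀ m = 0 from hm, map_zero, sub_zero]
    show (1 + dd f) (X ((1 - dd f) m)) = 0
    rw [show X ((1 - dd f) m) = 0 from h1, map_zero]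
  · obtain ⟨g, hg, e⟩ := qSpace_exists hX c
    refine ⟨f * g * f⁻¹, mul_mem (mul_mem hf hg) (inv_mem hf), ?_⟩
    rw [dd_conj hf2, e, mul_smul_comm, smul_mul_assoc]

theorem two_ne_zero_of_ringChar (hk2 : ringChar k ≠ 2) : (2 : k) ≠ 0 := Ring.two_ne_zero hk2

/-- Two minimal root subgroups with commuting non-trivial elements commute. -/
theorem commute_all (hk2 : ringChar k ≠ 2) {τ : GeneralLinearGroup k M} (hσ : σ ∈ minimalQuadraticElements G)
    (hτ : τ ∈ minimalQuadraticElements G) {X Y : Module.End k M} (hX : X ∈ qSpace G σ) (hX0 : X ≠ 0)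
    (hY : Y ∈ qSpace G τ) (hY0 : Y ≠ 0) (hc : Y * X = X * Y) :
    ∀ X' ∈ qSpace G σ, ∀ Y' ∈ qSpace G τ, X' * Y' = Y' * X' := by
  have h2 := two_ne_zero_of_ringChar hk2
  obtain ⟨f, hf, ef⟩ := qSpace_exists hY 1
  rw [one_smul] at ef
  have h1 : ∀ X' ∈ qSpace G σ, Y * X' = X' * Y := commute_of_stable hσ (qSpace_mul hτ hY hY) h2 fun X' hX' => by
    have := stable_of_commute hσ hf (by rw [ef]; exact qSpace_mul hτ hY hY) hX hX0 (by rw [ef]; exact hc) hX'
    rwa [ef] at this
  intro X' hX' Y' hY'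
  by_cases h0 : X' = 0
  · rw [h0, zero_mul, mul_zero]
  obtain ⟨e, he, ee⟩ := qSpace_exists hX' 1
  rw [one_smul] at ee
  refine commute_of_stable hτ (qSpace_mul hσ hX' hX') h2 (fun Z hZ => ?_) Y' hY'
  have := stable_of_commute hτ he (by rw [ee]; exact qSpace_mul hσ hX' hX') hY hY0 (by rw [ee]; exact (h1 X' hX').symm) hZ
  rwa [ee] at this

theorem commutator_eq_bot {τ : GeneralLinearGroup k M} (hσ : σ ∈ minimalQuadraticElements G)
    (hτ : τ ∈ minimalQuadraticElements G) (h : ∀ X' ∈ qSpace G σ, ∀ Y' ∈ qSpace G τ, X' * Y' = Y' * X') :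
    ⁅sameActionSubgroup G σ, sameActionSubgroup G τ⁆ = ⊥ := by
  rw [Subgroup.commutator_eq_bot_iff_le_centralizer]
  intro g hg f hf
  exact commute_iff.mpr (h _ ((mem_sameAction hσ).mp hg).2 _ ((mem_sameAction hτ).mp hf).2).symm

end Cfsg.Agent.Lib.QPair
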