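import Cfsg.Agent.Lib.QPair.Surjective

/-!
# The three cases for two root groups
-/

set_option autoImplicit false

namespace Cfsg.Agent.Lib.QPair

open Cfsg LinearMap
open scoped commutatorElement

variable {k : Type*} [Field k] {M : Type*} [AddCommGroup M] [Module k M]
  {G : Subgroup (GeneralLinearGroup k M)}

theorem scalarFamily_eq (σ : GeneralLinearGroup k M) : scalarFamily σ = {g | ∃ c : k, dd g = c • dd σ} := by
  ext g
  constructor
  · rintro ⟨c, hc⟩
    exact ⟨c, by show (g : Module.End k M) - 1 = _; rw [hc]; exact add_sub_cancel_left _ _⟩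
  · rintro ⟨c, hc⟩
    exact ⟨c, by rw [coe_eq g, hc]; rfl⟩

theorem twoFam_eq (σ τ : GeneralLinearGroup k M) :
    Subgroup.closure (scalarFamily σ ∪ scalarFamily τ) = twoFam (dd σ) (dd τ) := by
  rw [scalarFamily_eq, scalarFamily_eq, twoFam]

variable [FiniteDimensional k M] {σ τ : GeneralLinearGroup k M}

theorem unipotent_twoFam (hk2 : ringChar k ≠ 2) (hk3 : Nat.card k ≠ 3) {X Y : Module.End k M} (hX : IsRoot G X)
    (hY : IsRoot G Y) (hN : IsNilpotent (X * Y)) : IsUnipotentOn (twoFam X Y) := by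
  refine unipotent_of_cube ?_ (L := sp G X ⊔ sp G Y) ?_ (cube_bot hk2 hk3 hX hY hN)
  · rintro e (⟨c, hc⟩ | ⟨c, hc⟩)
    · refine Or.inl ⟨-c, ?_⟩
      rw [dd_inv (by rw [hc, smul_mul_assoc, mul_smul_comm, hX.sq, smul_zero, smul_zero]), hc, neg_smul]
    · refine Or.inr ⟨-c, ?_⟩
      rw [dd_inv (by rw [hc, smul_mul_assoc, mul_smul_comm, hY.sq, smul_zero, smul_zero]), hc, neg_smul]
  · rintro e (⟨c, hc⟩ | ⟨c, hc⟩)
    · exact Submodule.mem_sup_left (hc ▸ Submodule.smul_mem _ c (self_mem_sp hX))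
    · exact Submodule.mem_sup_right (hc ▸ Submodule.smul_mem _ c (self_mem_sp hY))

theorem unipotent_groups (hk2 : ringChar k ≠ 2) (hk3 : Nat.card k ≠ 3) (hσ : σ ∈ minimalQuadraticElements G)
    (hτ : τ ∈ minimalQuadraticElements G) (hN : IsNilpotent (dd σ * dd τ)) :
    IsUnipotentOn (sameActionSubgroup G σ ⊔ sameActionSubgroup G τ) := by
  rw [Subgroup.sup_eq_closure]
  refine unipotent_of_cube (fun g hg => hg.imp (fun h => inv_mem h) fun h => inv_mem h) ?_
    (cube_bot hk2 hk3 (root_of_minimal hσ) (root_of_minimal hτ) hN)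
  rintro g (hg | hg)
  · exact Submodule.mem_sup_left ((mem_root_group hσ).mp hg).2
  · exact Submodule.mem_sup_right ((mem_root_group hτ).mp hg).2

theorem sp_conj_eq (hk : IsRoot G (dd σ)) {X : Module.End k M} (hX : X ∈ sp G (dd σ)) (h0 : X ≠ 0)
    {g : GeneralLinearGroup k M} (hg : g ∈ G) : sp G (conjE g X) = sp G (conjE g (dd σ)) :=
  sp_eq (hk.conj hg) (conj_mem_sp hk hX hg) fun h => h0 (conjE_eq_zero.mp h)

/-- The condition for a rank one pair, with the special identity. -/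
theorem cond_of (hk2 : ringChar k ≠ 2) (hk3 : Nat.card k ≠ 3) (hσ : σ ∈ minimalQuadraticElements G)
    (hτ : τ ∈ minimalQuadraticElements G) (hN : ¬ IsNilpotent (dd σ * dd τ)) {a : GeneralLinearGroup k M}
    (ha : a ∈ sameActionSubgroup G σ) (ha1 : a ≠ 1) :
    ∃ b ∈ sameActionSubgroup G τ, b ≠ 1 ∧ conjBy (sameActionSubgroup G σ) b⁻¹ = conjBy (sameActionSubgroup G τ) a⁻¹ ∧
      b⁻¹ * a * b = a⁻¹ * b⁻¹ * a := by
  obtain ⟨haG, haX⟩ := (mem_root_group hσ).mp ha
  have hX := root_of_minimal hσ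
  have hY := root_of_minimal hτ
  have ha0 : dd a ≠ 0 := fun h => ha1 (dd_eq_zero.mp h)
  obtain ⟨f, P₀⟩ := exists_good hk2 hk3 hX hY hN
  obtain ⟨hXa, -, -⟩ := sp_root hX haX ha0
  obtain ⟨f', P⟩ := exists_good hk2 hk3 hXa hY (P₀.not_nilpotent haX ha0 (self_mem_sp hY) hY.ne)
  have : Fact (Irreducible f') := ⟨P.irr⟩
  obtain ⟨e, -, b, -, heG, hbG, hee, hb, hb0, hconj, hid, -, -⟩ := P.exists_swap hk2 hk3
  obtain rfl : e = a := dd_injective hee
  have hb1 : b ≠ 1 := fun h => hb0 (dd_eq_zero.mpr h)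
  refine ⟨b, (mem_root_group hτ).mpr ⟨hbG, hb⟩, hb1, ?_, hid⟩
  have hgG : e * b⁻¹ * e ∈ G := mul_mem (mul_mem heG (inv_mem hbG)) heG
  obtain ⟨hm, hc⟩ := conjBy_root_group hσ hgG
  have hmap : conjBy (sameActionSubgroup G σ) (e * b⁻¹ * e) = sameActionSubgroup G τ := by
    rw [hc]
    refine root_group_eq hτ hm ?_
    rw [dd_conjE, ← sp_conj_eq hX haX ha0 hgG, hconj]
    exact sp_eq hY (neg_mem hb) (neg_ne_zero.mpr hb0)
  rw [← hmap, RankOne.conjBy_conjBy, show e⁻¹ * (e * b⁻¹ * e) = b⁻¹ * e by group, ← RankOne.conjBy_conjBy,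
    RankOne.conjBy_eq_self_of_mem ha]

theorem comm_of_mem (hσ : σ ∈ minimalQuadraticElements G) {x y : GeneralLinearGroup k M}
    (hx : x ∈ sameActionSubgroup G σ) (hy : y ∈ sameActionSubgroup G σ) : x * y = y * x := by
  rw [commute_iff, sp_mul (root_of_minimal hσ) ((mem_root_group hσ).mp hx).2 ((mem_root_group hσ).mp hy).2,
    sp_mul (root_of_minimal hσ) ((mem_root_group hσ).mp hy).2 ((mem_root_group hσ).mp hx).2]

theorem isMulCommutative_group (hσ : σ ∈ minimalQuadraticElements G) :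
    IsMulCommutative (sameActionSubgroup G σ) :=
  ⟨⟨fun a b => Subtype.ext (comm_of_mem hσ a.2 b.2)⟩⟩

theorem nilpotent_group (hσ : σ ∈ minimalQuadraticElements G) : Group.IsNilpotent (sameActionSubgroup G σ) := by
  have := isMulCommutative_group hσ
  let : CommGroup (sameActionSubgroup G σ) :=
    { (inferInstance : Group (sameActionSubgroup G σ)) with
      mul_comm := fun a b => Subtype.ext (comm_of_mem hσ a.2 b.2) }
  exact CommGroup.isNilpotent

theorem rankOne_of (hk2 : ringChar k ≠ 2) (hk3 : Nat.card k ≠ 3) (hσ : σ ∈ minimalQuadraticElements G)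
    (hτ : τ ∈ minimalQuadraticElements G) (hN : ¬ IsNilpotent (dd σ * dd τ)) :
    IsSpecialRankOnePair (sameActionSubgroup G σ) (sameActionSubgroup G τ) := by
  have hN' : ¬ IsNilpotent (dd τ * dd σ) := fun h => hN (nilpotent_symm h)
  have hX := root_of_minimal hσ
  have hY := root_of_minimal hτ
  refine ⟨⟨fun e => hN ⟨1, ?_⟩, nilpotent_group hσ, nilpotent_group hτ, ?_, ?_⟩, ?_⟩
  · have h1 : dd σ ∈ sp G (dd τ) := ((mem_root_group hτ).mp (e ▸ (mem_root_group hσ).mpr ⟨hσ.1.1, self_mem_sp hX⟩)).2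
    rw [pow_one, sp_mul hY h1 (self_mem_sp hY)]
  · intro a ha ha1
    obtain ⟨b, hb, hb1, h, -⟩ := cond_of hk2 hk3 hσ hτ hN ha ha1
    exact ⟨b, hb, hb1, h⟩
  · intro a ha ha1
    obtain ⟨b, hb, hb1, h, -⟩ := cond_of hk2 hk3 hτ hσ hN' ha ha1
    exact ⟨b, hb, hb1, h⟩
  · intro a ha ha1 b hb hb1 h
    obtain ⟨b', hb', -, h', hid⟩ := cond_of hk2 hk3 hσ hτ hN ha ha1
    suffices b = b' from this ▸ hid
    by_contra hne
    have hy : b' * b⁻¹ ∈ sameActionSubgroup G τ := mul_mem hb' (inv_mem hb)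
    have hfix : conjBy (sameActionSubgroup G σ) (b' * b⁻¹) = sameActionSubgroup G σ := by
      rw [← RankOne.conjBy_conjBy, h, ← h', RankOne.conjBy_conjBy, mul_inv_cancel, RankOne.conjBy_one]
    obtain ⟨hyG, hyY⟩ := (mem_root_group hτ).mp hy
    have hy0 : dd (b' * b⁻¹) ≠ 0 := fun e => hne (by
      rw [dd_eq_zero, mul_inv_eq_one] at e; exact e.symm)
    have hy2 : dd (b' * b⁻¹) * dd (b' * b⁻¹) = 0 := sp_mul hY hyY hyY
    have hst : ∀ Z ∈ qSpace G σ, (1 + dd (b' * b⁻¹)) * Z * (1 - dd (b' * b⁻¹)) ∈ qSpace G σ := by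
      intro Z hZ
      obtain ⟨z, hz, ez⟩ := qSpace_exists hZ 1
      rw [one_smul] at ez
      have h1 : b' * b⁻¹ * z * (b' * b⁻¹)⁻¹ ∈ sameActionSubgroup G σ := by
        rw [← hfix]; exact RankOne.conj_mem_conjBy ((mem_sameAction hσ).mpr ⟨hz, ez ▸ hZ⟩)
      have h2 := ((mem_sameAction hσ).mp h1).2
      rwa [dd_conj hy2, ez] at h2
    have hc := commute_of_stable hσ hy2 (Ring.two_ne_zero hk2) hst _ (self_mem_qSpace hσ)
    obtain ⟨f, P⟩ := exists_good hk2 hk3 hX hY hN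
    refine P.not_nilpotent (self_mem_sp hX) hX.ne hyY hy0 ⟨2, ?_⟩
    rw [pow_two, mul_assoc, ← mul_assoc (dd (b' * b⁻¹)), hc, mul_assoc (dd σ) (dd (b' * b⁻¹)), hy2, mul_zero, mul_zero]

/-- The unipotent core is closed. -/
theorem core_of (hk2 : ringChar k ≠ 2) (hk3 : Nat.card k ≠ 3) (hG : IsQuadraticPair G)
    (hσ : σ ∈ minimalQuadraticElements G) (hτ : τ ∈ minimalQuadraticElements G) (hN : IsNilpotent (dd σ * dd τ))
    (hne : dd σ * dd τ - dd τ * dd σ ≠ 0) :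
    let E := sameActionSubgroup G σ
    let F := sameActionSubgroup G τ
    ⁅E, F⁆ ∈ quadraticRootSubgroups G ∧
    (∀ e ∈ E, e ≠ 1 → Subgroup.closure ((fun f : GeneralLinearGroup k M => e * f * e⁻¹ * f⁻¹) '' (F : Set (GeneralLinearGroup k M))) = ⁅E, F⁆) ∧
    (∀ f ∈ F, f ≠ 1 → Subgroup.closure ((fun e : GeneralLinearGroup k M => e * f * e⁻¹ * f⁻¹) '' (E : Set (GeneralLinearGroup k M))) = ⁅E, F⁆) ∧
    ⁅E ⊔ F, E ⊔ F⁆ ≠ ⊥ ∧ ⁅⁅E ⊔ F, E ⊔ F⁆, E ⊔ F⁆ = ⊥ ∧
    (∀ c ∈ ⁅E, F⁆, ∀ x ∈ E ⊔ F, c * x = x * c) ∧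
    ((E ⊔ F : Subgroup (GeneralLinearGroup k M)) : Set (GeneralLinearGroup k M)) ⊆ quadraticUnipotentCore G ⁅E, F⁆ := by
  intro E F
  have hX := root_of_minimal hσ
  have hY := root_of_minimal hτ
  obtain ⟨n1, n2⟩ := nilp_all hk2 hk3 hX hY hN (self_mem_sp hX) (self_mem_sp hY)
  obtain ⟨hU, hxy, hyx, hUr, hUk⟩ := comm_root hX hY n1 n2 hne
  set U := dd σ * dd τ - dd τ * dd σ with hUdef
  set ρ := σ * τ * σ⁻¹ * τ⁻¹ with hρdef
  have hρdd : dd ρ = U := dd_comm hX.sq hY.sq n1 n2 rfl rfl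
  have hρ : ρ ∈ minimalQuadraticElements G :=
    minimal_of_root (mul_mem (mul_mem (mul_mem hσ.1.1 hτ.1.1) (inv_mem hσ.1.1)) (inv_mem hτ.1.1)) (hρdd.symm ▸ hU)
  set D := sameActionSubgroup G ρ with hDdef
  have hDmem : ∀ {g}, g ∈ D ↔ g ∈ G ∧ dd g ∈ sp G U := fun {g} => by rw [hDdef, mem_root_group hρ, hρdd]
  have hddc : ∀ e ∈ E, ∀ f ∈ F, dd (e * f * e⁻¹ * f⁻¹) = dd e * dd f - dd f * dd e := by
    intro e he f hf
    have a := ((mem_root_group hσ).mp he).2
    have b := ((mem_root_group hτ).mp hf).2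
    obtain ⟨c1, c2⟩ := nilp_all hk2 hk3 hX hY hN a b
    exact dd_comm (sp_mul hX a a) (sp_mul hY b b) c1 c2 rfl rfl
  have hin : ∀ e ∈ E, ∀ f ∈ F, e * f * e⁻¹ * f⁻¹ ∈ D := by
    intro e he f hf
    obtain ⟨heG, hea⟩ := (mem_root_group hσ).mp he
    obtain ⟨hfG, hfb⟩ := (mem_root_group hτ).mp hf
    exact hDmem.mpr ⟨mul_mem (mul_mem (mul_mem heG hfG) (inv_mem heG)) (inv_mem hfG),
      by rw [hddc e he f hf]; exact (comm_mem hk2 hk3 hX hY hN hne hea hfb).1⟩
  have honl : ∀ e ∈ E, e ≠ 1 → ∀ d ∈ D, ∃ f ∈ F, e * f * e⁻¹ * f⁻¹ = d := by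
    intro e he he1 d hd
    obtain ⟨W, hW, hWe⟩ := comm_onto hk2 hk3 hG hX hY hN hne (hDmem.mp hd).2 ((mem_root_group hσ).mp he).2
      (fun h => he1 (dd_eq_zero.mp h))
    obtain ⟨f, hf, ef⟩ := (sp_fam hW).exists_mem
    have hfF : f ∈ F := (mem_root_group hτ).mpr ⟨hf, ef ▸ hW⟩
    exact ⟨f, hfF, dd_injective (by rw [hddc e he f hfF, ef, hWe])⟩
  have honr : ∀ f ∈ F, f ≠ 1 → ∀ d ∈ D, ∃ e ∈ E, e * f * e⁻¹ * f⁻¹ = d := by
    intro f hf hf1 d hd
    have hne2 : dd τ * dd σ - dd σ * dd τ ≠ 0 := fun h => hne (by rw [hUdef, ← neg_sub, h, neg_zero])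
    have hsp : sp G (dd τ * dd σ - dd σ * dd τ) = sp G U :=
      sp_eq hU (by rw [← neg_sub (dd σ * dd τ), ← hUdef]; exact neg_mem (self_mem_sp hU)) hne2
    obtain ⟨W, hW, hWe⟩ := comm_onto hk2 hk3 hG hY hX (nilpotent_symm hN) hne2
      (Z := -dd d) (by rw [hsp]; exact neg_mem (hDmem.mp hd).2) ((mem_root_group hτ).mp hf).2
      (fun h => hf1 (dd_eq_zero.mp h))
    obtain ⟨e, he, ee⟩ := (sp_fam hW).exists_mem
    have heE : e ∈ E := (mem_root_group hσ).mpr ⟨he, ee ▸ hW⟩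
    exact ⟨e, heE, dd_injective (by rw [hddc e heE f hf, ee, ← neg_sub, hWe, neg_neg])⟩
  have hσE : σ ∈ E := (mem_root_group hσ).mpr ⟨hσ.1.1, self_mem_sp hX⟩
  have hσ1 : σ ≠ 1 := fun h => hX.ne (dd_eq_zero.mpr h)
  have hEF : ⁅E, F⁆ = D := by
    refine le_antisymm (Subgroup.commutator_le.mpr fun e he f hf => hin e he f hf) fun d hd => ?_
    obtain ⟨f, hf, rfl⟩ := honl σ hσE hσ1 d hd
    exact Subgroup.commutator_mem_commutator hσE hf
  have hsE : ∀ e ∈ E, e ≠ 1 → Subgroup.closure ((fun f : GeneralLinearGroup k M => e * f * e⁻¹ * f⁻¹) '' (F : Set (GeneralLinearGroup k M))) = D := by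
    intro e he he1
    refine le_antisymm ((Subgroup.closure_le _).mpr ?_) fun d hd => ?_
    · rintro _ ⟨f, hf, rfl⟩; exact hin e he f hf
    · obtain ⟨f, hf, rfl⟩ := honl e he he1 d hd
      exact Subgroup.subset_closure ⟨f, hf, rfl⟩
  have hsF : ∀ f ∈ F, f ≠ 1 → Subgroup.closure ((fun e : GeneralLinearGroup k M => e * f * e⁻¹ * f⁻¹) '' (E : Set (GeneralLinearGroup k M))) = D := by
    intro f hf hf1
    refine le_antisymm ((Subgroup.closure_le _).mpr ?_) fun d hd => ?_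
    · rintro _ ⟨e, he, rfl⟩; exact hin e he f hf
    · obtain ⟨e, he, rfl⟩ := honr f hf hf1 d hd
      exact Subgroup.subset_closure ⟨e, he, rfl⟩
  -- centrality
  have xU : dd σ * U = 0 := by rw [hUdef, mul_sub, ← mul_assoc, hX.sq, zero_mul, ← mul_assoc, n1, sub_zero]
  have Ux : U * dd σ = 0 := by rw [hUdef, sub_mul, mul_assoc (dd τ), hX.sq, mul_zero, n1, sub_zero]
  have yU : dd τ * U = 0 := by rw [hUdef, mul_sub, ← mul_assoc, n2, ← mul_assoc, hY.sq, zero_mul, sub_zero]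
  have Uy : U * dd τ = 0 := by rw [hUdef, sub_mul, mul_assoc (dd σ), hY.sq, mul_zero, n2, sub_zero]
  have hcent : ∀ d ∈ D, ∀ x ∈ E ⊔ F, d * x = x * d := by
    intro d hd
    have hle : E ⊔ F ≤ Subgroup.centralizer {d} := by
      refine sup_le ?_ ?_ <;> intro x hx <;> refine Subgroup.mem_centralizer_singleton_iff.mpr ?_ <;>
        refine commute_iff.mpr ?_
      · have hx' := ((mem_root_group hσ).mp hx).2
        have hd' := (hDmem.mp hd).2
        rw [mul_sp_eq_zero hd' (sp_mul_eq_zero hx' xU), mul_sp_eq_zero hx' (sp_mul_eq_zero hd' Ux)]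
      · have hx' := ((mem_root_group hτ).mp hx).2
        have hd' := (hDmem.mp hd).2
        rw [mul_sp_eq_zero hd' (sp_mul_eq_zero hx' yU), mul_sp_eq_zero hx' (sp_mul_eq_zero hd' Uy)]
    exact fun x hx => (Subgroup.mem_centralizer_singleton_iff.mp (hle hx)).symm
  have hKK : ⁅E ⊔ F, E ⊔ F⁆ ≤ D := by
    have hDK : D ≤ E ⊔ F := hEF ▸ (Subgroup.commutator_le.mpr fun e he f hf =>
      mul_mem (mul_mem (mul_mem (Subgroup.mem_sup_left he) (Subgroup.mem_sup_right hf))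
        (inv_mem (Subgroup.mem_sup_left he))) (inv_mem (Subgroup.mem_sup_right hf)))
    -- the elements whose commutators with `x` lie in `D`
    let T : GeneralLinearGroup k M → Prop := fun x => x ∈ E ⊔ F
    have step : ∀ x ∈ E ⊔ F, (∀ y, y ∈ E ∨ y ∈ F → x * y * x⁻¹ * y⁻¹ ∈ D) → ∀ y ∈ E ⊔ F, x * y * x⁻¹ * y⁻¹ ∈ D := by
      intro x hx h y hy
      rw [Subgroup.sup_eq_closure] at hy
      induction hy using Subgroup.closure_induction'' with
      | one => simp [one_mem]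
      | mem y hy => exact h y hy
      | inv_mem y hy => exact h y⁻¹ (hy.imp (fun h => inv_mem h) fun h => inv_mem h)
      | mul y z hy' hz' ihy ihz =>
        have hyK : y ∈ E ⊔ F := by rw [Subgroup.sup_eq_closure]; exact hy'
        have e : x * (y * z) * x⁻¹ * (y * z)⁻¹ = (x * y * x⁻¹ * y⁻¹) * (x * z * x⁻¹ * z⁻¹) := by
          calc x * (y * z) * x⁻¹ * (y * z)⁻¹ = (x * y * x⁻¹ * y⁻¹) * (y * (x * z * x⁻¹ * z⁻¹) * y⁻¹) := by group
            _ = _ := by rw [← hcent _ ihz y hyK, mul_inv_cancel_right]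
        rw [e]
        exact mul_mem ihy ihz
    refine Subgroup.commutator_le.mpr fun x hx y hy => ?_
    have base : ∀ y, y ∈ E ∨ y ∈ F → ∀ x ∈ E ⊔ F, y * x * y⁻¹ * x⁻¹ ∈ D := by
      intro y hy x hx
      refine step y (hy.elim Subgroup.mem_sup_left Subgroup.mem_sup_right) ?_ x hx
      rintro z (hz | hz) <;> rcases hy with hy | hy
      · rw [comm_of_mem hσ hy hz]; simp [mul_assoc, one_mem]
      · have := inv_mem (hin z hz y hy)
        simpa [mul_assoc] using this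
      · exact hin y hy z hz
      · rw [comm_of_mem hτ hy hz]; simp [mul_assoc, one_mem]
    refine step x hx (fun z hz => ?_) y hy
    have := inv_mem (base z hz x hx)
    simpa [mul_assoc] using this
  refine ⟨hEF ▸ ⟨ρ, hρ, rfl⟩, fun e he he1 => (hsE e he he1).trans hEF.symm,
    fun f hf hf1 => (hsF f hf hf1).trans hEF.symm, fun h => ?_, ?_, hEF ▸ hcent, ?_⟩
  · have hρ1 : ρ ≠ 1 := fun e => hU.ne (hρdd ▸ dd_eq_zero.mpr e)
    have : ρ ∈ ⁅E ⊔ F, E ⊔ F⁆ := Subgroup.commutator_mem_commutator (Subgroup.mem_sup_left hσE)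
      (Subgroup.mem_sup_right ((mem_root_group hτ).mpr ⟨hτ.1.1, self_mem_sp hY⟩))
    rw [h, Subgroup.mem_bot] at this
    exact hρ1 this
  · rw [Subgroup.commutator_eq_bot_iff_le_centralizer]
    intro d hd
    rw [Subgroup.mem_centralizer_iff]
    exact fun x hx => (hcent d (hKK hd) x hx).symm
  · intro g hg
    have hfix : fixedSubmodule ⁅E, F⁆ = ker U := by
      rw [hEF]
      refine le_antisymm ?_ fun m hm => ?_
      · intro m hm
        have h1 := (Submodule.mem_iInf _).mp ((Submodule.mem_iInf _).mp hm ρ) ((mem_root_group hρ).mpr ⟨hρ.1.1, self_mem_sp (root_of_minimal hρ)⟩)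
        rw [← hρdd]; exact h1
      · refine (Submodule.mem_iInf _).mpr fun d => (Submodule.mem_iInf _).mpr fun hd => sp_ker (hDmem.mp hd).2 hm
    have hcom : commutatorSubmodule ⁅E, F⁆ = range U := by
      rw [hEF]
      refine le_antisymm (iSup₂_le fun d hd => sp_range (hDmem.mp hd).2) ?_
      rw [← hρdd]
      exact le_iSup₂ (f := fun g (_ : g ∈ D) => range ((g : M →ₗ[k] M) - 1)) ρ
        ((mem_root_group hρ).mpr ⟨hρ.1.1, self_mem_sp (root_of_minimal hρ)⟩)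
    let P : Submodule k (Module.End k M) :=
      { carrier := {Z | (∀ m, Z m ∈ ker U) ∧ (∀ m, U m = 0 → Z m ∈ range U) ∧ ∀ m ∈ range U, Z m = 0}
        add_mem' := fun {a b} ha hb => ⟨fun m => add_mem (ha.1 m) (hb.1 m),
          fun m hm => add_mem (ha.2.1 m hm) (hb.2.1 m hm),
          fun m hm => by rw [LinearMap.add_apply, ha.2.2 m hm, hb.2.2 m hm, add_zero]⟩
        zero_mem' := ⟨fun m => zero_mem _, fun m _ => zero_mem _, fun m _ => rfl⟩
        smul_mem' := fun c a ha => ⟨fun m => Submodule.smul_mem _ c (ha.1 m),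
          fun m hm => Submodule.smul_mem _ c (ha.2.1 m hm),
          fun m hm => by rw [LinearMap.smul_apply, ha.2.2 m hm, smul_zero]⟩ }
    have hPP : P * P ≤ P := Submodule.mul_le.mpr fun a ha b hb => ⟨fun m => ha.1 _,
      fun m hm => by
        show a (b m) ∈ range U
        rw [ha.2.2 _ (hb.2.1 m hm)]; exact zero_mem _,
      fun m hm => by
        show a (b m) = 0
        rw [hb.2.2 m hm, map_zero]⟩
    have hPE : ∀ x, x ∈ E ∨ x ∈ F → dd x ∈ P := by
      rintro x (hx | hx)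
      · have hx' := ((mem_root_group hσ).mp hx).2
        refine ⟨fun m => ?_, fun m hm => ?_, ?_⟩
        · obtain ⟨u, hu⟩ := sp_range hx' (LinearMap.mem_range_self _ m)
          rw [← hu]; exact LinearMap.congr_fun Ux u
        · obtain ⟨_, ⟨u, rfl⟩, z, hz, rfl⟩ := Submodule.mem_sup.mp (hUk.le hm).2
          rw [map_add, show dd x z = 0 from sp_ker hx' hz, add_zero, hUr]
          refine Submodule.mem_sup_left ⟨sp_range hx' (LinearMap.mem_range_self _ _), ?_⟩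
          exact LinearMap.congr_fun (nilp_all hk2 hk3 hX hY hN hx' (self_mem_sp hY)).2 u
        · rintro _ ⟨u, rfl⟩
          exact sp_ker hx' (LinearMap.congr_fun xU u)
      · have hx' := ((mem_root_group hτ).mp hx).2
        refine ⟨fun m => ?_, fun m hm => ?_, ?_⟩
        · obtain ⟨u, hu⟩ := sp_range hx' (LinearMap.mem_range_self _ m)
          rw [← hu]; exact LinearMap.congr_fun Uy u
        · obtain ⟨_, ⟨u, rfl⟩, z, hz, rfl⟩ := Submodule.mem_sup.mp (hUk.le hm).1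
          rw [map_add, show dd x z = 0 from sp_ker hx' hz, add_zero, hUr]
          refine Submodule.mem_sup_right ⟨sp_range hx' (LinearMap.mem_range_self _ _), ?_⟩
          exact LinearMap.congr_fun (nilp_all hk2 hk3 hX hY hN (self_mem_sp hX) hx').1 u
        · rintro _ ⟨u, rfl⟩
          exact sp_ker hx' (LinearMap.congr_fun yU u)
    have hgP : dd g ∈ P := by
      have := ddSpan_closure ((E : Set (GeneralLinearGroup k M)) ∪ F) (fun x hx => hx.imp (fun h => inv_mem h) fun h => inv_mem h) P hPP hPE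
      exact this (dd_mem_span (by rw [← Subgroup.sup_eq_closure]; exact hg))
    have hgG : g ∈ G := (sup_le (fun x hx => ((mem_root_group hσ).mp hx).1)
      (fun x hx => ((mem_root_group hτ).mp hx).1) : E ⊔ F ≤ G) hg
    refine ⟨hgG, ?_, ?_, ?_, ?_⟩
    · rw [hEF, Subgroup.mem_normalizer_iff]
      intro d
      constructor <;> intro hd
      · rw [← hcent d hd g hg, mul_inv_cancel_right]; exact hd
      · have h1 := hcent _ hd g hg
        have e : g * d * g⁻¹ = d := by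
          apply mul_left_cancel (a := g)
          rw [← h1]
          group
        exact e ▸ hd
    · intro m; rw [hfix]; exact hgP.1 m
    · intro m hm; rw [hfix] at hm; rw [hcom]; exact hgP.2.1 m hm
    · intro m hm; rw [hcom] at hm
      exact sub_eq_zero.mp (hgP.2.2 m hm)

/-- Class two forces a nilpotent pair. -/
theorem nilpotent_of_class_two (hk2 : ringChar k ≠ 2) (hk3 : Nat.card k ≠ 3) (hσ : σ ∈ minimalQuadraticElements G)
    (hτ : τ ∈ minimalQuadraticElements G)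
    (h : ⁅⁅sameActionSubgroup G σ ⊔ sameActionSubgroup G τ, sameActionSubgroup G σ ⊔ sameActionSubgroup G τ⁆,
      sameActionSubgroup G σ ⊔ sameActionSubgroup G τ⁆ = ⊥) : IsNilpotent (dd σ * dd τ) := by
  by_contra hN
  have hX := root_of_minimal hσ
  obtain ⟨f, P⟩ := exists_good hk2 hk3 hX (root_of_minimal hτ) hN
  have : Fact (Irreducible f) := ⟨P.irr⟩
  obtain ⟨e, -, b, -, heG, hbG, hee, hb, -, -, hid, hXbX, -⟩ := P.exists_swap hk2 hk3
  set K := sameActionSubgroup G σ ⊔ sameActionSubgroup G τ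
  have he : e ∈ K := Subgroup.mem_sup_left ((mem_root_group hσ).mpr ⟨heG, by rw [hee]; exact self_mem_sp hX⟩)
  have hbK : b ∈ K := Subgroup.mem_sup_right ((mem_root_group hτ).mpr ⟨hbG, hb⟩)
  have hc : ∀ c ∈ ⁅K, K⁆, ∀ x ∈ K, x * c = c * x := by
    intro c hc x hx
    rw [Subgroup.commutator_eq_bot_iff_le_centralizer] at h
    exact Subgroup.mem_centralizer_iff.mp (h hc) x hx
  have c1 := Subgroup.commutator_mem_commutator (inv_mem he) (inv_mem hbK)
  have c2 := Subgroup.commutator_mem_commutator hbK (inv_mem he)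
  have e2 : b⁻¹ = e * (⁅e⁻¹, b⁻¹⁆ * ⁅b, e⁻¹⁆⁻¹) := by
    have h1 : b⁻¹ * e * b = e * ⁅e⁻¹, b⁻¹⁆ := by rw [commutatorElement_def]; group
    have h2 : e⁻¹ * b⁻¹ * e = b⁻¹ * ⁅b, e⁻¹⁆ := by rw [commutatorElement_def]; group
    rw [← mul_assoc, ← h1, hid, h2, mul_inv_cancel_right]
  have hcomm : e * b⁻¹ = b⁻¹ * e := by
    rw [e2]
    rw [mul_assoc, ← hc _ (mul_mem c1 (inv_mem c2)) e he]
  have hcb : dd σ * dd b = dd b * dd σ := by
    rw [← hee]
    refine commute_iff.mp ?_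
    calc e * b = b * (b⁻¹ * e) * b := by group
      _ = b * (e * b⁻¹) * b := by rw [hcomm]
      _ = b * e := by group
  refine hX.ne ?_
  rw [← hXbX, hcb, mul_assoc, hX.sq, mul_zero]

end Cfsg.Agent.Lib.QPair
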