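import Cfsg.Agent.Lib.QPair.Invertible

/-!
# Nilpotent pairs of root maps

For `X Y` nilpotent the map `X Y - Y X` is zero or again a root map, whose space only depends on those of `X` and `Y`.
-/

set_option autoImplicit false

namespace Cfsg.Agent.Lib.QPair

open Cfsg LinearMap

variable {k : Type*} [Field k] {M : Type*} [AddCommGroup M] [Module k M] [FiniteDimensional k M]
  {G : Subgroup (GeneralLinearGroup k M)} {X Y : Module.End k M}

theorem finrank_map_add_inf (A : Module.End k M) (p : Submodule k M) :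
    Module.finrank k (p.map A) + Module.finrank k (p ⊓ ker A : Submodule k M) = Module.finrank k p := by
  have e := LinearMap.finrank_range_add_finrank_ker (A.domRestrict p)
  rw [LinearMap.range_domRestrict] at e
  rw [← e]
  congr 1
  rw [LinearMap.ker_domRestrict, ← Submodule.map_comap_subtype]
  exact Submodule.finrank_map_subtype_eq p ((ker A).comap p.subtype)

theorem comm_root (hX : IsRoot G X) (hY : IsRoot G Y) (h1 : X * Y * X = 0) (h2 : Y * X * Y = 0)
    (hne : X * Y - Y * X ≠ 0) :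
    IsRoot G (X * Y - Y * X) ∧ range (X * Y) = range X ⊓ ker Y ∧ range (Y * X) = range Y ⊓ ker X ∧
      range (X * Y - Y * X) = (range X ⊓ ker Y) ⊔ (range Y ⊓ ker X) ∧
      ker (X * Y - Y * X) = (range X ⊔ ker Y) ⊓ (range Y ⊔ ker X) := by
  set U := X * Y - Y * X with hU
  obtain ⟨hF, hsq⟩ := commutator_fam hX hY h1 h2
  have hxy : range (X * Y) ≤ range X ⊓ ker Y := le_inf (range_mul_le _ _) (by
    rintro _ ⟨m, rfl⟩
    have := LinearMap.congr_fun h2 m
    exact this)
  have hyx : range (Y * X) ≤ range Y ⊓ ker X := le_inf (range_mul_le _ _) (by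
    rintro _ ⟨m, rfl⟩
    have := LinearMap.congr_fun h1 m
    exact this)
  have d1 := finrank_map_add_inf X (range Y)
  have d2 := finrank_map_add_inf Y (range X)
  rw [← range_comp, ← Module.End.mul_eq_comp] at d1 d2
  have e1 := Submodule.finrank_mono hxy
  have e2 := Submodule.finrank_mono hyx
  have hd := hX.rank_eq hY
  have hUle : range U ≤ range (X * Y) ⊔ range (Y * X) := by
    rintro _ ⟨m, rfl⟩
    exact sub_mem (Submodule.mem_sup_left (LinearMap.mem_range_self _ m))
      (Submodule.mem_sup_right (LinearMap.mem_range_self (Y * X) m))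
  have e3 := Submodule.finrank_mono hUle
  have e4 := Submodule.finrank_sup_add_finrank_inf_eq (range (X * Y)) (range (Y * X))
  have e5 := hX.min U hne hsq hF
  have hxy' : range (X * Y) = range X ⊓ ker Y := Submodule.eq_of_le_of_finrank_le hxy (by omega)
  have hyx' : range (Y * X) = range Y ⊓ ker X := Submodule.eq_of_le_of_finrank_le hyx (by omega)
  have hdisj : range (X * Y) ⊓ range (Y * X) = ⊥ := by
    rw [← Submodule.finrank_eq_zero]; omega
  have hrU : range U = range (X * Y) ⊔ range (Y * X) := Submodule.eq_of_le_of_finrank_le hUle (by omega)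
  refine ⟨⟨hne, hsq, hF, fun Z a b c => ?_⟩, hxy', hyx', by rw [hrU, hxy', hyx'], ?_⟩
  · have := hX.min Z a b c
    omega
  have k1 : ∀ m, X (Y m) = 0 ↔ m ∈ range X ⊔ ker Y := by
    intro m
    constructor
    · intro hm
      obtain ⟨u, hu⟩ : Y m ∈ range (Y * X) := hyx'.ge ⟨LinearMap.mem_range_self Y m, hm⟩
      rw [Submodule.mem_sup]
      exact ⟨X u, LinearMap.mem_range_self X u, m - X u, by
        show Y (m - X u) = 0
        rw [map_sub, ← hu]; exact sub_self _, add_sub_cancel _ _⟩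
    · intro hm
      obtain ⟨_, ⟨u, rfl⟩, z, hz, rfl⟩ := Submodule.mem_sup.mp hm
      rw [map_add, map_add, show Y z = 0 from hz, map_zero, add_zero]
      exact LinearMap.congr_fun h1 u
  have k2 : ∀ m, Y (X m) = 0 ↔ m ∈ range Y ⊔ ker X := by
    intro m
    constructor
    · intro hm
      obtain ⟨u, hu⟩ : X m ∈ range (X * Y) := hxy'.ge ⟨LinearMap.mem_range_self X m, hm⟩
      rw [Submodule.mem_sup]
      exact ⟨Y u, LinearMap.mem_range_self Y u, m - Y u, by
        show X (m - Y u) = 0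
        rw [map_sub, ← hu]; exact sub_self _, add_sub_cancel _ _⟩
    · intro hm
      obtain ⟨_, ⟨u, rfl⟩, z, hz, rfl⟩ := Submodule.mem_sup.mp hm
      rw [map_add, map_add, show X z = 0 from hz, map_zero, add_zero]
      exact LinearMap.congr_fun h2 u
  ext m
  rw [Submodule.mem_inf, ← k1, ← k2]
  constructor
  · intro hm
    have hm' : X (Y m) = Y (X m) := sub_eq_zero.mp hm
    have hz : X (Y m) = 0 := by
      have : X (Y m) ∈ range (X * Y) ⊓ range (Y * X) := ⟨⟨m, rfl⟩, ⟨m, hm'.symm⟩⟩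
      rwa [hdisj, Submodule.mem_bot] at this
    exact ⟨hz, hm' ▸ hz⟩
  · rintro ⟨a, b⟩
    show X (Y m) - Y (X m) = 0
    rw [a, b, sub_zero]

/-- All pairs in the spaces of a nilpotent pair are nilpotent. -/
theorem nilp_all (hk2 : ringChar k ≠ 2) (hk3 : Nat.card k ≠ 3) (hX : IsRoot G X) (hY : IsRoot G Y)
    (hN : IsNilpotent (X * Y)) {X' Y' : Module.End k M} (hX' : X' ∈ sp G X) (hY' : Y' ∈ sp G Y) :
    X' * Y' * X' = 0 ∧ Y' * X' * Y' = 0 := by
  by_cases hx : X' = 0
  · simp [hx]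
  by_cases hy : Y' = 0
  · simp [hy]
  obtain ⟨hX1, -, -⟩ := sp_root hX hX' hx
  obtain ⟨hY1, -, -⟩ := sp_root hY hY' hy
  refine nilpotent_pair (Ring.two_ne_zero hk2) hX1 hY1 ?_
  by_contra hN'
  obtain ⟨f, P⟩ := exists_good hk2 hk3 hX1 hY1 hN'
  refine P.not_nilpotent ?_ hX.ne ?_ hY.ne hN
  · rw [sp_eq hX hX' hx]; exact self_mem_sp hX
  · rw [sp_eq hY hY' hy]; exact self_mem_sp hY

/-- Alternating products of length three vanish. -/
theorem triple (hk2 : ringChar k ≠ 2) (hk3 : Nat.card k ≠ 3) (hX : IsRoot G X) (hY : IsRoot G Y)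
    (hN : IsNilpotent (X * Y)) {X' X'' Y' : Module.End k M} (hX' : X' ∈ sp G X) (hX'' : X'' ∈ sp G X)
    (hY' : Y' ∈ sp G Y) : X' * Y' * X'' = 0 := by
  refine LinearMap.ext fun m => sp_ker hX' ?_
  obtain ⟨u, hu⟩ := sp_range hX'' (LinearMap.mem_range_self X'' m)
  show X (Y' (X'' m)) = 0
  rw [← hu]
  exact LinearMap.congr_fun (nilp_all hk2 hk3 hX hY hN (self_mem_sp hX) hY').1 u

theorem nilpotent_symm {A B : Module.End k M} (h : IsNilpotent (A * B)) : IsNilpotent (B * A) := by
  obtain ⟨j, hj⟩ := h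
  refine ⟨j + 1, ?_⟩
  have e : ∀ i : ℕ, (B * A) ^ (i + 1) = B * (A * B) ^ i * A := by
    intro i
    induction i with
    | zero => simp
    | succ i ih => rw [pow_succ, ih, pow_succ]; simp only [mul_assoc]
  rw [e, hj, mul_zero, zero_mul]

/-- The commutator map. -/
theorem dd_comm {e f : GeneralLinearGroup k M} {A B : Module.End k M} (hA : A * A = 0) (hB : B * B = 0)
    (h1 : A * B * A = 0) (h2 : B * A * B = 0) (ee : dd e = A) (ef : dd f = B) :
    dd (e * f * e⁻¹ * f⁻¹) = A * B - B * A := by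
  have hA2 : ∀ C, A * (A * C) = 0 := fun C => by rw [← mul_assoc, hA, zero_mul]
  have hB2 : ∀ C, B * (B * C) = 0 := fun C => by rw [← mul_assoc, hB, zero_mul]
  have g1 : A * (B * A) = 0 := by rw [← mul_assoc, h1]
  have g2 : B * (A * B) = 0 := by rw [← mul_assoc, h2]
  have g1r : ∀ C, A * (B * (A * C)) = 0 := fun C => by rw [← mul_assoc, ← mul_assoc, h1, zero_mul]
  rw [dd_mul (e * f * e⁻¹), dd_inv (g := f) (by rw [ef, hB]), dd_conj (by rw [ee, hA]), ee, ef]
  simp only [mul_add, add_mul, mul_sub, sub_mul, one_mul, mul_one, mul_neg, neg_mul, mul_assoc, hA, hB, hA2, hB2, g1,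
    g2, g1r, mul_zero, sub_zero, add_zero, zero_add, neg_zero]
  abel

omit [FiniteDimensional k M] in
theorem unipotent_of_cube {S : Set (GeneralLinearGroup k M)} (hS : ∀ g ∈ S, g⁻¹ ∈ S) {L : Submodule k (Module.End k M)}
    (h : ∀ g ∈ S, dd g ∈ L) (h3 : L * L * L = ⊥) : IsUnipotentOn (Subgroup.closure S) := by
  have h4 : L * L * (L * L) = ⊥ := by rw [← mul_assoc, h3, Submodule.bot_mul]
  have hQ : (L ⊔ L * L) * (L ⊔ L * L) ≤ L ⊔ L * L := by
    rw [Submodule.sup_mul, Submodule.mul_sup, Submodule.mul_sup, ← mul_assoc L L L, h3, h4]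
    simp
  have hle := ddSpan_closure S hS _ hQ fun g hg => Submodule.mem_sup_left (h g hg)
  refine unipotent_iff.mpr ⟨3, eq_bot_iff.mpr ((pow_mono_left hle 3).trans ?_)⟩
  have h5 : ∀ A, L * L * (L * A) = ⊥ := fun A => by rw [← mul_assoc, h3, Submodule.bot_mul]
  rw [pow_succ, pow_two]
  simp only [Submodule.sup_mul, Submodule.mul_sup, mul_assoc]
  have h6 : L * (L * L) = ⊥ := by rw [← mul_assoc, h3]
  have h7 : ∀ A, L * (L * (L * A)) = ⊥ := fun A => by rw [← mul_assoc, h5]
  simp [h6, h7]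

/-- The spaces of a nilpotent pair have vanishing triple products. -/
theorem cube_bot (hk2 : ringChar k ≠ 2) (hk3 : Nat.card k ≠ 3) (hX : IsRoot G X) (hY : IsRoot G Y)
    (hN : IsNilpotent (X * Y)) : (sp G X ⊔ sp G Y) * (sp G X ⊔ sp G Y) * (sp G X ⊔ sp G Y) = ⊥ := by
  have key : ∀ (A B C : Module.End k M), (A ∈ sp G X ∨ A ∈ sp G Y) → (B ∈ sp G X ∨ B ∈ sp G Y) →
      (C ∈ sp G X ∨ C ∈ sp G Y) → A * B * C = 0 := by
    rintro A B C (a | a) (b | b) (c | c)
    · rw [sp_mul hX a b, zero_mul]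
    · rw [sp_mul hX a b, zero_mul]
    · exact triple hk2 hk3 hX hY hN a c b
    · rw [mul_assoc, sp_mul hY b c, mul_zero]
    · rw [mul_assoc, sp_mul hX b c, mul_zero]
    · exact triple hk2 hk3 hY hX (nilpotent_symm hN) a c b
    · rw [sp_mul hY a b, zero_mul]
    · rw [sp_mul hY a b, zero_mul]
  have hspan : sp G X ⊔ sp G Y = Submodule.span k ((sp G X : Set (Module.End k M)) ∪ sp G Y) := by
    rw [Submodule.span_union, Submodule.span_eq, Submodule.span_eq]
  rw [hspan, Submodule.span_mul_span, Submodule.span_mul_span, Submodule.span_eq_bot]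
  rintro _ ⟨_, ⟨A, hA, B, hB, rfl⟩, C, hC, rfl⟩
  exact key A B C hA hB hC

end Cfsg.Agent.Lib.QPair
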