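import Cfsg.Agent.Lib.QPair.RootSystem

/-!
# Non-commuting root groups are conjugate
-/

set_option autoImplicit false

namespace Cfsg.Agent.Lib.QPair

open Cfsg LinearMap
open scoped MatrixGroups commutatorElement

variable {k : Type*} [Field k] {M : Type*} [AddCommGroup M] [Module k M] [FiniteDimensional k M]
  {G : Subgroup (GeneralLinearGroup k M)} {X Y U R : Module.End k M}

/-- The subgroup generated by all root groups. -/
abbrev rootsGen (G : Subgroup (GeneralLinearGroup k M)) : Subgroup (GeneralLinearGroup k M) :=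
  ⨆ A ∈ quadraticRootSubgroups G, A

theorem root_group_le_gen {σ : GeneralLinearGroup k M} (hσ : σ ∈ minimalQuadraticElements G) :
    sameActionSubgroup G σ ≤ rootsGen G :=
  le_iSup₂ (f := fun B (_ : B ∈ quadraticRootSubgroups G) => B) _ ⟨σ, hσ, rfl⟩

theorem mem_gen_of_root (hX : IsRoot G X) {Z : Module.End k M} (hZ : Z ∈ sp G X) {g : GeneralLinearGroup k M}
    (hg : dd g = Z) : g ∈ rootsGen G := by
  obtain ⟨σ, hσ, e⟩ := exists_minimal hX
  obtain ⟨g', hg', eg⟩ := (sp_fam hZ).exists_mem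
  obtain rfl : g = g' := dd_injective (hg.trans eg.symm)
  exact root_group_le_gen hσ ((mem_root_group hσ).mpr ⟨hg', by rw [e, hg]; exact hZ⟩)

theorem exists_gen (hX : IsRoot G X) : ∃ g ∈ rootsGen G, dd g = X := by
  obtain ⟨g, -, e⟩ := hX.fam.exists_mem
  exact ⟨g, mem_gen_of_root hX (self_mem_sp hX) e, e⟩

/-- Conjugacy of root spaces under the group generated by the root groups. -/
def Linked (G : Subgroup (GeneralLinearGroup k M)) (X Y : Module.End k M) : Prop :=
  ∃ g ∈ rootsGen G, sp G (conjE g X) = sp G Y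

theorem Linked.refl (X : Module.End k M) : Linked G X X := ⟨1, one_mem _, by rw [conjE_one]⟩

theorem linked_of_sp (h : sp G X = sp G Y) : Linked G X Y := ⟨1, one_mem _, by rw [conjE_one, h]⟩

theorem sp_conjE_congr (hX : IsRoot G X) (hY : IsRoot G Y) (h : sp G X = sp G Y) {g : GeneralLinearGroup k M}
    (hg : g ∈ G) : sp G (conjE g X) = sp G (conjE g Y) :=
  sp_eq (hY.conj hg) (conj_mem_sp hY (h ▸ self_mem_sp hX) hg) fun e => hX.ne (conjE_eq_zero.mp e)

theorem Linked.trans {Z : Module.End k M} (hX : IsRoot G X) (hY : IsRoot G Y) (h : Linked G X Y) (h' : Linked G Y Z) :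
    Linked G X Z := by
  obtain ⟨g, hg, e⟩ := h
  obtain ⟨g', hg', e'⟩ := h'
  refine ⟨g' * g, mul_mem hg' hg, ?_⟩
  rw [← conjE_conjE, sp_conjE_congr (hX.conj (roots_le hg)) hY e (roots_le hg'), e']

theorem Linked.symm (hX : IsRoot G X) (hY : IsRoot G Y) (h : Linked G X Y) : Linked G Y X := by
  obtain ⟨g, hg, e⟩ := h
  refine ⟨g⁻¹, inv_mem hg, ?_⟩
  rw [← sp_conjE_congr (hX.conj (roots_le hg)) hY e (inv_mem (roots_le hg)), conjE_conjE, inv_mul_cancel, conjE_one]

theorem linked_of_good (hk2 : ringChar k ≠ 2) (hk3 : Nat.card k ≠ 3) (hX : IsRoot G X) (hY : IsRoot G Y)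
    (hN : ¬ IsNilpotent (X * Y)) : Linked G X Y := by
  obtain ⟨f, P⟩ := exists_good hk2 hk3 hX hY hN
  have : Fact (Irreducible f) := ⟨P.irr⟩
  obtain ⟨e, -, b, -, -, -, hee, hb, hb0, hconj, -⟩ := P.exists_swap hk2 hk3
  have heg : e ∈ rootsGen G := mem_gen_of_root hX (self_mem_sp hX) hee
  have hbg : b ∈ rootsGen G := mem_gen_of_root hY hb rfl
  refine ⟨e * b⁻¹ * e, mul_mem (mul_mem heg (inv_mem hbg)) heg, ?_⟩
  rw [hconj]
  exact sp_eq hY (neg_mem hb) (neg_ne_zero.mpr hb0)

/-- The data of a reduced element. -/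
structure Reduced (G : Subgroup (GeneralLinearGroup k M)) (U R X : Module.End k M) : Prop where
  root : IsRoot G X
  xu : X * U = 0
  ux : U * X = 0
  split : X * R * U + U * R * X = X

theorem Reduced.facts (hk2 : ringChar k ≠ 2) (hR : IsRoot G R) (hRUR : R * U * R = R) (h : Reduced G U R X) :
    X * R * X = 0 ∧ R * X * R = 0 ∧ IsRoot G (X * R - R * X) ∧ (X * R - R * X) * U - U * (X * R - R * X) = X := by
  have hsq : X * R * X * R = 0 := by
    have e : X * R * X * R + X * R * X * R = X * R * X * R := by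
      calc X * R * X * R + X * R * X * R = X * R * (X * R * U + U * R * X) * R := by
            rw [mul_add, add_mul]
            congr 1
            · calc X * R * X * R = X * R * X * (R * U * R) := by rw [hRUR]
                _ = _ := by simp only [mul_assoc]
            · calc X * R * X * R = X * (R * U * R) * X * R := by rw [hRUR]
                _ = _ := by simp only [mul_assoc]
        _ = _ := by rw [h.split]
    exact left_eq_add.mp e.symm
  obtain ⟨n1, n2⟩ := nilpotent_pair (Ring.two_ne_zero hk2) h.root hR ⟨2, by rw [pow_two, ← mul_assoc, hsq]⟩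
  have hE : (X * R - R * X) * U - U * (X * R - R * X) = X := by
    rw [sub_mul, mul_sub, mul_assoc R X U, h.xu, mul_zero, sub_zero, ← mul_assoc U X R, h.ux, zero_mul, zero_sub,
      sub_neg_eq_add, ← mul_assoc]
    exact h.split
  have hne : X * R - R * X ≠ 0 := fun e => h.root.ne (by rw [← hE, e, zero_mul, mul_zero, sub_zero])
  exact ⟨n1, n2, (comm_root h.root hR n1 n2 hne).1, hE⟩

/-- Two reduced elements with non-zero commutator are linked. -/
theorem reduced_linked (hk2 : ringChar k ≠ 2) (hk3 : Nat.card k ≠ 3) (hU : IsRoot G U) (hR : IsRoot G R)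
    (hRUR : R * U * R = R) (hX : Reduced G U R X) (hY : Reduced G U R Y) (hc : X * Y - Y * X = U) : Linked G X Y := by
  obtain ⟨xr, -, -, -⟩ := hX.facts hk2 hR hRUR
  obtain ⟨yr, ry, hD, hE⟩ := hY.facts hk2 hR hRUR
  set D := Y * R - R * Y with hDdef
  have hYX : Y * X = X * Y - U := by rw [← hc]; abel
  have key : X * D * X = X := by
    have e1 : X * Y * R * X = Y * X * R * X + U * R * X := by rw [hYX]; noncomm_ring
    have e2 : X * R * Y * X = X * R * X * Y - X * R * U := by rw [mul_assoc (X * R) Y X, hYX]; noncomm_ring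
    calc X * D * X = X * Y * R * X - X * R * Y * X := by rw [hDdef]; noncomm_ring
      _ = Y * (X * R * X) + U * R * X - (X * R * X * Y - X * R * U) := by rw [e1, e2]; simp only [mul_assoc]
      _ = X * R * U + U * R * X := by rw [xr]; simp; abel
      _ = X := hX.split
  have hN : ¬ IsNilpotent (X * D) := by
    rintro ⟨j, hj⟩
    have e : ∀ i : ℕ, (X * D) ^ i * X = X := by
      intro i
      induction i with
      | zero => rw [pow_zero, one_mul]
      | succ i ih => rw [pow_succ, mul_assoc, key, ih]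
    exact hX.root.ne (by rw [← e j, hj, zero_mul])
  refine (linked_of_good hk2 hk3 hX.root hD hN).trans hX.root hD ?_
  refine Linked.symm hY.root hD ?_
  obtain ⟨u, hu, eu⟩ := exists_gen hU
  obtain ⟨r, hr, er⟩ := exists_gen hR
  refine ⟨u * r⁻¹, mul_mem hu (inv_mem hr), ?_⟩
  congr 1
  have hr2 : dd r * dd r = 0 := by rw [er, hR.sq]
  have hu2 : dd u * dd u = 0 := by rw [eu, hU.sq]
  have e1 : conjE r⁻¹ Y = Y + D := by
    rw [conjE, inv_inv, inv_coe hr2, coe_eq r, er,
      show (1 - R) * Y * (1 + R) = Y + (Y * R - R * Y) - R * Y * R by noncomm_ring, ry, sub_zero]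
  have hUDU : U * D * U = 0 := by
    calc U * D * U = U * Y * (R * U) - U * R * (Y * U) := by rw [hDdef]; noncomm_ring
      _ = 0 := by rw [hY.ux, hY.xu]; simp
  rw [← conjE_conjE, e1, conjE, inv_coe hu2, coe_eq u, eu]
  calc (1 + U) * (Y + D) * (1 - U) = Y + D + U * Y - Y * U - U * Y * U - (D * U - U * D) - U * D * U := by
        noncomm_ring
    _ = D := by rw [hY.ux, hY.xu, zero_mul, hE, hUDU]; abel

/-- A class two pair and its commutator are linked. -/
theorem class_two_linked (hk2 : ringChar k ≠ 2) (hk3 : Nat.card k ≠ 3) (hG : IsQuadraticPair G) (hX : IsRoot G X)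
    (hY : IsRoot G Y) (hN : IsNilpotent (X * Y)) (hne : X * Y - Y * X ≠ 0) :
    ∃ R X' Y' : Module.End k M, IsRoot G R ∧ R * (X * Y - Y * X) * R = R ∧
      ¬ IsNilpotent ((X * Y - Y * X) * R) ∧
      Reduced G (X * Y - Y * X) R X' ∧ Reduced G (X * Y - Y * X) R Y' ∧ Linked G X X' ∧ Linked G Y Y' ∧
      X' * Y' - Y' * X' = X * Y - Y * X := by
  obtain ⟨n1, n2⟩ := nilp_all hk2 hk3 hX hY hN (self_mem_sp hX) (self_mem_sp hY)
  obtain ⟨hU, hxy, hyx, hUr, hUk⟩ := comm_root hX hY n1 n2 hne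
  set U := X * Y - Y * X with hUdef
  obtain ⟨R, hR, hURU, hRUR, -⟩ := exists_opposite hk2 hk3 hG hU
  have hXU : X * U = 0 := by rw [hUdef, mul_sub, ← mul_assoc, hX.sq, zero_mul, ← mul_assoc, n1, sub_zero]
  have hUX : U * X = 0 := by rw [hUdef, sub_mul, mul_assoc Y X X, hX.sq, mul_zero, n1, sub_zero]
  have hYU : Y * U = 0 := by rw [hUdef, mul_sub, ← mul_assoc, n2, ← mul_assoc, hY.sq, zero_mul, sub_zero]
  have hUY : U * Y = 0 := by rw [hUdef, sub_mul, mul_assoc X Y Y, hY.sq, mul_zero, n2, sub_zero]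
  have hXns : X ∉ sp G U := fun h => hne (sub_eq_zero.mpr
    (sp_commute_all hk2 hU hY (hUY.trans hYU.symm) h (self_mem_sp hY)))
  have hYns : Y ∉ sp G U := fun h => hne (sub_eq_zero.mpr
    (sp_commute_all hk2 hU hX (hUX.trans hXU.symm) h (self_mem_sp hX)).symm)
  have hcX : ∀ m, U m = 0 → X m ∈ range U := by
    intro m hm
    obtain ⟨_, ⟨u, rfl⟩, z, hz, rfl⟩ := Submodule.mem_sup.mp (hUk.le hm).2
    rw [map_add, show X z = 0 from hz, add_zero, hUr]
    exact Submodule.mem_sup_left (hxy.le ⟨u, rfl⟩)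
  have hcY : ∀ m, U m = 0 → Y m ∈ range U := by
    intro m hm
    obtain ⟨_, ⟨u, rfl⟩, z, hz, rfl⟩ := Submodule.mem_sup.mp (hUk.le hm).1
    rw [map_add, show Y z = 0 from hz, add_zero, hUr]
    exact Submodule.mem_sup_right (hyx.le ⟨u, rfl⟩)
  obtain ⟨hgX, hXr, -, -⟩ := reduce hk2 hk3 hX hU hR hURU hRUR hXU hUX hcX hXns
  obtain ⟨hgY, hYr, -, -⟩ := reduce hk2 hk3 hY hU hR hURU hRUR hYU hUY hcY hYns
  set γ := U * R * X * (R * U) with hγ
  set γ' := U * R * Y * (R * U) with hγ'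
  have split : ∀ Z, IsRoot G Z → Z * U = 0 → U * Z = 0 → (∀ m, U m = 0 → Z m ∈ range U) →
      U * R * Z * (R * U) ∈ sp G U → IsRoot G (Z - U * R * Z * (R * U)) →
      Reduced G U R (Z - U * R * Z * (R * U)) := by
    intro Z hZ zu uz hcore hg hroot
    have g1 : U * R * Z * (R * U) * U = 0 := sp_mul hU hg (self_mem_sp hU)
    have g2 : U * (U * R * Z * (R * U)) = 0 := sp_mul hU (self_mem_sp hU) hg
    refine ⟨hroot, by rw [sub_mul, zu, g1, sub_zero], by rw [mul_sub, uz, g2, sub_zero], ?_⟩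
    have cU : ∀ A, U * (R * (U * A)) = U * A := fun A => by rw [← mul_assoc, ← mul_assoc, hURU]
    have cU' : U * (R * U) = U := by rw [← mul_assoc, hURU]
    refine LinearMap.ext fun m => ?_
    have hk0 : U (m - R (U m)) = 0 := by
      rw [map_sub]; exact sub_eq_zero.mpr (LinearMap.congr_fun cU' m).symm
    obtain ⟨u, hu⟩ := hcore _ hk0
    have key : U (R (Z (m - R (U m)))) = Z (m - R (U m)) := by rw [← hu]; exact LinearMap.congr_fun cU' u
    simp only [mul_sub, sub_mul, mul_assoc, cU, cU']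
    simp only [map_sub] at key
    simp only [LinearMap.add_apply, LinearMap.sub_apply, Module.End.mul_apply]
    rw [key]
    abel
  have k1 : γ * Y = 0 := sp_mul_eq_zero hgX hUY
  have k2 : Y * γ = 0 := mul_sp_eq_zero hgX hYU
  have k3 : γ' * X = 0 := sp_mul_eq_zero hgY hUX
  have k4 : X * γ' = 0 := mul_sp_eq_zero hgY hXU
  have k5 : γ * γ' = 0 := sp_mul hU hgX hgY
  have k6 : γ' * γ = 0 := sp_mul hU hgY hgX
  have exy : (X - γ) * (Y - γ') = X * Y := by simp only [sub_mul, mul_sub, k1, k4, k5, sub_zero]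
  have eyx : (Y - γ') * (X - γ) = Y * X := by simp only [sub_mul, mul_sub, k2, k3, k6, sub_zero]
  have hc : (X - γ) * (Y - γ') - (Y - γ') * (X - γ) = U := by rw [exy, eyx]
  have hN' : IsNilpotent ((X - γ) * (Y - γ')) := exy.symm ▸ hN
  -- `X` and `X - γ` are conjugate by an element of the root group of `Y - γ'`
  have conjstep : ∀ A B δ : Module.End k M, IsRoot G A → IsRoot G B → IsNilpotent (A * B) → A * B - B * A ≠ 0 →
      sp G (A * B - B * A) = sp G U → δ ∈ sp G U → Linked G (A + δ) A := by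
    intro A B δ hA hB hAB hAB0 hs hδ
    obtain ⟨Z, hZ, hZe⟩ := comm_onto hk2 hk3 hG hA hB hAB hAB0 (Z := δ) (hs ▸ hδ) (self_mem_sp hA) hA.ne
    obtain ⟨e, he, ee⟩ := (sp_fam hZ).exists_mem
    have hZAZ : Z * A * Z = 0 := (nilp_all hk2 hk3 hA hB hAB (self_mem_sp hA) hZ).2
    refine ⟨e, mem_gen_of_root hB hZ ee, ?_⟩
    congr 1
    have he2 : dd e * dd e = 0 := by rw [ee]; exact sp_mul hB hZ hZ
    have hδZ : δ * Z = 0 ∧ Z * δ = 0 := by
      rw [← hZe]
      obtain ⟨c1, c2⟩ := nilp_all hk2 hk3 hA hB hAB (self_mem_sp hA) hZ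
      have z2 : Z * Z = 0 := sp_mul hB hZ hZ
      constructor
      · rw [sub_mul, mul_assoc A Z Z, z2, mul_zero, c2, sub_zero]
      · rw [mul_sub, ← mul_assoc Z A Z, c2, ← mul_assoc Z Z A, z2, zero_mul, sub_zero]
    rw [conjE, inv_coe he2, coe_eq e, ee]
    calc (1 + Z) * (A + δ) * (1 - Z) = A + δ - (A * Z - Z * A) - Z * A * Z + Z * δ - δ * Z - Z * δ * Z := by
          noncomm_ring
      _ = A := by rw [hZe, hZAZ, hδZ.1, hδZ.2, zero_mul]; abel
  have hlX : Linked G X (X - γ) := by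
    have := conjstep (X - γ) (Y - γ') γ hXr hYr hN' (by rw [hc]; exact hne) (by rw [hc]) hgX
    rwa [sub_add_cancel] at this
  have hlY : Linked G Y (Y - γ') := by
    have e : (Y - γ') * (X - γ) - (X - γ) * (Y - γ') = -U := by rw [← hc]; abel
    have := conjstep (Y - γ') (X - γ) γ' hYr hXr (nilpotent_symm hN') (by rw [e]; exact neg_ne_zero.mpr hne)
      (by rw [e]; exact sp_eq hU (neg_mem (self_mem_sp hU)) (neg_ne_zero.mpr hne)) hgY
    rwa [sub_add_cancel] at this
  refine ⟨R, X - γ, Y - γ', hR, hRUR, ?_, split X hX hXU hUX hcX hgX hXr, split Y hY hYU hUY hcY hgY hYr, hlX, hlY, hc⟩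
  rintro ⟨j, hj⟩
  have e : ∀ i : ℕ, (U * R) ^ i * U = U := by
    intro i
    induction i with
    | zero => rw [pow_zero, one_mul]
    | succ i ih => rw [pow_succ, mul_assoc, hURU, ih]
  exact hne (by rw [← e j, hj, zero_mul])

/-- Non-commuting roots are linked. -/
theorem linked_of_ne (hk2 : ringChar k ≠ 2) (hk3 : Nat.card k ≠ 3) (hG : IsQuadraticPair G) (hX : IsRoot G X)
    (hY : IsRoot G Y) (hne : X * Y - Y * X ≠ 0) : Linked G X Y := by
  by_cases hN : IsNilpotent (X * Y)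
  swap
  · exact linked_of_good hk2 hk3 hX hY hN
  obtain ⟨n1, n2⟩ := nilp_all hk2 hk3 hX hY hN (self_mem_sp hX) (self_mem_sp hY)
  obtain ⟨hU, -⟩ := comm_root hX hY n1 n2 hne
  obtain ⟨R, X', Y', hR, hRUR, -, rX, rY, lX, lY, hc⟩ := class_two_linked hk2 hk3 hG hX hY hN hne
  exact lX.trans hX rX.root ((reduced_linked hk2 hk3 hU hR hRUR rX rY hc).trans rX.root rY.root
    (lY.symm hY rY.root))

theorem linked_comm (hk2 : ringChar k ≠ 2) (hk3 : Nat.card k ≠ 3) (hG : IsQuadraticPair G) (hX : IsRoot G X)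
    (hY : IsRoot G Y) (hN : IsNilpotent (X * Y)) (hne : X * Y - Y * X ≠ 0) : Linked G X (X * Y - Y * X) := by
  obtain ⟨n1, n2⟩ := nilp_all hk2 hk3 hX hY hN (self_mem_sp hX) (self_mem_sp hY)
  obtain ⟨hU, -⟩ := comm_root hX hY n1 n2 hne
  obtain ⟨R, X', Y', hR, hRUR, hUR, rX, -, lX, -, -⟩ := class_two_linked hk2 hk3 hG hX hY hN hne
  obtain ⟨-, -, hD, -⟩ := rX.facts hk2 hR hRUR
  exact lX.trans hX rX.root ((linked_of_ne hk2 hk3 hG rX.root hR hD.ne).trans rX.root hR
    ((linked_of_good hk2 hk3 hU hR hUR).symm hU hR))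

end Cfsg.Agent.Lib.QPair
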