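import Mathlib

/-!
# Orthogonal polynomials for a moment sequence and continued fraction steps

For a sequence `s` with non-zero Hankel determinants and its shift `s'` with the same property, the monic orthogonal
polynomials `f r` (for `s`) and `g r` (for `s'`) satisfy `X g r = f (r+1) + e f r` and `f (r+1) = g (r+1) + q g r`
with `e` and `q` non-zero.
-/

set_option autoImplicit false

namespace Cfsg.Agent.Lib.QPair

open Polynomial

variable {k : Type*} [Field k]

/-- The functional with moments `s`. -/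
noncomputable def moment (s : ℕ → k) : k[X] →ₗ[k] k := (Polynomial.basisMonomials k).constr k s

theorem moment_monomial (s : ℕ → k) (n : ℕ) : moment s (X ^ n) = s n := by
  rw [← monomial_one_right_eq_X_pow, moment, ← Module.Basis.constr_basis (Polynomial.basisMonomials k) k s n]
  simp [Polynomial.coe_basisMonomials]

theorem moment_mul_X (s : ℕ → k) (p : k[X]) : moment s (X * p) = moment (fun n => s (n + 1)) p := by
  have h : (moment s).comp (LinearMap.mulLeft k X) = moment (fun n => s (n + 1)) := by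
    refine (Polynomial.basisMonomials k).ext fun n => ?_
    simp only [Polynomial.coe_basisMonomials, monomial_one_right_eq_X_pow, LinearMap.comp_apply,
      LinearMap.mulLeft_apply]
    rw [← pow_succ', moment_monomial, moment_monomial]
  exact LinearMap.congr_fun h p

/-- The Hankel matrix. -/
def hankel (s : ℕ → k) (r : ℕ) : Matrix (Fin r) (Fin r) k := Matrix.of fun i j => s ((i : ℕ) + (j : ℕ))

theorem moment_sum (s : ℕ → k) {r : ℕ} (v : Fin r → k) (i : Fin r) :
    moment s (X ^ (i : ℕ) * ∑ j : Fin r, v j • X ^ (j : ℕ)) = (hankel s r).mulVec v i := by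
  simp only [Finset.mul_sum, mul_smul_comm, map_sum, map_smul, ← pow_add, moment_monomial, smul_eq_mul,
    Matrix.mulVec, dotProduct, hankel, Matrix.of_apply]
  exact Finset.sum_congr rfl fun j _ => mul_comm _ _

theorem eq_sum_fin {p : k[X]} {r : ℕ} (hp : p.degree < r) : p = ∑ j : Fin r, p.coeff j • X ^ (j : ℕ) := by
  by_cases h0 : p = 0
  · simp [h0]
  have h1 : p.natDegree < r := (natDegree_lt_iff_degree_lt h0).mpr hp
  conv_lhs => rw [as_sum_range' p r h1]
  rw [Finset.sum_range fun i => monomial i (p.coeff i)]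
  refine Finset.sum_congr rfl fun j _ => ?_
  rw [smul_eq_C_mul, C_mul_X_pow_eq_monomial]

/-- Orthogonal polynomials of a given degree are unique. -/
theorem orth_zero {s : ℕ → k} {r : ℕ} (hd : (hankel s r).det ≠ 0) {p : k[X]} (hp : p.degree < r)
    (ho : ∀ i < r, moment s (X ^ i * p) = 0) : p = 0 := by
  have h1 : (hankel s r).mulVec (fun j : Fin r => p.coeff j) = 0 := funext fun i => by
    rw [← moment_sum, ← eq_sum_fin hp]
    exact ho i i.2
  have h2 : (fun j : Fin r => p.coeff j) = 0 := by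
    by_contra h
    exact hd (Matrix.exists_mulVec_eq_zero_iff.mp ⟨_, h, h1⟩)
  rw [eq_sum_fin hp]
  exact Finset.sum_eq_zero fun j _ => by rw [show p.coeff j = 0 from congrFun h2 j, zero_smul]

/-- Existence of orthogonal polynomials. -/
theorem exists_orth {s : ℕ → k} {r : ℕ} (hd : (hankel s r).det ≠ 0) :
    ∃ p : k[X], p.Monic ∧ p.degree = r ∧ ∀ i < r, moment s (X ^ i * p) = 0 := by
  obtain ⟨v, hv⟩ := Matrix.mulVec_surjective_iff_isUnit.mpr ((Matrix.isUnit_iff_isUnit_det _).mpr hd.isUnit)
    (fun i : Fin r => -s ((i : ℕ) + r))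
  have hdeg : (∑ j : Fin r, v j • (X : k[X]) ^ (j : ℕ)).degree < r := by
    refine lt_of_le_of_lt (degree_sum_le _ _) ((Finset.sup_lt_iff (WithBot.bot_lt_coe r)).mpr fun j _ => ?_)
    rw [smul_eq_C_mul]
    exact lt_of_le_of_lt (degree_C_mul_X_pow_le _ _) (WithBot.coe_lt_coe.mpr j.2)
  refine ⟨X ^ r + ∑ j : Fin r, v j • X ^ (j : ℕ), monic_X_pow_add hdeg, ?_, fun i hi => ?_⟩
  · rw [degree_add_eq_left_of_degree_lt (by rwa [degree_X_pow]), degree_X_pow]
  · rw [mul_add, map_add, ← pow_add, moment_monomial,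
      show X ^ i * ∑ j : Fin r, v j • X ^ (j : ℕ) = X ^ ((⟨i, hi⟩ : Fin r) : ℕ) * ∑ j : Fin r, v j • X ^ (j : ℕ) from rfl,
      moment_sum, hv]
    exact add_neg_cancel _

theorem sub_deg_lt {p q : k[X]} {r : ℕ} (hp : p.Monic) (hq : q.Monic) (hpd : p.degree = r) (hqd : q.degree = r) :
    (p - q).degree < r := by
  have := degree_sub_lt (hpd.trans hqd.symm) hp.ne_zero (by rw [hp.leadingCoeff, hq.leadingCoeff])
  rwa [hpd] at this

/-- The step `X g = f' + e f`. -/
theorem step_even {s : ℕ → k} {r : ℕ} (hd : (hankel s r).det ≠ 0)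
    (hd' : (hankel (fun n => s (n + 1)) (r + 1)).det ≠ 0) {f f' g : k[X]}
    (hf : f.Monic ∧ f.degree = r ∧ ∀ i < r, moment s (X ^ i * f) = 0)
    (hf' : f'.Monic ∧ f'.degree = (r + 1 : ℕ) ∧ ∀ i < r + 1, moment s (X ^ i * f') = 0)
    (hg : g.Monic ∧ g.degree = r ∧ ∀ i < r, moment (fun n => s (n + 1)) (X ^ i * g) = 0) :
    ∃ e : k, e ≠ 0 ∧ X * g = f' + C e * f := by
  set D := X * g - f' with hD
  have hXg : (X * g).Monic := monic_X.mul hg.1
  have hXgd : (X * g).degree = ((r + 1 : ℕ) : WithBot ℕ) := by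
    rw [degree_mul, degree_X, hg.2.1]; push_cast; rw [add_comm]
  have hDd : D.degree < (r + 1 : ℕ) := sub_deg_lt hXg hf'.1 hXgd hf'.2.1
  set e := D.coeff r
  have hEd : (D - C e * f).degree < r := by
    rw [degree_lt_iff_coeff_zero]
    intro m hm
    rw [coeff_sub, coeff_C_mul]
    rcases eq_or_lt_of_le hm with h | h
    · subst h
      have h2 : f.coeff r = 1 := by
        have := hf.1
        rwa [Monic, leadingCoeff, natDegree_eq_of_degree_eq_some hf.2.1] at this
      rw [h2, mul_one, sub_self]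
    · rw [coeff_eq_zero_of_degree_lt (lt_of_lt_of_le hDd (by exact_mod_cast h)),
        coeff_eq_zero_of_degree_lt (p := f) (by rw [hf.2.1]; exact_mod_cast h), mul_zero, sub_zero]
  have hzero : D - C e * f = 0 := orth_zero hd hEd fun i hi => by
    rw [hD, mul_sub, mul_sub, map_sub, map_sub, ← mul_assoc, ← pow_succ, pow_succ', mul_assoc, moment_mul_X,
      hg.2.2 i hi, hf'.2.2 i (by omega), mul_left_comm, ← smul_eq_C_mul, map_smul, hf.2.2 i hi]
    simp
  refine ⟨e, fun he => ?_, ?_⟩
  · have h1 : X * g = f' := sub_eq_zero.mp (by rwa [he, map_zero, zero_mul, sub_zero] at hzero)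
    refine hg.1.ne_zero (orth_zero hd' (by rw [hg.2.1]; exact_mod_cast Nat.lt_succ_self r) fun i hi => ?_)
    rw [← moment_mul_X, ← mul_assoc, ← pow_succ', pow_succ, mul_assoc, h1]
    exact hf'.2.2 i hi
  · linear_combination hzero

/-- The step `f' = g' + q g`. -/
theorem step_odd {s : ℕ → k} {r : ℕ} (hd : (hankel (fun n => s (n + 1)) r).det ≠ 0)
    (hd' : (hankel s (r + 2)).det ≠ 0) {f' g g' : k[X]}
    (hf' : f'.Monic ∧ f'.degree = (r + 1 : ℕ) ∧ ∀ i < r + 1, moment s (X ^ i * f') = 0)
    (hg' : g'.Monic ∧ g'.degree = (r + 1 : ℕ) ∧ ∀ i < r + 1, moment (fun n => s (n + 1)) (X ^ i * g') = 0)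
    (hg : g.Monic ∧ g.degree = r ∧ ∀ i < r, moment (fun n => s (n + 1)) (X ^ i * g) = 0) :
    ∃ q : k, q ≠ 0 ∧ f' = g' + C q * g := by
  set D := f' - g' with hD
  have hDd : D.degree < (r + 1 : ℕ) := sub_deg_lt hf'.1 hg'.1 hf'.2.1 hg'.2.1
  set q := D.coeff r
  have hEd : (D - C q * g).degree < r := by
    rw [degree_lt_iff_coeff_zero]
    intro m hm
    rw [coeff_sub, coeff_C_mul]
    rcases eq_or_lt_of_le hm with h | h
    · subst h
      have h2 : g.coeff r = 1 := by
        have := hg.1
        rwa [Monic, leadingCoeff, natDegree_eq_of_degree_eq_some hg.2.1] at this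
      rw [h2, mul_one, sub_self]
    · rw [coeff_eq_zero_of_degree_lt (lt_of_lt_of_le hDd (by exact_mod_cast h)),
        coeff_eq_zero_of_degree_lt (p := g) (by rw [hg.2.1]; exact_mod_cast h), mul_zero, sub_zero]
  have hzero : D - C q * g = 0 := orth_zero hd hEd fun i hi => by
    rw [hD, mul_sub, mul_sub, map_sub, map_sub, ← moment_mul_X s (X ^ i * f'), ← mul_assoc, ← pow_succ',
      hf'.2.2 (i + 1) (by omega), hg'.2.2 i (by omega), mul_left_comm, ← smul_eq_C_mul, map_smul, hg.2.2 i hi]
    simp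
  refine ⟨q, fun he => ?_, ?_⟩
  · have h1 : f' = g' := sub_eq_zero.mp (by rwa [he, map_zero, zero_mul, sub_zero] at hzero)
    refine hf'.1.ne_zero (orth_zero hd' (by rw [hf'.2.1]; exact_mod_cast Nat.lt_succ_self (r + 1)) fun i hi => ?_)
    rcases Nat.eq_zero_or_eq_succ_pred i with h | h
    · exact h ▸ hf'.2.2 0 (by omega)
    · rw [h, pow_succ', mul_assoc, moment_mul_X, h1]
      exact hg'.2.2 _ (by omega)
  · linear_combination hzero

/-- The determinant as a function of the first moment. -/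
theorem exists_first_moment [Infinite k] (u : ℕ → k) (N : ℕ)
    (hu : ∀ r ≤ N, (hankel (fun n => u (n + 2)) r).det ≠ 0) :
    ∃ t : k, ∀ r ≤ N, (hankel (fun n => if n = 0 then t else u n) (r + 1)).det ≠ 0 := by
  have hdet : ∀ r, ∃ c : k, ∀ t, (hankel (fun n => if n = 0 then t else u n) (r + 1)).det =
      t * (hankel (fun n => u (n + 2)) r).det + c := by
    intro r
    refine ⟨∑ i : Fin r, (-1) ^ ((Fin.succ i : Fin (r+1)) : ℕ) * u ((Fin.succ i : Fin (r+1)) : ℕ) *
      ((hankel u (r + 1)).submatrix Fin.succ (Fin.succ i).succAbove).det, fun t => ?_⟩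
    have hsub : ∀ j : Fin (r + 1), (hankel (fun n => if n = 0 then t else u n) (r + 1)).submatrix Fin.succ j.succAbove =
        (hankel u (r + 1)).submatrix Fin.succ j.succAbove := fun j => by
      ext i' j'
      simp only [Matrix.submatrix_apply, hankel, Matrix.of_apply]
      rw [if_neg (by simp)]
    rw [Matrix.det_succ_row_zero, Fin.sum_univ_succ]
    congr 1
    · rw [hsub]
      simp only [Fin.succAbove_zero]
      have h0 : (hankel u (r + 1)).submatrix Fin.succ Fin.succ = hankel (fun n => u (n + 2)) r := by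
        ext i' j'
        simp only [Matrix.submatrix_apply, hankel, Matrix.of_apply, Fin.val_succ]
        congr 1
        omega
      rw [h0]
      simp [hankel]
    · refine Finset.sum_congr rfl fun i _ => ?_
      rw [hsub]
      simp [hankel]
  classical
  choose c hc using hdet
  obtain ⟨t, ht⟩ := Finset.exists_notMem
    ((Finset.range (N + 1)).image fun r => -c r / (hankel (fun n => u (n + 2)) r).det)
  refine ⟨t, fun r hr e => ht (Finset.mem_image.mpr ⟨r, Finset.mem_range.mpr (Nat.lt_succ_of_le hr), ?_⟩)⟩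
  rw [hc] at e
  rw [div_eq_iff (hu r hr)]
  linear_combination -e

end Cfsg.Agent.Lib.QPair
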