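import Mathlib
import Cfsg.Agent.Lib.Linear.DicksonTwo
import Cfsg.Agent.Lib.QPair.Hankel

/-!
# Generation of `SL₂(k(α))` by the two root groups over `k`

If `F = k(α)` with `α ≠ 0`, the characteristic of `k` is odd and `k` has not three elements, then the upper
unitriangular matrices over `k` and the lower ones over `k α` generate `SL₂(F)`.
-/

set_option autoImplicit false

namespace Cfsg.Agent.Lib.QPair

open Matrix Polynomial Cfsg.Lib.Linear.Dickson
open scoped MatrixGroups

variable {k F : Type*} [Field k] [Field F] [Algebra k F]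

theorem moment_eval (α : F) (φ : F →ₗ[k] k) (p : k[X]) : moment (fun m => φ (α ^ m)) p = φ (aeval α p) := by
  have h : moment (fun m => φ (α ^ m)) = φ.comp (aeval α).toLinearMap := by
    refine (Polynomial.basisMonomials k).ext fun m => ?_
    simp only [Polynomial.coe_basisMonomials, monomial_one_right_eq_X_pow, LinearMap.comp_apply]
    rw [moment_monomial]
    simp
  exact LinearMap.congr_fun h p

/-- The Hankel matrix of `m ↦ φ (θ α ^ (m + s))`, linearly in `θ`. -/
noncomputable def hankelMap (φ : F →ₗ[k] k) (α : F) (s r : ℕ) : F →ₗ[k] Matrix (Fin r) (Fin r) k where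
  toFun θ := hankel (fun m => φ (θ * α ^ (m + s))) r
  map_add' a b := by ext i j; simp [hankel, add_mul]
  map_smul' c a := by ext i j; simp [hankel]

/-- On a line through a good point only finitely many points are bad. -/
theorem line_finite {r : ℕ} (L : F →ₗ[k] Matrix (Fin r) (Fin r) k) {a : F} (ha : (L a).det ≠ 0) (b : F) :
    {s : k | (L (a + s • b)).det = 0}.Finite := by
  classical
  let P : k[X] := (Matrix.of fun i j => C (L a i j) + X * C (L b i j)).det
  have hP : ∀ s : k, P.eval s = (L (a + s • b)).det := fun s => by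
    show (evalRingHom s) P = _
    rw [RingHom.map_det]
    congr 1
    ext i j
    simp [map_add, map_smul]
    ring
  have h0 : P ≠ 0 := fun h => ha (by simpa [h] using (hP 0).symm)
  refine (P.roots.toFinset.finite_toSet).subset fun s hs => ?_
  simp only [Finset.mem_coe, Multiset.mem_toFinset, mem_roots h0, IsRoot.def, hP]
  exact hs

/-- A common good point. -/
theorem exists_common [Infinite k] {ι : Type*} (r : ι → ℕ) (L : ∀ i, F →ₗ[k] Matrix (Fin (r i)) (Fin (r i)) k)
    (S : Finset ι) (h : ∀ i ∈ S, ∃ a, (L i a).det ≠ 0) : ∃ a, ∀ i ∈ S, (L i a).det ≠ 0 := by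
  classical
  induction S using Finset.induction_on with
  | empty => exact ⟨0, by simp⟩
  | @insert j S hj ih =>
    obtain ⟨a, ha⟩ := ih fun i hi => h i (Finset.mem_insert_of_mem hi)
    obtain ⟨b, hb⟩ := h j (Finset.mem_insert_self _ _)
    have hfin : ((⋃ i ∈ S, {s : k | (L i (a + s • b)).det = 0}) ∪
        ({0} ∪ {s : k | (L j (b + s • a)).det = 0}.image (·⁻¹))).Finite :=
      (S.finite_toSet.biUnion fun i hi => line_finite (L i) (ha i hi) b).union
        ((Set.finite_singleton 0).union ((line_finite (L j) hb a).image _))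
    obtain ⟨s, hs⟩ := hfin.exists_notMem
    simp only [Set.mem_union, Set.mem_iUnion, Set.mem_singleton_iff, Set.mem_image, Set.mem_setOf_eq,
      not_or, not_exists, not_and] at hs
    obtain ⟨hs1, hs0, hs2⟩ := hs
    refine ⟨a + s • b, fun i hi => ?_⟩
    rcases Finset.mem_insert.mp hi with rfl | hi
    · intro e
      refine hs2 s⁻¹ ?_ (inv_inv s)
      have e2 : a + s • b = s • (b + s⁻¹ • a) := by
        rw [smul_add, smul_smul, mul_inv_cancel₀ hs0, one_smul, add_comm]
      rw [e2, map_smul, Matrix.det_smul] at e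
      exact (mul_eq_zero.mp e).resolve_left (pow_ne_zero _ hs0)
    · exact hs1 i hi

section Infinite

variable (pb : PowerBasis k F)

/-- The coefficient of the highest power. -/
noncomputable def topCoord : F →ₗ[k] k := pb.basis.coord ⟨pb.dim - 1, by have := pb.dim_pos; omega⟩

theorem topCoord_pow {i : ℕ} (hi : i < pb.dim) : topCoord pb (pb.gen ^ i) = if i + 1 = pb.dim then 1 else 0 := by
  rw [topCoord, ← pb.basis_eq_pow ⟨i, hi⟩, Module.Basis.coord_apply, Module.Basis.repr_self, Finsupp.single_apply]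
  simp only [Fin.ext_iff]
  have := pb.dim_pos
  split_ifs <;> first | rfl | omega

theorem eq_zero_of_topCoord {x : F} (h : ∀ i < pb.dim, topCoord pb (x * pb.gen ^ i) = 0) : x = 0 := by
  by_contra hx
  have h1 : (topCoord pb).comp (LinearMap.mulLeft k x) = 0 := by
    refine pb.basis.ext fun i => ?_
    simp only [pb.basis_eq_pow, LinearMap.comp_apply, LinearMap.mulLeft_apply, LinearMap.zero_apply]
    exact h i i.2
  have h2 := LinearMap.congr_fun h1 (x⁻¹ * pb.gen ^ (pb.dim - 1))
  have := pb.dim_pos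
  rw [LinearMap.comp_apply, LinearMap.mulLeft_apply, ← mul_assoc, mul_inv_cancel₀ hx, one_mul,
    topCoord_pow pb (by omega), if_pos (by omega)] at h2
  exact one_ne_zero h2

theorem exists_topCoord_eq (v : Fin pb.dim → k) : ∃ x : F, ∀ i : Fin pb.dim, topCoord pb (x * pb.gen ^ (i : ℕ)) = v i := by
  have := pb.finite
  let L : F →ₗ[k] (Fin pb.dim → k) :=
    { toFun := fun x i => topCoord pb (x * pb.gen ^ (i : ℕ))
      map_add' := fun a b => by ext i; simp [add_mul]
      map_smul' := fun c a => by ext i; simp }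
  have hinj : Function.Injective L := (injective_iff_map_eq_zero L).mpr fun x hx =>
    eq_zero_of_topCoord pb fun i hi => congrFun hx ⟨i, hi⟩
  have hfr : Module.finrank k F = Module.finrank k (Fin pb.dim → k) := by
    rw [pb.finrank, Module.finrank_fin_fun]
  obtain ⟨x, hx⟩ := ((LinearMap.injective_iff_surjective_of_finrank_eq_finrank hfr).mp hinj) v
  exact ⟨x, congrFun hx⟩

theorem exists_witness (hα : pb.gen ≠ 0) {r : ℕ} (hr : r ≤ pb.dim) (s : ℕ) :
    ∃ θ, (hankelMap (topCoord pb) pb.gen s r θ).det ≠ 0 := by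
  classical
  obtain ⟨x, hx⟩ := exists_topCoord_eq pb fun i : Fin pb.dim => if (i : ℕ) + 1 = r then 1 else 0
  refine ⟨x / pb.gen ^ s, fun hd => ?_⟩
  obtain ⟨v, hv0, hv⟩ := Matrix.exists_mulVec_eq_zero_iff.mpr hd
  have hs : ∀ m, m + 1 ≤ r → topCoord pb (x / pb.gen ^ s * pb.gen ^ (m + s)) = if m + 1 = r then 1 else 0 := by
    intro m hm
    rw [pow_add, ← mul_assoc, mul_right_comm, div_mul_cancel₀ _ (pow_ne_zero _ hα)]
    exact hx ⟨m, by omega⟩
  refine hv0 (funext fun j => ?_)
  suffices ∀ d : ℕ, ∀ j : Fin r, (j : ℕ) + d + 1 = r → v j = 0 from this (r - 1 - j) j (by omega)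
  intro d
  induction d using Nat.strong_induction_on with
  | _ d ih =>
    intro j hj
    have h1 := congrFun hv ⟨d, by omega⟩
    simp only [Matrix.mulVec, dotProduct, Pi.zero_apply] at h1
    rw [Finset.sum_eq_single j] at h1
    · simp only [hankelMap, LinearMap.coe_mk, AddHom.coe_mk, hankel, Matrix.of_apply] at h1
      rwa [hs _ (by omega), if_pos (by omega), one_mul] at h1
    · intro j' _ hne
      simp only [hankelMap, LinearMap.coe_mk, AddHom.coe_mk, hankel, Matrix.of_apply]
      rcases lt_or_gt_of_ne (Fin.val_ne_of_ne hne) with hlt | hlt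
      · rw [hs _ (by omega), if_neg (by omega), zero_mul]
      · rw [ih (r - 1 - (j' : ℕ)) (by omega) j' (by omega), mul_zero]
    · intro h; exact absurd (Finset.mem_univ j) h

theorem hankelMap_full {θ : F} (hθ : θ ≠ 0) (hα : pb.gen ≠ 0) (s : ℕ) :
    (hankelMap (topCoord pb) pb.gen s pb.dim θ).det ≠ 0 := by
  intro hd
  obtain ⟨v, hv0, hv⟩ := Matrix.exists_mulVec_eq_zero_iff.mpr hd
  have h1 : θ * pb.gen ^ s * ∑ j, v j • pb.basis j = 0 := by
    refine eq_zero_of_topCoord pb fun i hi => ?_
    have h2 := congrFun hv ⟨i, hi⟩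
    simp only [hankelMap, LinearMap.coe_mk, AddHom.coe_mk, Matrix.mulVec, dotProduct, hankel, Matrix.of_apply,
      Pi.zero_apply] at h2
    simp only [Finset.mul_sum, Finset.sum_mul, map_sum, pb.basis_eq_pow, mul_smul_comm, smul_mul_assoc, map_smul,
      smul_eq_mul]
    refine (Finset.sum_congr rfl fun j _ => ?_).trans h2
    rw [mul_comm (v j)]
    congr 2
    rw [pow_add, pow_add]
    ring
  have h2 := (mul_eq_zero.mp h1).resolve_left (mul_ne_zero hθ (pow_ne_zero _ hα))
  exact hv0 (funext fun j => Fintype.linearIndependent_iff.mp pb.basis.linearIndependent v h2 j)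

/-- The upper triangular element of the group attached to a good `θ`. -/
theorem exists_upper (hα : pb.gen ≠ 0) (H : Subgroup SL(2, F)) (hU : ∀ c : k, tU (algebraMap k F c) ∈ H)
    (hL : ∀ c : k, tL (algebraMap k F c * pb.gen) ∈ H) [Infinite k] {θ : F}
    (hθ : ∀ r ≤ pb.dim, ∀ s < 2, (hankelMap (topCoord pb) pb.gen s r θ).det ≠ 0) :
    ∃ h ∈ H, h 1 0 = 0 ∧ ∃ κ : k, κ ≠ 0 ∧ h 0 0 * θ = algebraMap k F κ := by
  classical
  set n := pb.dim with hn
  set α := pb.gen with hαdef
  set s' : ℕ → k := fun m => topCoord pb (θ * α ^ m) with hs'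
  have hd' : ∀ r ≤ n, (hankel s' r).det ≠ 0 := fun r hr => hθ r hr 0 two_pos
  obtain ⟨t, ht⟩ := exists_first_moment (fun m => s' (m - 1)) n fun r hr => by
    have := hθ r hr 1 one_lt_two
    simpa [hankelMap, hs'] using this
  set s : ℕ → k := fun m => if m = 0 then t else s' (m - 1) with hsdef
  have hs1 : (fun m => s (m + 1)) = s' := funext fun m => by simp [hsdef]
  have hd : ∀ r ≤ n + 1, (hankel s r).det ≠ 0 := by
    intro r hr
    rcases Nat.eq_zero_or_eq_succ_pred r with h | h
    · subst h; simp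
    · rw [h]; exact ht _ (by omega)
  have hmom : ∀ p : k[X], moment s' p = topCoord pb (θ * aeval α p) := fun p =>
    moment_eval α ((topCoord pb).comp (LinearMap.mulLeft k θ)) p
  have key : ∀ r ≤ n, ∀ f g : k[X], (f.Monic ∧ f.degree = r ∧ ∀ i < r, moment s (Polynomial.X ^ i * f) = 0) →
      (g.Monic ∧ g.degree = r ∧ ∀ i < r, moment s' (Polynomial.X ^ i * g) = 0) →
      ∃ h ∈ H, ∃ c d : k, c ≠ 0 ∧ d ≠ 0 ∧ h 0 0 = algebraMap k F c * aeval α f ∧
        h 1 0 = algebraMap k F d * (α * aeval α g) := by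
    intro r
    induction r with
    | zero =>
      intro _ f g hf hg
      rw [eq_one_of_monic_natDegree_zero hf.1 (natDegree_eq_of_degree_eq_some hf.2.1),
        eq_one_of_monic_natDegree_zero hg.1 (natDegree_eq_of_degree_eq_some hg.2.1)]
      exact ⟨tL (algebraMap k F 1 * α), hL 1, 1, 1, one_ne_zero, one_ne_zero, by simp [tL_coe], by simp [tL_coe]⟩
    | succ r ih =>
      intro hr f' g' hf' hg'
      obtain ⟨f, hf⟩ := exists_orth (hd r (by omega))
      obtain ⟨g, hg⟩ := exists_orth (hd' r (by omega))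
      obtain ⟨h, hh, c, d, hc, hdne, h00, h10⟩ := ih (by omega) f g hf hg
      obtain ⟨e, he, hev⟩ := step_even (hd r (by omega)) (by rw [hs1]; exact hd' (r + 1) hr) hf hf'
        (by rw [hs1]; exact hg)
      obtain ⟨q, hq, hodd⟩ := step_odd (by rw [hs1]; exact hd' r (by omega)) (hd (r + 2) (by omega)) hf'
        (by rw [hs1]; exact hg') (by rw [hs1]; exact hg)
      replace hev := congrArg (aeval α) hev
      replace hodd := congrArg (aeval α) hodd
      simp only [map_add, map_mul, aeval_C, aeval_X] at hev hodd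
      refine ⟨tL (algebraMap k F (d * e / (q * c)) * α) * (tU (algebraMap k F (-(c / (e * d)))) * h),
        mul_mem (hL _) (mul_mem (hU _) hh), -(c / e), -(d / q), by simp [hc, he], by simp [hdne, hq], ?_, ?_⟩
      · simp only [Cfsg.Lib.Linear.Dickson.mul_apply', tU_coe, tL_coe]
        simp [h00, h10, map_div₀]
        have hc' := (map_ne_zero (algebraMap k F)).mpr hdne
        have he' := (map_ne_zero (algebraMap k F)).mpr he
        field_simp
        linear_combination -(algebraMap k F c) * hev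
      · simp only [Cfsg.Lib.Linear.Dickson.mul_apply', tU_coe, tL_coe]
        simp [h00, h10, map_div₀]
        have hd'' := (map_ne_zero (algebraMap k F)).mpr hdne
        have he' := (map_ne_zero (algebraMap k F)).mpr he
        have hc' := (map_ne_zero (algebraMap k F)).mpr hc
        have hq' := (map_ne_zero (algebraMap k F)).mpr hq
        field_simp
        linear_combination -hev - hodd
  have := pb.finite
  have hint : IsIntegral k α := IsIntegral.of_finite k α
  have hgm : (minpoly k α).Monic ∧ (minpoly k α).degree = n ∧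
      ∀ i < n, moment s' (Polynomial.X ^ i * minpoly k α) = 0 :=
    ⟨minpoly.monic hint, by rw [degree_eq_natDegree (minpoly.ne_zero hint), hαdef, pb.natDegree_minpoly],
      fun i _ => by rw [hmom]; simp⟩
  have hpos := pb.dim_pos
  obtain ⟨f, hf⟩ := exists_orth (hd n (by omega))
  obtain ⟨g₁, hg₁⟩ := exists_orth (hd' (n - 1) (by omega))
  obtain ⟨m, hm⟩ : ∃ m, n = m + 1 := ⟨n - 1, by omega⟩
  rw [show n - 1 = m by omega] at hg₁
  obtain ⟨h, hh, c, d, hc, hdne, h00, h10⟩ := key n le_rfl f _ hf hgm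
  obtain ⟨q, hq, hodd⟩ := step_odd (by rw [hs1]; exact hd' m (by omega)) (hd (m + 2) (by omega))
    (hm ▸ hf) (by rw [hs1]; exact hm ▸ hgm) (by rw [hs1]; exact hg₁)
  replace hodd := congrArg (aeval α) hodd
  simp only [map_add, map_mul, aeval_C, minpoly.aeval, zero_add] at hodd
  rw [minpoly.aeval, mul_zero, mul_zero] at h10
  have hx : θ * aeval α g₁ = algebraMap k F (topCoord pb (θ * aeval α g₁ * α ^ m)) := by
    refine sub_eq_zero.mp (eq_zero_of_topCoord pb fun i hi => ?_)
    rw [sub_mul, map_sub, ← Algebra.smul_def, map_smul, smul_eq_mul, topCoord_pow pb hi]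
    split_ifs with h'
    · rw [show i = m by omega, mul_one, sub_self]
    · rw [mul_zero, sub_zero]
      have := hg₁.2.2 i (by omega)
      rw [hmom] at this
      simpa [mul_assoc, mul_comm (α ^ i)] using this
  have hval : h 0 0 * θ = algebraMap k F (c * q * topCoord pb (θ * aeval α g₁ * α ^ m)) := by
    rw [h00, hodd, map_mul, map_mul, ← hx]
    ring
  refine ⟨h, hh, h10, _, fun e => ?_, hval⟩
  rw [e, map_zero] at hval
  have hθ0 : θ ≠ 0 := by
    rintro rfl
    exact hθ 1 (by omega) 0 two_pos (by simp)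
  have hdet := det_eq h
  rw [h10, (mul_eq_zero.mp hval).resolve_right hθ0] at hdet
  simp at hdet

theorem conj_tU {h : SL(2, F)} (h10 : h 1 0 = 0) (x : F) : h * tU x * h⁻¹ = tU (h 0 0 * h 0 0 * x) := by
  have hd := det_eq h
  rw [h10, mul_zero, sub_zero] at hd
  apply ext_two <;>
    simp only [Cfsg.Lib.Linear.Dickson.mul_apply', (inv_apply00 _).1, (inv_apply00 _).2.1, (inv_apply00 _).2.2.1, (inv_apply00 _).2.2.2] <;>
    simp [tU_coe, h10]
  · linear_combination hd
  · ring
  · linear_combination hd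

/-- All translations, in the infinite case. -/
theorem mem_trans_infinite [Infinite k] (hα : pb.gen ≠ 0) (h2 : (2 : k) ≠ 0) (H : Subgroup SL(2, F))
    (hU : ∀ c : k, tU (algebraMap k F c) ∈ H) (hL : ∀ c : k, tL (algebraMap k F c * pb.gen) ∈ H) (x : F) :
    tU x ∈ H := by
  classical
  have := pb.finite
  let W : Submodule k F :=
    { carrier := {y | ∀ c : k, tU (c • y) ∈ H}
      add_mem' := fun {a b} ha hb c => by rw [smul_add, ← tU_mul]; exact mul_mem (ha c) (hb c)
      zero_mem' := fun c => by simp [tU_zero, one_mem]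
      smul_mem' := fun d y hy c => by rw [smul_smul]; exact hy _ }
  let A : Subalgebra k F :=
    { carrier := {y | ∀ w ∈ W, y * w ∈ W}
      mul_mem' := fun {a b} ha hb w hw => by rw [mul_assoc]; exact ha _ (hb w hw)
      one_mem' := fun w hw => by rwa [one_mul]
      add_mem' := fun {a b} ha hb w hw => by rw [add_mul]; exact add_mem (ha w hw) (hb w hw)
      zero_mem' := fun w _ => by rw [zero_mul]; exact zero_mem _
      algebraMap_mem' := fun c w hw => by rw [← Algebra.smul_def]; exact W.smul_mem c hw }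
  set S : Finset (ℕ × ℕ) := Finset.range (pb.dim + 1) ×ˢ Finset.range 2 with hS
  set L := fun i : ℕ × ℕ => hankelMap (topCoord pb) pb.gen i.2 i.1 with hLdef
  have hgood : ∀ θ : F, (∀ i ∈ S, (L i θ).det ≠ 0) → θ * θ ∈ A := by
    intro θ hθ
    obtain ⟨h, hh, h10, κ, hκ, he⟩ := exists_upper pb hα H hU hL (θ := θ) fun r hr s hs =>
      hθ (r, s) (by simp [hS]; omega)
    have hm : h 0 0 * h 0 0 ∈ A := fun w hw c => by
      rw [← mul_smul_comm, ← conj_tU h10]
      exact mul_mem (mul_mem hh (hw c)) (inv_mem hh)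
    have halg : Algebra.IsAlgebraic k F := Algebra.IsAlgebraic.of_finite k F
    have hinv := A.inv_mem_of_algebraic (x := ⟨_, hm⟩) (halg.isAlgebraic _)
    have e : θ * θ = (κ * κ) • (h 0 0 * h 0 0)⁻¹ := by
      have hκ' := (map_ne_zero (algebraMap k F)).mpr hκ
      have h0 : h 0 0 ≠ 0 := fun h0 => hκ' (by rw [← he, h0, zero_mul])
      rw [Algebra.smul_def, map_mul, ← he]
      field_simp
    rw [e]
    exact A.smul_mem hinv _
  obtain ⟨θ₀, hθ₀⟩ := exists_common (fun i : ℕ × ℕ => i.1) L S fun i hi =>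
    exists_witness pb hα (by simp [hS] at hi; omega) i.2
  have hsq : ∀ ω : F, ω * ω ∈ A := by
    intro ω
    have hinf : {s : k | (θ₀ + s • ω) * (θ₀ + s • ω) ∈ A}.Infinite := by
      refine Set.Infinite.mono (s := (⋃ i ∈ S, {s : k | (L i (θ₀ + s • ω)).det = 0})ᶜ) (fun s hs => ?_)
        (S.finite_toSet.biUnion fun i hi => line_finite (L i) (hθ₀ i hi) ω).infinite_compl
      simp only [Set.mem_compl_iff, Set.mem_iUnion, Set.mem_setOf_eq, not_exists] at hs
      exact hgood _ hs
    obtain ⟨a, ha⟩ := hinf.nonempty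
    obtain ⟨b, hb, hbn⟩ := hinf.exists_notMem_finset {a}
    obtain ⟨c, hc, hcn⟩ := hinf.exists_notMem_finset {a, b}
    simp only [Finset.mem_singleton, Finset.mem_insert, not_or] at hbn hcn
    have key : ((a - b) * (b - c) * (a - c)) • (ω * ω) =
        (b - c) • ((θ₀ + a • ω) * (θ₀ + a • ω)) - (a - c) • ((θ₀ + b • ω) * (θ₀ + b • ω)) +
          (a - b) • ((θ₀ + c • ω) * (θ₀ + c • ω)) := by
      simp only [Algebra.smul_def, map_mul, map_sub]
      ring
    have hne : (a - b) * (b - c) * (a - c) ≠ 0 :=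
      mul_ne_zero (mul_ne_zero (sub_ne_zero.mpr (Ne.symm hbn)) (sub_ne_zero.mpr (Ne.symm hcn.2)))
        (sub_ne_zero.mpr (Ne.symm hcn.1))
    rw [← inv_smul_smul₀ hne (ω * ω), key]
    exact A.smul_mem (add_mem (sub_mem (A.smul_mem ha _) (A.smul_mem hb _)) (A.smul_mem hc _)) _
  have hall : x ∈ A := by
    have e : x = (2 : k)⁻¹ • ((x + 1) * (x + 1) - x * x - 1 * 1) := by
      rw [show (x + 1) * (x + 1) - x * x - 1 * 1 = (2 : k) • x by rw [Algebra.smul_def, map_ofNat]; ring,
        inv_smul_smul₀ h2]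
    rw [e]
    exact A.smul_mem (sub_mem (sub_mem (hsq _) (hsq _)) (hsq _)) _
  have h1 : (1 : F) ∈ W := fun c => by rw [← Algebra.algebraMap_eq_smul_one]; exact hU c
  have := hall 1 h1 1
  simpa using this

end Infinite

/-- All translations, in the finite case. -/
theorem mem_trans_finite [Finite k] [Finite F] {p : ℕ} [Fact p.Prime] [CharP F p] (hp : p ≠ 2)
    (h3 : Nat.card k ≠ 3) (h2 : (2 : k) ≠ 0) {α : F} (hα : α ≠ 0) (hgen : Algebra.adjoin k {α} = ⊤)
    (H : Subgroup SL(2, F)) (hU : ∀ c : k, tU (algebraMap k F c) ∈ H)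
    (hL : ∀ c : k, tL (algebraMap k F c * α) ∈ H) (x : F) : tU x ∈ H := by
  classical
  have : Fintype k := Fintype.ofFinite k
  have h1 : tU (1 : F) ∈ H := by simpa using hU 1
  have hkT : ∀ c : k, algebraMap k F c ∈ trans H := hU
  have hcard : Nat.card k ≤ Nat.card (trans H) :=
    Nat.card_le_card_of_injective (fun c => (⟨_, hkT c⟩ : trans H)) fun a b e =>
      (algebraMap k F).injective (congrArg Subtype.val e)
  have hk5 : 3 < Nat.card k := by
    have a1 : 1 < Nat.card k := Finite.one_lt_card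
    have a2 : Nat.card k ≠ 2 := fun e => h2 (by
      have := FiniteField.cast_card_eq_zero k
      rw [Fintype.card_eq_nat_card, e] at this
      exact_mod_cast this)
    omega
  have hz : ∀ c : k, c ≠ 0 → (algebraMap k F c * α)⁻¹ ∈ ratios H := fun c hc =>
    ⟨_, hL c, by simp [tL_coe, hc, hα], by
      have := (map_ne_zero (algebraMap k F)).mpr hc
      simp [tL_coe, hα]
      field_simp⟩
  have hz1 : α⁻¹ ∈ ratios H := by simpa using hz 1 one_ne_zero
  have hcr : Nat.card (ratios H) = Nat.card (trans H) :=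
    (count_cases hp H h1 (hh₀ := by simpa using hL 1) (h₀10 := by simp [tL_coe, hα])).resolve_right
      fun h => by omega
  have hdiff : ∀ y ∈ ratios H, y - α⁻¹ ∈ trans H := by
    intro y hy
    let f : trans H → ratios H := fun a => ⟨α⁻¹ + (a : F), ratios_add hz1 a.2⟩
    have hf : Function.Injective f := fun a b e => Subtype.ext (add_left_cancel (congrArg Subtype.val e))
    obtain ⟨a, ha⟩ := ((Nat.bijective_iff_injective_and_card f).mpr ⟨hf, hcr.symm⟩).2 ⟨y, hy⟩
    have : α⁻¹ + (a : F) = y := congrArg Subtype.val ha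
    rw [← this, add_sub_cancel_left]
    exact a.2
  have hca : ∀ c : k, c ≠ -1 → algebraMap k F c * α⁻¹ ∈ trans H := by
    intro c hc
    have hc1 : c + 1 ≠ 0 := fun h => hc (eq_neg_of_add_eq_zero_left h)
    have := hdiff _ (hz (c + 1)⁻¹ (inv_ne_zero hc1))
    rwa [mul_inv, map_inv₀, inv_inv, map_add, map_one, add_mul, one_mul, add_sub_cancel_right] at this
  have hinvT : α⁻¹ ∈ trans H := by
    have := hca 1 fun h => h2 (by linear_combination h)
    simpa using this
  have hrT : ∀ y, y ∈ ratios H → y ∈ trans H := fun y hy => by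
    simpa using add_mem (hdiff y hy) hinvT
  have hTr : ∀ y, y ∈ trans H → y ∈ ratios H := fun y hy => by
    simpa using ratios_add hz1 (sub_mem hy hinvT)
  set w := tU α⁻¹ * tL (-α) * tU α⁻¹ with hwdef
  have hw : w ∈ H := mul_mem (mul_mem hinvT (by simpa using hL (-1))) hinvT
  have hww : w 0 0 = 0 ∧ w 0 1 = α⁻¹ ∧ w 1 0 = -α ∧ w 1 1 = 0 := by
    refine ⟨?_, ?_, ?_, ?_⟩ <;> simp only [hwdef, Cfsg.Lib.Linear.Dickson.mul_apply'] <;> simp [tU_coe, tL_coe, hα]
  have hinv : ∀ y, y ∈ trans H → y ≠ 0 → (α * α * y)⁻¹ ∈ trans H := by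
    intro y hy hy0
    have := hrT _ (ratios_mul (hTr y hy) hw (by simp [hww, hy0, hα]))
    rw [hww.1, hww.2.1, hww.2.2.1, hww.2.2.2] at this
    have := neg_mem this
    convert this using 1
    field_simp
    ring
  have hlow : ∀ y, y ∈ trans H → tL (-(α * α * y)) ∈ H := by
    intro y hy
    have := mul_mem (mul_mem hw hy) (inv_mem hw)
    convert this using 1
    apply ext_two <;>
      simp only [Cfsg.Lib.Linear.Dickson.mul_apply', (inv_apply00 _).1, (inv_apply00 _).2.1, (inv_apply00 _).2.2.1,
        (inv_apply00 _).2.2.2, hww.1, hww.2.1, hww.2.2.1, hww.2.2.2] <;> simp [tU_coe, tL_coe, hα]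
    ring
  have hhua : ∀ a b, a ∈ trans H → b ∈ trans H → a ≠ 0 → b ≠ 0 → a * a / b ∈ trans H := by
    intro a b ha hb ha0 hb0
    have hl : tL (-a⁻¹) ∈ H := by
      have := hlow _ (hinv a ha ha0)
      convert this using 3
      field_simp
    have hv : tU a * tL (-a⁻¹) * tU a ∈ H := mul_mem (mul_mem ha hl) ha
    have := neg_mem (hrT _ (ratios_mul (hTr b hb) hv (by simp [Cfsg.Lib.Linear.Dickson.mul_apply', tU_coe, tL_coe, ha0, hb0])))
    convert this using 1
    simp only [Cfsg.Lib.Linear.Dickson.mul_apply']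
    simp [tU_coe, tL_coe, ha0]
    field_simp
  have hone : (1 : F) ∈ trans H := h1
  have hsq : ∀ a, a ∈ trans H → a * a ∈ trans H := fun a ha => by
    by_cases h : a = 0
    · simp [h]
    · simpa using hhua a 1 ha hone h one_ne_zero
  have hmul : ∀ a b, a ∈ trans H → b ∈ trans H → a * b ∈ trans H := by
    intro a b ha hb
    have hm : a * b + a * b ∈ trans H := by
      have := sub_mem (sub_mem (hsq _ (add_mem ha hb)) (hsq a ha)) (hsq b hb)
      convert this using 1
      ring
    have := nsmul_mem hm ((p + 1) / 2)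
    convert this using 1
    rw [← two_nsmul, ← mul_nsmul]
    have hodd : 2 * ((p + 1) / 2) = p + 1 := by
      have := (Fact.out : p.Prime).eq_two_or_odd.resolve_left hp
      omega
    rw [hodd, succ_nsmul, nsmul_eq_mul, CharP.cast_eq_zero, zero_mul, zero_add]
  let A : Subalgebra k F :=
    { carrier := {y | y ∈ trans H}
      mul_mem' := fun ha hb => hmul _ _ ha hb
      one_mem' := hone
      add_mem' := fun ha hb => (trans H).add_mem ha hb
      zero_mem' := (trans H).zero_mem
      algebraMap_mem' := hkT }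
  have hαA : α ∈ A := by
    have := hhua 1 α⁻¹ hone hinvT one_ne_zero (inv_ne_zero hα)
    show α ∈ trans H
    simpa using this
  exact (hgen.ge.trans (Algebra.adjoin_le (by simpa using hαA)) (Algebra.mem_top : x ∈ (⊤ : Subalgebra k F)))

/-- The generation theorem. -/
theorem eq_top_of_root_groups (pb : PowerBasis k F) (hα : pb.gen ≠ 0) (h2 : ringChar k ≠ 2)
    (h3 : Nat.card k ≠ 3) (H : Subgroup SL(2, F)) (hU : ∀ c : k, tU (algebraMap k F c) ∈ H)
    (hL : ∀ c : k, tL (algebraMap k F c * pb.gen) ∈ H) : H = ⊤ := by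
  have two : (2 : k) ≠ 0 := Ring.two_ne_zero h2
  have hall : ∀ x : F, tU x ∈ H := by
    rcases finite_or_infinite k with hk | hk
    · have := pb.finite
      have : Finite F := Module.finite_of_finite k
      obtain ⟨p, hp⟩ := CharP.exists k
      have : Fact p.Prime := ⟨CharP.char_is_prime k p⟩
      have : CharP F p := charP_of_injective_algebraMap (algebraMap k F).injective p
      exact mem_trans_finite (p := p) (fun e => h2 (by rw [ringChar.eq k p, e])) h3 two hα
        (pb.adjoin_gen_eq_top) H hU hL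
    · exact mem_trans_infinite pb hα two H hU hL
  set w := tU pb.gen⁻¹ * tL (-pb.gen) * tU pb.gen⁻¹ with hwdef
  have hw : w ∈ H := mul_mem (mul_mem (hall _) (by simpa using hL (-1))) (hall _)
  have hlo : ∀ x : F, tL x ∈ H := by
    intro x
    have := mul_mem (mul_mem hw (hall (-(x / (pb.gen * pb.gen))))) (inv_mem hw)
    convert this using 1
    apply ext_two <;>
      simp only [hwdef, Cfsg.Lib.Linear.Dickson.mul_apply', (inv_apply00 _).1, (inv_apply00 _).2.1, (inv_apply00 _).2.2.1,
        (inv_apply00 _).2.2.2] <;> simp [tU_coe, tL_coe, hα]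
    field_simp
  rw [eq_top_iff, ← Cfsg.Lib.Linear.closure_transvection_eq_top, Subgroup.closure_le]
  rintro t ⟨i, j, hij, c, rfl⟩
  fin_cases i <;> fin_cases j
  · exact absurd rfl hij
  · rw [SetLike.mem_coe, show SpecialLinearGroup.transvection hij c = tU c by
      apply ext_two <;> simp [tU_coe, SpecialLinearGroup.transvection_coe, Matrix.single]]
    exact hall c
  · rw [SetLike.mem_coe, show SpecialLinearGroup.transvection hij c = tL c by
      apply ext_two <;> simp [tL_coe, SpecialLinearGroup.transvection_coe, Matrix.single]]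
    exact hlo c
  · exact absurd rfl hij

end Cfsg.Agent.Lib.QPair
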