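import Cfsg.Agent.Lib.QPair.Quad
import Cfsg.Agent.Lib.QPair.Generate
import Cfsg.Agent.Lib.Linear.SLPerfect

/-!
# The dichotomy for two root maps

Either `X Y` is nilpotent, or `k[XY]` acts on the range of `X` as a field and `p(XY) X` has its scalar family in `G`
for every polynomial `p`.
-/

set_option autoImplicit false

namespace Cfsg.Agent.Lib.QPair

open Cfsg LinearMap Polynomial
open scoped MatrixGroups

variable {k : Type*} [Field k] {M : Type*} [AddCommGroup M] [Module k M]

theorem exists_scalar (h2 : (2 : k) ≠ 0) (h3 : Nat.card k ≠ 3) : ∃ b : k, b ≠ 0 ∧ b * b ≠ 1 := by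
  by_contra hno
  push Not at hno
  have hall : ∀ b : k, b = 0 ∨ b = 1 ∨ b = -1 := fun b => by
    by_cases hb : b = 0
    · exact Or.inl hb
    · exact Or.inr (mul_self_eq_one_iff.1 (hno b hb))
  classical
  let e : Fin 3 → k := ![0, 1, -1]
  have he : Function.Bijective e := by
    refine ⟨?_, fun b => ?_⟩
    · have n1 : (1 : k) ≠ -1 := fun h => h2 (by linear_combination h)
      intro i j hij
      fin_cases i <;> fin_cases j <;> simp [e] at hij ⊢
      all_goals first
        | exact n1 hij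
        | exact n1 hij.symm
    · rcases hall b with h | h | h
      · exact ⟨0, h.symm⟩
      · exact ⟨1, h.symm⟩
      · exact ⟨2, h.symm⟩
  exact h3 (by rw [← Nat.card_congr (Equiv.ofBijective e he), Nat.card_fin])

theorem commutator_sl_two {F : Type*} [Field F] {b : F} (hb : b ≠ 0) (hb2 : b * b ≠ 1) :
    (⁅(⊤ : Subgroup SL(2, F)), (⊤ : Subgroup SL(2, F))⁆) = ⊤ := by
  rw [eq_top_iff]
  refine (le_of_eq Cfsg.Lib.Linear.closure_transvection_eq_top.symm).trans ?_
  rw [Subgroup.closure_le]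
  rintro _ ⟨i, j, hij, c, rfl⟩
  rw [Cfsg.Lib.Linear.transvection_eq_diag_commutator hij b hb hb2 c]
  exact Subgroup.commutator_mem_commutator (Subgroup.mem_top _) (Subgroup.mem_top _)

variable [FiniteDimensional k M] {G : Subgroup (GeneralLinearGroup k M)} {X Y : Module.End k M}

theorem rank_lt {A B : Module.End k M} {u : M} (h1 : A u ≠ 0) (h2 : B (A u) = 0) :
    Module.finrank k (range (B * A)) < Module.finrank k (range A) := by
  have e1 := LinearMap.finrank_range_add_finrank_ker A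
  have e2 := LinearMap.finrank_range_add_finrank_ker (B * A)
  have hlt : ker A < ker (B * A) := by
    refine lt_of_le_of_ne (fun m hm => ?_) fun e => ?_
    · show B (A m) = 0
      rw [show A m = 0 from hm, map_zero]
    · have : u ∈ ker (B * A) := h2
      rw [← e] at this
      exact h1 this
  have := Submodule.finrank_lt_finrank_of_lt hlt
  omega

theorem range_mul_le (A B : Module.End k M) : range (A * B) ≤ range A := range_comp_le_range B A

theorem rank_mul_le (A B : Module.End k M) : Module.finrank k (range (A * B)) ≤ Module.finrank k (range A) :=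
  Submodule.finrank_mono (range_mul_le A B)

theorem rank_mul_le' (A B : Module.End k M) : Module.finrank k (range (A * B)) ≤ Module.finrank k (range B) := by
  rw [Module.End.mul_eq_comp, range_comp]
  exact Submodule.finrank_map_le _ _

theorem range_pev_le (p : k[X]) : range (pev X Y p * X) ≤ range X := by
  induction p using Polynomial.induction_on' with
  | add a b ha hb =>
    rw [pev_add', add_mul]
    exact (range_add_le _ _).trans (sup_le ha hb)
  | monomial n c =>
    rw [pev, aeval_monomial, ← Algebra.smul_def, smul_mul_assoc]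
    rintro _ ⟨m, rfl⟩
    refine Submodule.smul_mem _ c ?_
    rcases n with - | n
    · rw [pow_zero, one_mul]; exact LinearMap.mem_range_self _ _
    · rw [pow_succ', mul_assoc, mul_assoc]; exact LinearMap.mem_range_self _ _

theorem pev_X_pow (j : ℕ) : pev X Y (Polynomial.X ^ j) = (X * Y) ^ j := aeval_X_pow _

/-- Kernels of powers stabilise. -/
theorem cancel_pow {j : ℕ} (hj : Module.finrank k M ≤ j) {A : Module.End k M} (h : (X * Y) ^ (j + 1) * A = 0) :
    (X * Y) ^ j * A = 0 := LinearMap.ext fun m => by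
  have h1 : A m ∈ ker ((X * Y) ^ (j + 1)) := LinearMap.congr_fun h m
  rw [Module.End.ker_pow_eq_ker_pow_finrank_of_le (by omega), ← Module.End.ker_pow_eq_ker_pow_finrank_of_le hj] at h1
  exact h1

theorem commutator_fam (hX : IsRoot G X) (hY : IsRoot G Y) (h1 : X * Y * X = 0) (h2 : Y * X * Y = 0) :
    Fam G (X * Y - Y * X) ∧ (X * Y - Y * X) * (X * Y - Y * X) = 0 := by
  have hX2 : ∀ A, X * (X * A) = 0 := fun A => by rw [← mul_assoc, hX.sq, zero_mul]
  have hY2 : ∀ A, Y * (Y * A) = 0 := fun A => by rw [← mul_assoc, hY.sq, zero_mul]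
  have g1 : X * (Y * X) = 0 := by rw [← mul_assoc, h1]
  have g2 : Y * (X * Y) = 0 := by rw [← mul_assoc, h2]
  have g1r : ∀ A, X * (Y * (X * A)) = 0 := fun A => by rw [← mul_assoc, ← mul_assoc, h1, zero_mul]
  have g2r : ∀ A, Y * (X * (Y * A)) = 0 := fun A => by rw [← mul_assoc, ← mul_assoc, h2, zero_mul]
  refine ⟨fun c => ?_, ?_⟩
  · obtain ⟨e, he, ee⟩ := hX.fam c
    obtain ⟨f, hf, ef⟩ := hY.fam.exists_mem
    refine ⟨e * f * e⁻¹ * f⁻¹, mul_mem (mul_mem (mul_mem he hf) (inv_mem he)) (inv_mem hf), ?_⟩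
    have he2 : dd e * dd e = 0 := by rw [ee, smul_mul_assoc, mul_smul_comm, hX.sq, smul_zero, smul_zero]
    rw [dd_mul (e * f * e⁻¹), dd_inv (g := f) (by rw [ef, hY.sq]), dd_conj he2, ee, ef]
    simp only [mul_add, add_mul, mul_sub, sub_mul, one_mul, mul_one, smul_mul_assoc, mul_smul_comm, mul_neg, neg_mul,
      smul_sub, mul_assoc, hX.sq, hY.sq, hX2, hY2, g1, g2, g1r, g2r, mul_zero, smul_zero, sub_zero, add_zero, zero_add,
      neg_zero]
    abel
  · simp only [mul_sub, sub_mul, mul_assoc, hX.sq, hY.sq, hX2, hY2, g1, g2, g1r, g2r, mul_zero, sub_zero]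

theorem exists_irreducible (hN : ¬ IsNilpotent (X * Y)) :
    ∃ f : k[X], Irreducible f ∧ ¬ Polynomial.X ∣ f ∧
      ∃ v : M, v ≠ 0 ∧ pev X Y f v = 0 ∧ ∀ j : ℕ, v ∈ range ((X * Y) ^ j) := by
  set μ := minpoly k (X * Y) with hμ
  have hμ0 : μ ≠ 0 := minpoly.ne_zero (IsIntegral.of_finite k _)
  obtain ⟨μ₁, e, hnd⟩ := μ.exists_eq_pow_rootMultiplicity_mul_and_not_dvd hμ0 0
  rw [map_zero, sub_zero] at e hnd
  have hnu : ¬ IsUnit μ₁ := fun hu => by
    obtain ⟨c, hc, rfl⟩ := Polynomial.isUnit_iff.mp hu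
    refine hN ⟨μ.rootMultiplicity 0, ?_⟩
    have h := minpoly.aeval k (X * Y)
    rw [← hμ, e, map_mul, aeval_X_pow, aeval_C, ← Algebra.commutes, ← Algebra.smul_def] at h
    exact (smul_eq_zero.mp h).resolve_left hc.ne_zero
  obtain ⟨f, hf, g₀, hg₀⟩ := WfDvdMonoid.exists_irreducible_factor hnu (fun h => hμ0 (by rw [e, h, mul_zero]))
  have hfx : ¬ Polynomial.X ∣ f := fun h => hnd (h.trans ⟨g₀, hg₀⟩)
  set g := Polynomial.X ^ μ.rootMultiplicity 0 * g₀ with hg
  have hμfg : μ = f * g := by rw [e, hg₀, hg]; ring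
  have hg0 : g ≠ 0 := fun h => hμ0 (by rw [hμfg, h, mul_zero])
  have hgN : pev X Y g ≠ 0 := fun h => by
    have h1 := Polynomial.natDegree_le_of_dvd (minpoly.dvd k (X * Y) h) hg0
    rw [← hμ, hμfg, natDegree_mul hf.ne_zero hg0] at h1
    have := hf.natDegree_pos
    omega
  obtain ⟨m, hm⟩ : ∃ m, pev X Y g m ≠ 0 := by
    by_contra h; push Not at h; exact hgN (LinearMap.ext h)
  have hfv : pev X Y f (pev X Y g m) = 0 := by
    rw [← Module.End.mul_apply, ← pev_mul', ← hμfg, pev, minpoly.aeval]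
    rfl
  refine ⟨f, hf, hfx, _, hm, hfv, fun j => ?_⟩
  have hco : IsCoprime f (Polynomial.X ^ j) := by
    refine (hf.coprime_iff_not_dvd).mpr fun h => hfx ?_
    exact ((hf.associated_of_dvd Polynomial.irreducible_X (hf.prime.dvd_of_dvd_pow h)).symm).dvd
  obtain ⟨a, b, hab⟩ := hco
  refine ⟨pev X Y b (pev X Y g m), ?_⟩
  have h1 := congrArg (fun p => pev X Y p (pev X Y g m)) hab
  simp only [pev, map_add, map_mul, map_one, LinearMap.add_apply, Module.End.mul_apply, Module.End.one_apply] at h1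
  rw [show aeval (X * Y) f (pev X Y g m) = 0 from hfv, map_zero, zero_add] at h1
  rw [← pev_X_pow, ← Module.End.mul_apply, pev_comm (Polynomial.X ^ j) b, Module.End.mul_apply]
  exact h1

section Setting

variable {f : k[X]} [Fact (Irreducible f)]

/-- The congruence subgroups of the matrix group. -/
noncomputable def level (k : Type*) [Field k] (j : ℕ) : Subgroup (Matrix.SpecialLinearGroup (Fin 2) k[X]) :=
  matGroup k ⊓ (Matrix.SpecialLinearGroup.map (Ideal.Quotient.mk (Ideal.span {(Polynomial.X : k[X]) ^ j}))).ker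

theorem mem_level {j : ℕ} {A : Matrix.SpecialLinearGroup (Fin 2) k[X]} :
    A ∈ level k j ↔ A ∈ matGroup k ∧ ∀ a b, Polynomial.X ^ j ∣ A a b - (1 : Matrix (Fin 2) (Fin 2) k[X]) a b := by
  rw [level, Subgroup.mem_inf, MonoidHom.mem_ker]
  refine and_congr_right fun _ => ⟨fun h a b => ?_, fun h => Subtype.ext (Matrix.ext fun a b => ?_)⟩
  · rw [← Ideal.mem_span_singleton, ← Ideal.Quotient.mk_eq_mk_iff_sub_mem]
    have h1 := congrArg (fun B : Matrix.SpecialLinearGroup (Fin 2) _ => B a b) h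
    refine (h1.trans ?_)
    fin_cases a <;> fin_cases b <;> simp
  · have h1 := h a b
    rw [← Ideal.mem_span_singleton, ← Ideal.Quotient.mk_eq_mk_iff_sub_mem] at h1
    refine h1.trans ?_
    fin_cases a <;> fin_cases b <;> simp

theorem matGroup_diag {A : Matrix.SpecialLinearGroup (Fin 2) k[X]} (hA : A ∈ matGroup k) :
    Polynomial.X ∣ A 0 0 - 1 ∧ Polynomial.X ∣ A 1 0 ∧ Polynomial.X ∣ A 1 1 - 1 := by
  induction hA using Subgroup.closure_induction'' with
  | one => simp
  | mem B hB => rcases hB with ⟨c, rfl⟩ | ⟨c, rfl⟩ <;> simp [pU_coe, pL_coe]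
  | inv_mem B hB => rcases hB with ⟨c, rfl⟩ | ⟨c, rfl⟩ <;> simp [pU_inv, pL_inv, pU_coe, pL_coe]
  | mul A B _ _ ihA ihB =>
    obtain ⟨⟨a, ha⟩, ⟨r, hr⟩, ⟨s, hs⟩⟩ := ihA
    obtain ⟨⟨a', ha'⟩, ⟨r', hr'⟩, ⟨s', hs'⟩⟩ := ihB
    rw [sub_eq_iff_eq_add] at ha ha' hs hs'
    simp only [Matrix.SpecialLinearGroup.coe_mul, Matrix.mul_apply, Fin.sum_univ_two, ha, hr, hs, ha', hr', hs']
    exact ⟨⟨a + a' + Polynomial.X * a * a' + A 0 1 * r', by ring⟩,
      ⟨r * (Polynomial.X * a' + 1) + (Polynomial.X * s + 1) * r', by ring⟩,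
      ⟨s + s' + Polynomial.X * s * s' + r * B 0 1, by ring⟩⟩

theorem commutator_level (j : ℕ) : ⁅level k j, level k j⁆ ≤ level k (j + 1) := by
  rw [Subgroup.commutator_le]
  intro A hA B hB
  have hA1 := (Subgroup.mem_inf.mp hA).1
  have hB1 := (Subgroup.mem_inf.mp hB).1
  refine Subgroup.mem_inf.mpr ⟨mul_mem (mul_mem (mul_mem hA1 hB1) (inv_mem hA1)) (inv_mem hB1), ?_⟩
  rw [MonoidHom.mem_ker, map_commutatorElement, commutatorElement_eq_one_iff_mul_comm, ← map_mul,
    ← map_mul]
  refine Subtype.ext (Matrix.ext fun a b => ?_)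
  show Ideal.Quotient.mk _ ((A * B : Matrix.SpecialLinearGroup (Fin 2) k[X]) a b) =
    Ideal.Quotient.mk _ ((B * A : Matrix.SpecialLinearGroup (Fin 2) k[X]) a b)
  rw [Ideal.Quotient.mk_eq_mk_iff_sub_mem, Ideal.mem_span_singleton]
  simp only [Matrix.SpecialLinearGroup.coe_mul, Matrix.mul_apply, Fin.sum_univ_two]
  rcases j with - | j
  · obtain ⟨⟨p, hp⟩, ⟨r, hr⟩, ⟨s, hs⟩⟩ := matGroup_diag hA.1
    obtain ⟨⟨p', hp'⟩, ⟨r', hr'⟩, ⟨s', hs'⟩⟩ := matGroup_diag hB.1
    rw [sub_eq_iff_eq_add] at hp hp' hs hs'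
    rw [zero_add, pow_one]
    fin_cases a <;> fin_cases b <;> simp only [Fin.zero_eta, Fin.isValue, Fin.mk_one, hp, hr, hs, hp', hr', hs']
    · exact ⟨A 0 1 * r' - B 0 1 * r, by ring⟩
    · exact ⟨p * B 0 1 + A 0 1 * s' - p' * A 0 1 - B 0 1 * s, by ring⟩
    · exact ⟨Polynomial.X * (r * p' + s * r' - r' * p - s' * r), by ring⟩
    · exact ⟨r * B 0 1 - r' * A 0 1, by ring⟩
  · have hA' := (mem_level.mp hA).2
    have hB' := (mem_level.mp hB).2
    have key : ∀ a b c d, Polynomial.X ^ (j + 1 + 1) ∣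
        (A a c - (1 : Matrix (Fin 2) (Fin 2) k[X]) a c) * (B d b - (1 : Matrix (Fin 2) (Fin 2) k[X]) d b) := by
      intro a b c d
      refine (pow_dvd_pow _ (by omega : j + 1 + 1 ≤ (j + 1) + (j + 1))).trans ?_
      rw [pow_add]
      exact mul_dvd_mul (hA' a c) (hB' d b)
    refine (congrArg (Polynomial.X ^ (j + 1 + 1) ∣ ·) ?_).mpr
      (dvd_sub (dvd_add (key a b 0 0) (key a b 1 1)) (dvd_add (key 0 0 b a) (key 1 1 b a)))
    fin_cases a <;> fin_cases b <;> simp [Matrix.one_apply] <;> ring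

theorem level_surjective (h2 : ringChar k ≠ 2) (h3 : Nat.card k ≠ 3) (hfx : ¬ Polynomial.X ∣ f) (j : ℕ) :
    (level k j).map (Matrix.SpecialLinearGroup.map (AdjoinRoot.mk f)) = ⊤ := by
  have hf0 : f ≠ 0 := (Fact.out : Irreducible f).ne_zero
  induction j with
  | zero =>
    have hle : matGroup k ≤ level k 0 := fun A hA => mem_level.mpr ⟨hA, fun a b => by simp⟩
    refine eq_top_of_root_groups (AdjoinRoot.powerBasis hf0) ?_ h2 h3 _ (fun c => ⟨pU (C c), hle ?_, ?_⟩)
      (fun c => ⟨pL (Polynomial.X * C c), hle ?_, ?_⟩)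
    · rw [AdjoinRoot.powerBasis_gen, ← AdjoinRoot.mk_X, Ne, AdjoinRoot.mk_eq_zero]
      intro h
      exact hfx (((Fact.out : Irreducible f).associated_of_dvd Polynomial.irreducible_X h).symm.dvd)
    · exact Subgroup.subset_closure (Or.inl ⟨c, rfl⟩)
    · refine Subtype.ext (Matrix.ext fun a b => ?_)
      fin_cases a <;> fin_cases b <;> simp [pU_coe, Cfsg.Lib.Linear.Dickson.tU_coe]
    · exact Subgroup.subset_closure (Or.inr ⟨c, rfl⟩)
    · refine Subtype.ext (Matrix.ext fun a b => ?_)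
      fin_cases a <;> fin_cases b <;> simp [pL_coe, Cfsg.Lib.Linear.Dickson.tL_coe] <;> ring
  | succ j ih =>
    obtain ⟨b, hb, hb2⟩ := exists_scalar (Ring.two_ne_zero h2) h3
    refine top_le_iff.mp ?_
    calc (⊤ : Subgroup SL(2, AdjoinRoot f))
        = ⁅(⊤ : Subgroup SL(2, AdjoinRoot f)), (⊤ : Subgroup SL(2, AdjoinRoot f))⁆ :=
          (commutator_sl_two (b := algebraMap k (AdjoinRoot f) b) (by simpa using hb)
            (by rw [← map_mul, ← map_one (algebraMap k (AdjoinRoot f))]
                exact fun h => hb2 ((algebraMap k (AdjoinRoot f)).injective h))).symm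
      _ = (⁅level k j, level k j⁆).map (Matrix.SpecialLinearGroup.map (AdjoinRoot.mk f)) := by
          rw [Subgroup.map_commutator, ih]
      _ ≤ _ := Subgroup.map_mono (commutator_level j)

variable (h2 : ringChar k ≠ 2) (h3 : Nat.card k ≠ 3) (hX : IsRoot G X) (hY : IsRoot G Y)
  (hfx : ¬ Polynomial.X ∣ f) {v : M} (hv0 : v ≠ 0) (hfv : pev X Y f v = 0)
  (hvr : ∀ j : ℕ, v ∈ range ((X * Y) ^ j))

include hfv in
theorem pev_kill {p : k[X]} (hp : f ∣ p) : pev X Y p v = 0 := by
  obtain ⟨c, rfl⟩ := hp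
  rw [mul_comm, pev_mul', Module.End.mul_apply, hfv, map_zero]

include hvr in
theorem exists_X_eq : ∃ u, X u = v := by
  obtain ⟨m, hm⟩ := hvr 1
  exact ⟨Y m, by rw [← hm, pow_one]; rfl⟩

include hv0 hfv hvr in
theorem not_full {p : k[X]} (hp : f ∣ p) :
    Module.finrank k (range (pev X Y p * X)) < Module.finrank k (range X) := by
  obtain ⟨u, hu⟩ := exists_X_eq hvr
  exact rank_lt (u := u) (by rw [hu]; exact hv0) (by rw [hu]; exact pev_kill hfv hp)

include hX in
theorem pev_X_sq (p q : k[X]) : pev X Y p * X * (pev X Y q * X) = 0 := by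
  rw [mul_assoc, ← mul_assoc X, mul_pev hX.sq, smul_mul_assoc, hX.sq, smul_zero, mul_zero]

include hX hv0 hfv hvr in
theorem fam_kill {p : k[X]} (hp : f ∣ p) (hF : Fam G (pev X Y p * X)) : pev X Y p * X = 0 :=
  hX.small (pev_X_sq hX p p) hF (not_full hv0 hfv hvr hp)

include h2 h3 hX hY hfx hv0 hfv hvr in
/-- Upper triangular elements scale the space of `X`. -/
theorem exists_upper_scalar (s : ℕ) (hs : Module.finrank k (range ((X * Y) ^ Module.finrank k M)) ≤ s)
    (ih : ∀ A B : Module.End k M, IsRoot G A → IsRoot G B →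
      Module.finrank k (range ((A * B) ^ Module.finrank k M)) < s → IsNilpotent (A * B))
    {β : AdjoinRoot f} (hβ : β ≠ 0) :
    ∃ a : k[X], Polynomial.X ∣ a - 1 ∧ AdjoinRoot.mk f a = β ∧
      ∀ t : k[X], Fam G (pev X Y t * X) → Fam G (pev X Y (a ^ 2 * t) * X) := by
  have two : (2 : k) ≠ 0 := Ring.two_ne_zero h2
  set n := Module.finrank k M with hn
  have hnpos : 0 < n := (finrank_range_pos hX.ne).trans_le (Submodule.finrank_le _)
  let h : SL(2, AdjoinRoot f) := ⟨!![β, 0; 0, β⁻¹], by simp [Matrix.det_fin_two, hβ]⟩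
  obtain ⟨A, hA, hAh⟩ := (level_surjective h2 h3 hfx (n + 1)).ge (Subgroup.mem_top h)
  obtain ⟨g, hg, p, q, r, s', a1, a2, a3, a4, a5⟩ := exists_rep hX.sq hY.sq hX.fam hY.fam hA.1
  have hdet := Rep.det a1 a2 a3 a4 a5
  obtain ⟨r', hr'⟩ : Polynomial.X ^ n ∣ r := by
    have h1 := (mem_level.mp hA).2 1 0
    rw [a3, pow_succ', Matrix.one_apply_ne (by decide), sub_zero] at h1
    exact (mul_dvd_mul_iff_left Polynomial.X_ne_zero).mp h1
  set a := 1 + Polynomial.X * p with ha
  have hmk : ∀ x y, AdjoinRoot.mk f (A x y) = h x y := fun x y => by rw [← hAh]; rfl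
  have hfdvd : f ∣ r' := by
    have h1 := hmk 1 0
    rw [a3, show h 1 0 = 0 from rfl, AdjoinRoot.mk_eq_zero, hr'] at h1
    rcases (Fact.out : Irreducible f).prime.dvd_or_dvd h1 with h' | h'
    · exact absurd (((Fact.out : Irreducible f).associated_of_dvd Polynomial.irreducible_X h').symm.dvd) hfx
    rcases (Fact.out : Irreducible f).prime.dvd_or_dvd h' with h' | h'
    · exact absurd (((Fact.out : Irreducible f).associated_of_dvd Polynomial.irreducible_X
        ((Fact.out : Irreducible f).prime.dvd_of_dvd_pow h')).symm.dvd) hfx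
    · exact h'
  set X' := conjE g X with hX'def
  have hX' : IsRoot G X' := hX.conj hg
  have hX'e : X' = quad X Y (-(a * r)) (a ^ 2) (-(Polynomial.X * r ^ 2)) (a * r) := by
    have h1 := conj_formula hX.sq hY.sq hdet a5 1
    rw [show pev X Y 1 * X = X by simp [pev]] at h1
    rw [hX'def, h1]
    exact quad_congr (by ring) (by ring) (by ring) (by ring)
  have hXX' : X * X' = quad X Y (-(Polynomial.X * r ^ 2)) (Polynomial.X * (a * r)) 0 0 := by
    conv_lhs => rw [hX'e]; arg 1; rw [quad_X (X := X) (Y := Y)]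
    rw [quad_mul hX.sq hY.sq]
    exact quad_congr (by ring) (by ring) (by ring) (by ring)
  have hnil : IsNilpotent (X * X') := by
    refine ih X X' hX hX' (lt_of_le_of_lt (b := Module.finrank k (range (X * X'))) ?_ (lt_of_lt_of_le (b := Module.finrank k (range ((X * Y) ^ n))) ?_ hs))
    · obtain ⟨m, hm⟩ : ∃ m, n = m + 1 := ⟨n - 1, by omega⟩
      rw [hm, pow_succ']
      exact rank_mul_le _ _
    · have e : X * X' = pev X Y (r' * Polynomial.X) * (X * Y) ^ n * (pev X Y (-r) * (X * Y) + pev X Y a * X) := by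
        rw [hXX', quad, ← pev_X_pow, ← pev_mul', mul_add, ← mul_assoc (pev X Y (r' * Polynomial.X * Polynomial.X ^ n)),
          ← pev_mul', ← mul_assoc (pev X Y (r' * Polynomial.X * Polynomial.X ^ n)), ← pev_mul']
        simp only [pev, map_zero, zero_mul, mul_zero, add_zero]
        congr 3 <;> rw [hr'] <;> ring
      rw [e]
      refine (rank_mul_le _ _).trans_lt ?_
      obtain ⟨u, hu⟩ := hvr n
      exact rank_lt (u := u) (by rw [hu]; exact hv0) (by rw [hu]; exact pev_kill hfv (hfdvd.mul_right _))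
  obtain ⟨z1, z2⟩ := nilpotent_pair two hX hX' hnil
  have hX'X : X' * X = quad X Y 0 (-(Polynomial.X * (a * r))) 0 (-(Polynomial.X * r ^ 2)) := by
    conv_lhs => rw [hX'e]; arg 2; rw [quad_X (X := X) (Y := Y)]
    rw [quad_mul hX.sq hY.sq]
    exact quad_congr (by ring) (by ring) (by ring) (by ring)
  have hc2 : pev X Y (Polynomial.X ^ 2 * r ^ 2) * X = 0 := by
    rw [hXX'] at z1
    nth_rewrite 2 [quad_X (X := X) (Y := Y)] at z1
    rw [quad_mul hX.sq hY.sq] at z1
    simp only [quad, mul_zero, zero_mul, add_zero, zero_add, mul_one, map_zero] at z1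
    rw [show Polynomial.X ^ 2 * r ^ 2 = -(Polynomial.X * -(Polynomial.X * r ^ 2)) by ring, map_neg, neg_mul, z1, neg_zero]
  have hxr2 : pev X Y (Polynomial.X * r ^ 2) * X = 0 := by
    have h1 : (X * Y) ^ (2 * n + 1 + 1) * (pev X Y (r' ^ 2) * X) = 0 := by
      rw [← mul_assoc, ← pev_X_pow, ← pev_mul', ← hc2]
      congr 2
      rw [hr']; ring
    have h1' := cancel_pow (by omega) h1
    rw [← mul_assoc, ← pev_X_pow, ← pev_mul'] at h1'
    rw [← h1']
    congr 2
    rw [hr']; ring
  have hQ : pev X Y (Polynomial.X * (a * r)) * X = 0 := by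
    refine fam_kill hX hv0 hfv hvr ?_ (Fam.of_two ?_ two)
    · rw [hr']
      exact ((hfdvd.mul_left _).mul_left _).mul_left _
    · obtain ⟨hF, -⟩ := commutator_fam hX hX' z1 z2
      convert hF using 1
      rw [hXX', hX'X]
      simp only [quad, map_zero, map_neg, zero_mul, mul_zero, add_zero, zero_add, neg_mul, mul_neg]
      rw [← mul_assoc (pev X Y (Polynomial.X * r ^ 2)), hxr2, zero_mul, mul_assoc Y, hxr2, mul_zero]
      abel
  have hrX : pev X Y r * X = 0 := by
    have e : Polynomial.X * r = (1 + Polynomial.X * s') * (Polynomial.X * (a * r)) -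
        q * (Polynomial.X ^ 2 * r ^ 2) := by
      linear_combination (-(Polynomial.X ^ 2) * r) * hdet
    have h1 : pev X Y (Polynomial.X * r) * X = 0 := by
      rw [e, map_sub, pev_mul' (1 + Polynomial.X * s'), pev_mul' q, sub_mul, mul_assoc, hQ, mul_assoc, hc2, mul_zero, mul_zero, sub_zero]
    have h2' : (X * Y) ^ (n + 1) * (pev X Y r' * X) = 0 := by
      rw [← mul_assoc, ← pev_X_pow, ← pev_mul', ← h1]
      congr 2
      rw [hr']; ring
    have h3' := cancel_pow (le_of_eq rfl) h2'
    rw [← mul_assoc, ← pev_X_pow, ← pev_mul'] at h3'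
    rw [hr']; exact h3'
  refine ⟨a, ⟨p, by rw [ha]; ring⟩, ?_, fun t ht => ?_⟩
  · have h1 := hmk 0 0
    rw [a1] at h1
    exact h1
  · convert ht.conj hg using 1
    rw [conj_formula hX.sq hY.sq hdet a5 t, quad]
    have hk : ∀ u, pev X Y (r * u) * X = 0 := fun u => by
      rw [mul_comm r, pev_mul', mul_assoc, hrX, mul_zero]
    rw [show -((1 + Polynomial.X * p) * r * t) = r * -(a * t) by rw [ha]; ring,
      show -(Polynomial.X * r ^ 2 * t) = r * -(r * t) * Polynomial.X by ring,
      show (1 + Polynomial.X * p) * r * t = r * (a * t) by rw [ha]; ring,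
      ← mul_assoc (pev X Y (r * -(a * t))), hk, zero_mul, pev_mul' (r * -(r * t)),
      show pev X Y Polynomial.X = X * Y from aeval_X _, ← mul_assoc (pev X Y (r * -(r * t))), hk, zero_mul, mul_zero,
      mul_assoc Y, hk, mul_zero, zero_add, add_zero, add_zero]

end Setting

/-- Non-nilpotent pairs have full rank. -/
theorem full_of_not_nilpotent (h2 : ringChar k ≠ 2) (h3 : Nat.card k ≠ 3) (hX : IsRoot G X) (hY : IsRoot G Y)
    (hN : ¬ IsNilpotent (X * Y)) :
    Module.finrank k (range ((X * Y) ^ Module.finrank k M)) = Module.finrank k (range X) := by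
  induction hs : Module.finrank k (range ((X * Y) ^ Module.finrank k M)) using Nat.strong_induction_on
    generalizing X Y with
  | _ s ih =>
    set n := Module.finrank k M with hn
    have hnpos : 0 < n := (finrank_range_pos hX.ne).trans_le (Submodule.finrank_le _)
    have hle : s ≤ Module.finrank k (range X) := by
      obtain ⟨m, hm⟩ : ∃ m, n = m + 1 := ⟨n - 1, by omega⟩
      rw [← hs, hm, pow_succ', mul_assoc]
      exact rank_mul_le _ _
    by_contra hne
    have ih' : ∀ A B : Module.End k M, IsRoot G A → IsRoot G B →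
        Module.finrank k (range ((A * B) ^ n)) < s → IsNilpotent (A * B) := fun A B hA hB hlt => by
      by_contra hAB
      have := ih _ hlt hA hB hAB rfl
      have := hA.rank_eq hX
      omega
    obtain ⟨f, hf, hfx, v, hv0, hfv, hvr⟩ := exists_irreducible hN
    have : Fact (Irreducible f) := ⟨hf⟩
    obtain ⟨b, hb, hb2⟩ := exists_scalar (Ring.two_ne_zero h2) h3
    have hbne : (algebraMap k (AdjoinRoot f) b) ≠ 0 := by simpa using hb
    obtain ⟨a, ⟨p, hp⟩, hab, haF⟩ := exists_upper_scalar h2 h3 hX hY hfx hv0 hfv hvr s hs.le ih' hbne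
    have hone : Fam G (pev X Y 1 * X) := by simpa [pev] using hX.fam
    have hF : Fam G (pev X Y (a ^ 2 - 1) * X) := by
      have h1 := (haF 1 hone).add hone.neg (by rw [mul_neg, pev_X_sq hX, neg_zero])
      convert h1 using 1
      rw [mul_one, map_sub, sub_mul, sub_eq_add_neg]
    obtain ⟨w, hw, hNw⟩ : ∃ w, X w ≠ 0 ∧ (X * Y) (X w) = 0 := by
      by_contra hno
      push Not at hno
      have hinj : ∀ j : ℕ, ∀ u, ((X * Y) ^ j) (X u) = 0 → X u = 0 := by
        intro j
        induction j with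
        | zero => exact fun u hu => hu
        | succ j ihj =>
          intro u hu
          by_contra hne'
          have h1 := hno u hne'
          obtain ⟨u', hu'⟩ : ∃ u', X u' = (X * Y) (X u) := ⟨Y (X u), rfl⟩
          rw [pow_succ, Module.End.mul_apply, ← hu'] at hu
          exact h1 (hu' ▸ ihj u' hu)
      have hk : ker ((X * Y) ^ n * X) = ker X := le_antisymm (fun m hm => hinj n m hm) fun m hm => by
        show ((X * Y) ^ n) (X m) = 0
        rw [show X m = 0 from hm, map_zero]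
      have e1 := LinearMap.finrank_range_add_finrank_ker X
      have e2 := LinearMap.finrank_range_add_finrank_ker ((X * Y) ^ n * X)
      have e3 := rank_mul_le ((X * Y) ^ n) X
      rw [hk] at e2
      omega
    have hz : pev X Y (a ^ 2 - 1) * X = 0 := by
      refine hX.small (pev_X_sq hX _ _) hF (rank_lt hw ?_)
      rw [show a ^ 2 - 1 = (a + 1) * p * Polynomial.X by rw [mul_assoc, mul_comm p, ← hp]; ring, pev_mul',
        Module.End.mul_apply, show pev X Y Polynomial.X = X * Y from aeval_X _, hNw, map_zero]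
    obtain ⟨u, hu⟩ := exists_X_eq hvr
    have h1 := LinearMap.congr_fun hz u
    rw [Module.End.mul_apply, hu, map_sub, LinearMap.sub_apply, LinearMap.zero_apply, sub_eq_zero] at h1
    have h4 : f ∣ a ^ 2 - C (b * b) := by
      rw [← AdjoinRoot.mk_eq_zero, map_sub, map_pow, hab, AdjoinRoot.mk_C, map_mul, AdjoinRoot.algebraMap_eq]
      ring
    have h5 := pev_kill hfv h4
    rw [map_sub, LinearMap.sub_apply, h1, pev, map_one, aeval_C, Module.algebraMap_end_apply, Module.End.one_apply,
      sub_eq_zero] at h5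
    have h6 : (b * b - 1) • v = 0 := by rw [sub_smul, one_smul, ← h5, sub_self]
    exact hv0 ((smul_eq_zero.mp h6).resolve_left (sub_ne_zero.mpr hb2))

/-- A non-nilpotent pair generates a field. -/
theorem exists_field (h2 : ringChar k ≠ 2) (h3 : Nat.card k ≠ 3) (hX : IsRoot G X) (hY : IsRoot G Y)
    (hN : ¬ IsNilpotent (X * Y)) :
    ∃ f : k[X], Irreducible f ∧ ¬ Polynomial.X ∣ f ∧
      (∀ p : k[X], pev X Y p * X = 0 ↔ f ∣ p) ∧ ∀ p : k[X], Fam G (pev X Y p * X) := by
  classical
  have two : (2 : k) ≠ 0 := Ring.two_ne_zero h2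
  set n := Module.finrank k M with hn
  have hnpos : 0 < n := (finrank_range_pos hX.ne).trans_le (Submodule.finrank_le _)
  have hfull := full_of_not_nilpotent h2 h3 hX hY hN
  rw [← hn] at hfull
  have hrange : range ((X * Y) ^ n) = range X := by
    refine Submodule.eq_of_le_of_finrank_le ?_ hfull.ge
    obtain ⟨m, hm⟩ : ∃ m, n = m + 1 := ⟨n - 1, by omega⟩
    rw [hm, pow_succ', mul_assoc]
    exact range_mul_le _ _
  have hcancel : ∀ p, pev X Y (Polynomial.X * p) * X = 0 → pev X Y p * X = 0 := by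
    intro p hp
    have h1 : pev X Y (Polynomial.X * p) * (X * Y) ^ n = 0 := LinearMap.ext fun m => by
      obtain ⟨u, hu⟩ : (((X * Y) ^ n) m) ∈ range X := hrange ▸ LinearMap.mem_range_self _ m
      rw [Module.End.mul_apply, ← hu]
      exact LinearMap.congr_fun hp u
    have h1' : (X * Y) ^ (n + 1) * pev X Y p = 0 := by
      rw [← h1, ← pev_X_pow, ← pev_X_pow, ← pev_mul', ← pev_mul']
      congr 1
      ring
    have h2' := cancel_pow le_rfl h1'
    rw [← pev_X_pow, pev_comm, pev_X_pow] at h2'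
    refine LinearMap.ext fun m => ?_
    obtain ⟨u, hu⟩ : X m ∈ range ((X * Y) ^ n) := hrange.ge (LinearMap.mem_range_self _ m)
    show pev X Y p (X m) = 0
    rw [← hu]
    exact LinearMap.congr_fun h2' u
  have ih' : ∀ A B : Module.End k M, IsRoot G A → IsRoot G B →
      Module.finrank k (range ((A * B) ^ n)) < Module.finrank k (range X) → IsNilpotent (A * B) := fun A B hA hB hlt => by
    by_contra hAB
    have h1 := full_of_not_nilpotent h2 h3 hA hB hAB
    have h4 := hA.rank_eq hX
    rw [← hn] at h1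
    omega
  obtain ⟨f, hf, hfx, v, hv0, hfv, hvr⟩ := exists_irreducible hN
  have : Fact (Irreducible f) := ⟨hf⟩
  let Q : Submodule k k[X] :=
    { carrier := {p | Fam G (pev X Y p * X)}
      add_mem' := fun {p q} hp hq => by
        show Fam G (pev X Y (p + q) * X)
        rw [pev_add', add_mul]
        exact hp.add hq (pev_X_sq hX p q)
      zero_mem' := by
        show Fam G (pev X Y 0 * X)
        rw [pev, map_zero, zero_mul]
        exact Fam.zero
      smul_mem' := fun c p hp => by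
        show Fam G (pev X Y (c • p) * X)
        rw [pev, map_smul, smul_mul_assoc]
        exact hp.smul c }
  have hQ : ∀ {p}, p ∈ Q ↔ Fam G (pev X Y p * X) := Iff.rfl
  have h1Q : (1 : k[X]) ∈ Q := by rw [hQ]; simpa [pev] using hX.fam
  have hkill : ∀ p ∈ Q, f ∣ p → pev X Y p * X = 0 := fun p hp hd => fam_kill hX hv0 hfv hvr hd hp
  have hlift : ∀ γ : AdjoinRoot f, ∃ q : k[X], AdjoinRoot.mk f q = γ ∧ ∀ t ∈ Q, q * t ∈ Q := by
    intro γ
    have hsq : ∀ β : AdjoinRoot f, ∃ q : k[X], AdjoinRoot.mk f q = β ^ 2 ∧ ∀ t ∈ Q, q * t ∈ Q := by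
      intro β
      by_cases hβ : β = 0
      · exact ⟨0, by simp [hβ], fun t _ => by simp⟩
      obtain ⟨a, -, ha, haF⟩ := exists_upper_scalar h2 h3 hX hY hfx hv0 hfv hvr _ hfull.le ih' hβ
      exact ⟨a ^ 2, by rw [map_pow, ha], fun t ht => haF t ht⟩
    obtain ⟨q₁, e1, m1⟩ := hsq (γ + 1)
    obtain ⟨q₂, e2, m2⟩ := hsq γ
    refine ⟨(2 : k)⁻¹ • (q₁ - q₂ - 1), ?_, fun t ht => ?_⟩
    · rw [smul_eq_C_mul, map_mul, map_sub, map_sub, e1, e2, map_one, AdjoinRoot.mk_C, map_inv₀, map_ofNat]
      rw [show (γ + 1) ^ 2 - γ ^ 2 - 1 = 2 * γ by ring, ← mul_assoc, inv_mul_cancel₀, one_mul]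
      rw [← map_ofNat (AdjoinRoot.of f) 2]
      exact (_root_.map_ne_zero _).mpr two
    · rw [smul_mul_assoc]
      refine Q.smul_mem _ ?_
      rw [sub_mul, sub_mul, one_mul]
      exact sub_mem (sub_mem (m1 t ht) (m2 t ht)) ht
  have hmul : ∀ q ∈ Q, ∀ t ∈ Q, q * t ∈ Q := by
    intro q hq t ht
    obtain ⟨q', e, hm⟩ := hlift (AdjoinRoot.mk f q)
    have hd : pev X Y (q - q') * X = 0 := by
      refine hkill _ (sub_mem hq (by simpa using hm 1 h1Q)) ?_
      rw [← AdjoinRoot.mk_eq_zero, map_sub, e, sub_self]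
    have h4 := hm t ht
    rw [hQ] at h4 ⊢
    convert h4 using 1
    rw [← sub_eq_zero, ← sub_mul, ← map_sub, ← sub_mul, mul_comm (q - q'), pev_mul', mul_assoc, hd, mul_zero]
  obtain ⟨q, hqα, hqm⟩ := hlift (AdjoinRoot.root f)⁻¹
  have hqQ : q ∈ Q := by simpa using hqm 1 h1Q
  have hroot : AdjoinRoot.root f ≠ 0 := by
    rw [← AdjoinRoot.mk_X, Ne, AdjoinRoot.mk_eq_zero]
    exact fun h => hfx ((hf.associated_of_dvd Polynomial.irreducible_X h).symm.dvd)
  set a := 1 + Polynomial.X * -q with ha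
  have hfa : f ∣ a := by
    rw [← AdjoinRoot.mk_eq_zero, ha, map_add, map_one, map_mul, AdjoinRoot.mk_X, map_neg, hqα, mul_neg,
      mul_inv_cancel₀ hroot, add_neg_cancel]
  obtain ⟨e, he, ee⟩ := (hQ.mp hqQ).exists_mem
  obtain ⟨e', he', ee'⟩ := hY.fam (-1)
  have hg : dd (e * e') = quad X Y (-q) q (-1) 0 := by
    rw [dd_mul, ee, ee', show pev X Y q * X = quad X Y 0 q 0 0 by simp [quad, pev],
      show (-1 : k) • Y = quad X Y 0 0 (-1) 0 by simp [quad, pev], quad_mul hX.sq hY.sq, quad_add, quad_add]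
    exact quad_congr (by ring) (by ring) (by ring) (by ring)
  have hdet : -q + 0 + Polynomial.X * -q * 0 = q * -1 := by ring
  set X' := conjE (e * e') X with hX'def
  have hX' : IsRoot G X' := hX.conj (mul_mem he he')
  have hX'e : X' = quad X Y a (a ^ 2) (-Polynomial.X) (-a) := by
    have h1 := conj_formula hX.sq hY.sq hdet hg 1
    rw [show pev X Y 1 * X = X by simp [pev]] at h1
    rw [hX'def, h1]
    exact quad_congr (by ring) (by ring) (by ring) (by ring)
  have hYX' : Y * X' = quad X Y 0 0 (Polynomial.X * a) (a ^ 2) := by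
    conv_lhs => rw [hX'e]; arg 1; rw [quad_Y (X := X) (Y := Y)]
    rw [quad_mul hX.sq hY.sq]
    exact quad_congr (by ring) (by ring) (by ring) (by ring)
  have hsmall : Module.finrank k (range (Y * (pev X Y a * X))) < Module.finrank k (range X) :=
    (rank_mul_le' _ _).trans_lt (not_full hv0 hfv hvr hfa)
  have hnil : IsNilpotent (Y * X') := by
    refine ih' Y X' hY hX' (lt_of_le_of_lt ?_ hsmall)
    obtain ⟨m, hm⟩ : ∃ m, n = m + 1 := ⟨n - 1, by omega⟩
    rw [hm, pow_succ']
    refine (rank_mul_le _ _).trans (Submodule.finrank_mono ?_)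
    rw [hYX']
    rintro _ ⟨z, rfl⟩
    obtain ⟨u, hu⟩ : ((X * Y) z + pev X Y a (X z)) ∈ range X :=
      add_mem (LinearMap.mem_range_self X (Y z)) (range_pev_le a (LinearMap.mem_range_self (pev X Y a * X) z))
    refine ⟨u, ?_⟩
    show Y (pev X Y a (X u)) = _
    rw [hu]
    have e : quad X Y 0 0 (Polynomial.X * a) (a ^ 2) = Y * (pev X Y a * (X * Y + pev X Y a * X)) := by
      rw [quad, mul_comm Polynomial.X a, pow_two, pev_mul', pev_mul', show pev X Y Polynomial.X = X * Y from aeval_X _]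
      simp only [map_zero, zero_mul, zero_add, mul_add, mul_assoc]
    rw [e]
    rfl
  obtain ⟨z1, z2⟩ := nilpotent_pair two hY hX' hnil
  have ha2 : pev X Y (a ^ 2) * X = 0 := by
    rw [hYX'] at z1
    nth_rewrite 2 [quad_Y (X := X) (Y := Y)] at z1
    rw [quad_mul hX.sq hY.sq] at z1
    simp only [quad, mul_zero, zero_mul, add_zero, zero_add, mul_one, map_zero] at z1
    refine hcancel _ (hcancel _ ?_)
    have h5 : X * (Y * pev X Y (Polynomial.X * a ^ 2)) * X = 0 := by rw [z1, mul_zero, zero_mul]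
    rw [← mul_assoc X Y, ← show pev X Y Polynomial.X = X * Y from aeval_X _, ← pev_mul'] at h5
    exact h5
  have hX'Y : X' * Y = quad X Y (a ^ 2) 0 (-(Polynomial.X * a)) 0 := by
    conv_lhs => rw [hX'e]; arg 2; rw [quad_Y (X := X) (Y := Y)]
    rw [quad_mul hX.sq hY.sq]
    exact quad_congr (by ring) (by ring) (by ring) (by ring)
  have haX : pev X Y a * X = 0 := by
    set Z := Y * pev X Y (Polynomial.X * a) with hZ
    have hZF : Fam G Z := by
      refine Fam.of_two ?_ two
      obtain ⟨hF, -⟩ := commutator_fam hY hX' z1 z2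
      convert hF using 1
      rw [hYX', hX'Y]
      simp only [quad, pev, map_zero, map_neg, zero_mul, mul_zero, add_zero, zero_add, mul_neg]
      rw [← mul_assoc (aeval (X * Y) (a ^ 2)), show aeval (X * Y) (a ^ 2) * X = 0 from ha2, zero_mul, mul_assoc Y,
        show aeval (X * Y) (a ^ 2) * X = 0 from ha2, mul_zero, hZ]
      simp
    have hZ2 : Z * Z = 0 := by
      rw [hZ, mul_assoc, ← mul_assoc (pev X Y _) Y, pev_mul hY.sq]
      simp
    have hZlt : Module.finrank k (range Z) < Module.finrank k (range Y) := by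
      rw [hY.rank_eq hX]
      refine lt_of_le_of_lt ?_ hsmall
      rw [hZ, mul_comm Polynomial.X a, pev_mul', show pev X Y Polynomial.X = X * Y from aeval_X _,
        ← mul_assoc (pev X Y a), ← mul_assoc Y]
      exact rank_mul_le _ _
    have hz := hY.small hZ2 hZF hZlt
    refine hcancel _ (hcancel _ ?_)
    have h5 : X * Z * X = 0 := by rw [hz, mul_zero, zero_mul]
    rw [hZ, ← mul_assoc X Y, ← show pev X Y Polynomial.X = X * Y from aeval_X _, ← pev_mul'] at h5
    exact h5
  have hxq : pev X Y (Polynomial.X * q) * X = X := by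
    rw [ha, pev_add', add_mul, mul_neg, map_neg, neg_mul, pev, map_one, one_mul, ← sub_eq_add_neg, sub_eq_zero] at haX
    exact haX.symm
  have hxQ : Polynomial.X ∈ Q := by
    let Φ : Q →ₗ[k] Module.End k M :=
      { toFun := fun p => pev X Y p * X
        map_add' := fun p p' => by simp only [Submodule.coe_add, pev_add', add_mul]
        map_smul' := fun c p => by simp only [SetLike.val_smul, pev, map_smul, smul_mul_assoc, RingHom.id_apply] }
    have hmap : ∀ z ∈ range Φ, pev X Y q * z ∈ range Φ := by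
      rintro _ ⟨p, rfl⟩
      refine ⟨⟨q * p, hmul q hqQ p p.2⟩, ?_⟩
      show pev X Y (q * p) * X = pev X Y q * (pev X Y p * X)
      rw [pev_mul', mul_assoc]
    let L : range Φ →ₗ[k] range Φ := (LinearMap.mulLeft k (pev X Y q)).restrict hmap
    have hL : Function.Injective L := by
      refine (injective_iff_map_eq_zero L).mpr fun z hz => ?_
      obtain ⟨_, ⟨p, rfl⟩⟩ := z
      apply Subtype.ext
      have h5 : pev X Y q * (pev X Y p * X) = 0 := congrArg Subtype.val hz
      show pev X Y p * X = 0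
      calc pev X Y p * X = pev X Y p * (pev X Y (Polynomial.X * q) * X) := by rw [hxq]
        _ = pev X Y Polynomial.X * (pev X Y q * (pev X Y p * X)) := by
          rw [← mul_assoc, ← pev_mul', show (p : k[X]) * (Polynomial.X * q) = Polynomial.X * (q * (p : k[X])) by ring,
            pev_mul', pev_mul', mul_assoc, mul_assoc]
        _ = 0 := by rw [h5, mul_zero]
    obtain ⟨⟨_, ⟨p, rfl⟩⟩, hp⟩ := (LinearMap.injective_iff_surjective.mp hL) ⟨X, ⟨⟨1, h1Q⟩, by simp [Φ, pev]⟩⟩
    have h5 : pev X Y q * (pev X Y p * X) = X := congrArg Subtype.val hp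
    have h6 : pev X Y p * X = pev X Y Polynomial.X * X := by
      calc pev X Y p * X = pev X Y p * (pev X Y (Polynomial.X * q) * X) := by rw [hxq]
        _ = pev X Y Polynomial.X * (pev X Y q * (pev X Y p * X)) := by
          rw [← mul_assoc, ← pev_mul', show (p : k[X]) * (Polynomial.X * q) = Polynomial.X * (q * (p : k[X])) by ring,
            pev_mul', pev_mul', mul_assoc, mul_assoc]
        _ = _ := by rw [h5]
    rw [hQ, ← h6]
    exact p.2
  have hall : ∀ p : k[X], p ∈ Q := by
    intro p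
    induction p using Polynomial.induction_on' with
    | add p p' hp hp' => exact add_mem hp hp'
    | monomial j c =>
      rw [← C_mul_X_pow_eq_monomial, ← smul_eq_C_mul]
      refine Q.smul_mem _ ?_
      induction j with
      | zero => rw [pow_zero]; exact h1Q
      | succ j ihj => rw [pow_succ]; exact hmul _ ihj _ hxQ
  refine ⟨f, hf, hfx, fun p => ⟨fun hp => ?_, fun hd => hkill p (hall p) hd⟩, fun p => hQ.mp (hall p)⟩
  by_contra hd
  obtain ⟨c, c', hcc⟩ := hf.coprime_iff_not_dvd.mpr hd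
  obtain ⟨u, hu⟩ := exists_X_eq hvr
  have h5 := congrArg (fun z => pev X Y z v) hcc
  simp only [pev, map_add, map_mul, map_one, LinearMap.add_apply, Module.End.mul_apply, Module.End.one_apply] at h5
  rw [show aeval (X * Y) f v = 0 from hfv, map_zero, zero_add,
    show aeval (X * Y) p v = 0 by rw [← hu]; exact LinearMap.congr_fun hp u, map_zero] at h5
  exact hv0 h5.symm

end Cfsg.Agent.Lib.QPair
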