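import Cfsg.Agent.Lib.QPair.Dichotomy

/-!
# The homomorphism from `SL₂` of a non-nilpotent pair
-/

set_option autoImplicit false

namespace Cfsg.Agent.Lib.QPair

open Cfsg LinearMap Polynomial Cfsg.Lib.Linear.Dickson
open scoped MatrixGroups

variable {k : Type*} [Field k] {M : Type*} [AddCommGroup M] [Module k M]

/-- The data of a non-nilpotent pair. -/
structure GoodPair (G : Subgroup (GeneralLinearGroup k M)) (X Y : Module.End k M) (f : k[X]) : Prop where
  rootX : IsRoot G X
  rootY : IsRoot G Y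
  irr : Irreducible f
  notX : ¬ Polynomial.X ∣ f
  iff_dvd : ∀ p : k[X], pev X Y p * X = 0 ↔ f ∣ p
  fam : ∀ p : k[X], Fam G (pev X Y p * X)
  injX : ∀ m : M, X (Y m) = 0 → Y m = 0
  injY : ∀ m : M, Y (X m) = 0 → X m = 0

variable {G : Subgroup (GeneralLinearGroup k M)} {X Y : Module.End k M}

theorem exists_good [FiniteDimensional k M] (h2 : ringChar k ≠ 2) (h3 : Nat.card k ≠ 3) (hX : IsRoot G X)
    (hY : IsRoot G Y) (hN : ¬ IsNilpotent (X * Y)) : ∃ f : k[X], GoodPair G X Y f := by
  obtain ⟨f, hf, hfx, hiff, hfam⟩ := exists_field h2 h3 hX hY hN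
  have hfull := full_of_not_nilpotent h2 h3 hX hY hN
  set n := Module.finrank k M with hn
  have hnpos : 0 < n := (finrank_range_pos hX.ne).trans_le (Submodule.finrank_le _)
  have hr : range ((X * Y) ^ n) ≤ range X := by
    obtain ⟨m, hm⟩ : ∃ m, n = m + 1 := ⟨n - 1, by omega⟩
    rw [hm, pow_succ', mul_assoc]
    exact range_mul_le _ _
  have heq := Submodule.eq_of_le_of_finrank_le hr hfull.ge
  have h1 : range X ≤ range (X * Y) := by
    rw [← heq]
    obtain ⟨m, hm⟩ : ∃ m, n = m + 1 := ⟨n - 1, by omega⟩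
    rw [hm, pow_succ']
    exact range_mul_le _ _
  have r1 : Module.finrank k (range X) ≤ Module.finrank k (range (X * Y)) := Submodule.finrank_mono h1
  have inj : ∀ A B : Module.End k M, Module.finrank k (range B) ≤ Module.finrank k (range (A * B)) →
      ∀ m, A (B m) = 0 → B m = 0 := by
    intro A B hle m hm
    by_contra hne
    exact absurd (rank_lt hne hm) (not_lt.mpr hle)
  refine ⟨f, hX, hY, hf, hfx, hiff, hfam, inj X Y (by rw [← hX.rank_eq hY]; exact r1), inj Y X ?_⟩
  have h4 : range X ≤ range (X * (Y * X) * Y) := by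
    have hn2 : 2 ≤ n := by
      have e1 := LinearMap.finrank_range_add_finrank_ker X
      have e2 : range X ≤ ker X := fun z ⟨u, hu⟩ => by rw [← hu]; exact LinearMap.congr_fun hX.sq u
      have e3 := Submodule.finrank_mono e2
      have e4 := finrank_range_pos hX.ne
      omega
    obtain ⟨m, hm⟩ : ∃ m, n = m + 2 := ⟨n - 2, by omega⟩
    rw [← heq, hm, pow_succ', pow_succ', show X * Y * (X * Y * (X * Y) ^ m) = X * (Y * X) * Y * (X * Y) ^ m by
      simp only [mul_assoc]]
    exact range_mul_le _ _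
  exact (Submodule.finrank_mono h4).trans ((rank_mul_le _ _).trans (rank_mul_le' _ _))

variable {f : k[X]} (P : GoodPair G X Y f)

include P

theorem GoodPair.kill {p : k[X]} (hp : f ∣ p) :
    pev X Y p * X = 0 ∧ pev X Y p * (X * Y) = 0 ∧ Y * pev X Y p = 0 ∧ Y * pev X Y p * X = 0 := by
  have h1 := (P.iff_dvd p).mpr hp
  refine ⟨h1, by rw [← mul_assoc, h1, zero_mul], LinearMap.ext fun m => P.injX _ ?_, by rw [mul_assoc, h1, mul_zero]⟩
  have e : X * Y * pev X Y p = 0 := by
    rw [← show pev X Y Polynomial.X = X * Y from aeval_X _, pev_comm, show pev X Y Polynomial.X = X * Y from aeval_X _,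
      ← mul_assoc, h1, zero_mul]
  exact LinearMap.congr_fun e m

theorem GoodPair.quad_mod {p q r s p' q' r' s' : k[X]} (h1 : AdjoinRoot.mk f p = AdjoinRoot.mk f p')
    (h2 : AdjoinRoot.mk f q = AdjoinRoot.mk f q') (h3 : AdjoinRoot.mk f r = AdjoinRoot.mk f r')
    (h4 : AdjoinRoot.mk f s = AdjoinRoot.mk f s') : quad X Y p q r s = quad X Y p' q' r' s' := by
  rw [AdjoinRoot.mk_eq_mk] at h1 h2 h3 h4
  obtain ⟨-, a, -, -⟩ := P.kill h1
  obtain ⟨b, -, -, -⟩ := P.kill h2
  obtain ⟨-, -, c, -⟩ := P.kill h3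
  obtain ⟨-, -, -, d⟩ := P.kill h4
  rw [map_sub, sub_mul, sub_eq_zero] at a b
  rw [map_sub, mul_sub, sub_eq_zero] at c
  rw [map_sub, mul_sub, sub_mul, sub_eq_zero] at d
  rw [quad, quad, a, b, c, d]

theorem GoodPair.quad_inj {p q r s : k[X]} (h : quad X Y p q r s = 0) : f ∣ p ∧ f ∣ q ∧ f ∣ r ∧ f ∣ s := by
  have hX := P.rootX.sq
  have hp : Prime f := P.irr.prime
  have cx : ∀ u, f ∣ Polynomial.X * u → f ∣ u := fun u hu => (hp.dvd_or_dvd hu).resolve_left fun h' =>
    P.notX ((P.irr.associated_of_dvd Polynomial.irreducible_X h').symm.dvd)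
  have hr : f ∣ r := by
    refine cx _ ((P.iff_dvd _).mp ?_)
    have h1 : X * quad X Y p q r s * X = 0 := by rw [h, mul_zero, zero_mul]
    rw [← h1, quad]
    simp only [mul_add, add_mul]
    rw [show X * (pev X Y p * (X * Y)) * X = 0 by
        rw [← mul_assoc, mul_pev hX, smul_mul_assoc, ← mul_assoc, hX]; simp,
      show X * (pev X Y q * X) * X = 0 by rw [← mul_assoc, mul_pev hX, smul_mul_assoc, hX]; simp,
      show X * (Y * pev X Y s * X) * X = 0 by simp only [mul_assoc, hX, mul_zero],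
      pev_mul', show pev X Y Polynomial.X = X * Y from aeval_X _]
    simp only [mul_assoc, zero_add, add_zero]
  rw [P.quad_mod (r' := 0) rfl rfl (by rw [AdjoinRoot.mk_eq_mk, sub_zero]; exact hr) rfl] at h
  have hp' : f ∣ p := by
    refine cx _ ((P.iff_dvd _).mp ?_)
    have h1 : quad X Y p q 0 s * X = 0 := by rw [h, zero_mul]
    rw [← h1, quad, mul_comm Polynomial.X p, pev_mul', show pev X Y Polynomial.X = X * Y from aeval_X _]
    simp only [add_mul, mul_assoc, hX, map_zero, mul_zero, zero_mul, add_zero]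
  rw [P.quad_mod (p' := 0) (by rw [AdjoinRoot.mk_eq_mk, sub_zero]; exact hp') rfl rfl rfl] at h
  have hs : f ∣ s := by
    refine cx _ ((P.iff_dvd _).mp ?_)
    have h1 : X * quad X Y 0 q 0 s = 0 := by rw [h, mul_zero]
    rw [← h1, quad, pev_mul', show pev X Y Polynomial.X = X * Y from aeval_X _]
    simp only [map_zero, zero_mul, mul_zero, zero_add, add_zero, mul_add]
    rw [← mul_assoc X (pev X Y q), mul_pev hX, smul_mul_assoc, hX, smul_zero, zero_add]
    simp only [mul_assoc]
  rw [P.quad_mod (s' := 0) rfl rfl rfl (by rw [AdjoinRoot.mk_eq_mk, sub_zero]; exact hs)] at h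
  refine ⟨hp', (P.iff_dvd q).mp ?_, hr, hs⟩
  simpa [quad] using h

omit P

/-- A lift of an element of `k[t]/(f)`. -/
noncomputable def liftK (f : k[X]) (z : AdjoinRoot f) : k[X] := (AdjoinRoot.mk_surjective z).choose

theorem mk_liftK (z : AdjoinRoot f) : AdjoinRoot.mk f (liftK f z) = z := (AdjoinRoot.mk_surjective z).choose_spec

variable [hf : Fact (Irreducible f)]

/-- The map underlying the homomorphism. -/
noncomputable def psiMap (X Y : Module.End k M) (h : SL(2, AdjoinRoot f)) : Module.End k M :=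
  quad X Y (liftK f ((h 0 0 - 1) / AdjoinRoot.root f)) (liftK f (h 0 1)) (liftK f (h 1 0 / AdjoinRoot.root f))
    (liftK f ((h 1 1 - 1) / AdjoinRoot.root f))

theorem GoodPair.root_ne (P : GoodPair G X Y f) : AdjoinRoot.root f ≠ 0 := by
  rw [← AdjoinRoot.mk_X, Ne, AdjoinRoot.mk_eq_zero]
  exact fun h => P.notX ((P.irr.associated_of_dvd Polynomial.irreducible_X h).symm.dvd)

theorem GoodPair.psiMap_eq (P : GoodPair G X Y f) {h : SL(2, AdjoinRoot f)} {p q r s : k[X]}
    (a1 : h 0 0 = 1 + AdjoinRoot.root f * AdjoinRoot.mk f p) (a2 : h 0 1 = AdjoinRoot.mk f q)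
    (a3 : h 1 0 = AdjoinRoot.root f * AdjoinRoot.mk f r)
    (a4 : h 1 1 = 1 + AdjoinRoot.root f * AdjoinRoot.mk f s) : psiMap X Y h = quad X Y p q r s := by
  have := P.root_ne
  refine P.quad_mod ?_ ?_ ?_ ?_ <;> rw [mk_liftK]
  · rw [a1, add_sub_cancel_left, mul_div_cancel_left₀ _ this]
  · exact a2
  · rw [a3, mul_div_cancel_left₀ _ this]
  · rw [a4, add_sub_cancel_left, mul_div_cancel_left₀ _ this]

/-- The homomorphism into endomorphisms. -/
noncomputable def GoodPair.psiEnd (P : GoodPair G X Y f) : SL(2, AdjoinRoot f) →* Module.End k M where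
  toFun h := 1 + psiMap X Y h
  map_one' := by
    rw [P.psiMap_eq (p := 0) (q := 0) (r := 0) (s := 0) (by simp) (by simp) (by simp) (by simp), quad_zero, add_zero]
  map_mul' a b := by
    have hne := P.root_ne
    set p := liftK f ((a 0 0 - 1) / AdjoinRoot.root f) with hp
    set q := liftK f (a 0 1) with hq
    set r := liftK f (a 1 0 / AdjoinRoot.root f) with hr
    set s := liftK f ((a 1 1 - 1) / AdjoinRoot.root f) with hs
    set p' := liftK f ((b 0 0 - 1) / AdjoinRoot.root f) with hp'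
    set q' := liftK f (b 0 1) with hq'
    set r' := liftK f (b 1 0 / AdjoinRoot.root f) with hr'
    set s' := liftK f ((b 1 1 - 1) / AdjoinRoot.root f) with hs'
    have e : (1 + psiMap X Y a) * (1 + psiMap X Y b) = 1 + quad X Y (p + p' + (Polynomial.X * p * p' + q * r'))
        (q + q' + Polynomial.X * (p * q' + q * s')) (r + r' + Polynomial.X * (r * p' + s * r'))
        (s + s' + (r * q' + Polynomial.X * s * s')) := by
      show (1 + quad X Y p q r s) * (1 + quad X Y p' q' r' s') = _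
      rw [add_mul, one_mul, mul_add, mul_one, quad_mul P.rootX.sq P.rootY.sq, add_assoc, quad_add, quad_add]
      congr 1
      exact quad_congr (by ring) (by ring) (by ring) (by ring)
    rw [e]
    congr 1
    refine P.psiMap_eq ?_ ?_ ?_ ?_
    all_goals
      simp only [map_add, map_mul, AdjoinRoot.mk_X, hp, hq, hr, hs, hp', hq', hr', hs', mk_liftK,
        Matrix.SpecialLinearGroup.coe_mul, Matrix.mul_apply, Fin.sum_univ_two]
      field_simp
      ring

/-- The homomorphism. -/
noncomputable def GoodPair.psi (P : GoodPair G X Y f) : SL(2, AdjoinRoot f) →* GeneralLinearGroup k M :=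
  P.psiEnd.toHomUnits

theorem GoodPair.dd_psi (P : GoodPair G X Y f) (h : SL(2, AdjoinRoot f)) : dd (P.psi h) = psiMap X Y h :=
  add_sub_cancel_left (1 : Module.End k M) (psiMap X Y h)

theorem GoodPair.dd_psi_eq (P : GoodPair G X Y f) {h : SL(2, AdjoinRoot f)} {p q r s : k[X]}
    (a1 : h 0 0 = 1 + AdjoinRoot.root f * AdjoinRoot.mk f p) (a2 : h 0 1 = AdjoinRoot.mk f q)
    (a3 : h 1 0 = AdjoinRoot.root f * AdjoinRoot.mk f r)
    (a4 : h 1 1 = 1 + AdjoinRoot.root f * AdjoinRoot.mk f s) : dd (P.psi h) = quad X Y p q r s := by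
  rw [P.dd_psi]; exact P.psiMap_eq a1 a2 a3 a4

theorem GoodPair.psi_injective (P : GoodPair G X Y f) : Function.Injective P.psi := by
  refine (injective_iff_map_eq_one _).mpr fun h e => ?_
  have h1 : psiMap X Y h = 0 := by rw [← P.dd_psi, e, dd_one]
  obtain ⟨a, b, c, d⟩ := P.quad_inj h1
  rw [← AdjoinRoot.mk_eq_zero, mk_liftK] at a b c d
  have hne := P.root_ne
  rw [div_eq_zero_iff, or_iff_left hne, sub_eq_zero] at a d
  rw [div_eq_zero_iff, or_iff_left hne] at c
  apply ext_two <;> simp [a, b, c, d]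

theorem GoodPair.dd_upper (P : GoodPair G X Y f) (q : k[X]) :
    dd (P.psi (tU (AdjoinRoot.mk f q))) = pev X Y q * X := by
  rw [P.dd_psi_eq (p := 0) (q := q) (r := 0) (s := 0) (by simp [tU_coe]) (by simp [tU_coe]) (by simp [tU_coe])
    (by simp [tU_coe])]
  simp [quad]

theorem GoodPair.dd_lower (P : GoodPair G X Y f) (r : k[X]) :
    dd (P.psi (tL (AdjoinRoot.root f * AdjoinRoot.mk f r))) = Y * pev X Y r := by
  rw [P.dd_psi_eq (p := 0) (q := 0) (r := r) (s := 0) (by simp [tL_coe]) (by simp [tL_coe]) (by simp [tL_coe])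
    (by simp [tL_coe])]
  simp [quad]

theorem GoodPair.dd_upper_scalar (P : GoodPair G X Y f) (c : k) :
    dd (P.psi (tU (algebraMap k (AdjoinRoot f) c))) = c • X := by
  rw [AdjoinRoot.algebraMap_eq, ← AdjoinRoot.mk_C, P.dd_upper, pev, aeval_C, ← Algebra.smul_def]

theorem GoodPair.dd_lower_scalar (P : GoodPair G X Y f) (c : k) :
    dd (P.psi (tL (algebraMap k (AdjoinRoot f) c * AdjoinRoot.root f))) = c • Y := by
  rw [AdjoinRoot.algebraMap_eq, ← AdjoinRoot.mk_C, mul_comm, P.dd_lower, pev, aeval_C, ← Algebra.commutes,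
    ← Algebra.smul_def]

/-- The group generated by the two scalar families. -/
def twoFam (X Y : Module.End k M) : Subgroup (GeneralLinearGroup k M) :=
  Subgroup.closure ({g | ∃ c : k, dd g = c • X} ∪ {g | ∃ c : k, dd g = c • Y})

theorem GoodPair.range_psi (P : GoodPair G X Y f) (h2 : ringChar k ≠ 2) (h3 : Nat.card k ≠ 3) :
    P.psi.range = twoFam X Y := by
  apply le_antisymm
  · have htop : (twoFam X Y).comap P.psi = ⊤ := eq_top_of_root_groups (AdjoinRoot.powerBasis P.irr.ne_zero)
      (by rw [AdjoinRoot.powerBasis_gen]; exact P.root_ne) h2 h3 _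
      (fun c => Subgroup.subset_closure (Or.inl ⟨c, P.dd_upper_scalar c⟩))
      (fun c => Subgroup.subset_closure (Or.inr ⟨c, by rw [AdjoinRoot.powerBasis_gen]; exact P.dd_lower_scalar c⟩))
    rintro _ ⟨h, rfl⟩
    exact Subgroup.mem_comap.mp (htop.ge (Subgroup.mem_top h))
  · rw [twoFam, Subgroup.closure_le]
    rintro g (⟨c, hc⟩ | ⟨c, hc⟩)
    · exact ⟨_, dd_injective ((P.dd_upper_scalar c).trans hc.symm)⟩
    · exact ⟨_, dd_injective ((P.dd_lower_scalar c).trans hc.symm)⟩

theorem twoFam_le (hX : IsRoot G X) (hY : IsRoot G Y) : twoFam X Y ≤ G := by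
  rw [twoFam, Subgroup.closure_le]
  rintro g (⟨c, hc⟩ | ⟨c, hc⟩)
  · obtain ⟨g', hg', e⟩ := hX.fam c
    exact dd_injective (hc.trans e.symm) ▸ hg'
  · obtain ⟨g', hg', e⟩ := hY.fam c
    exact dd_injective (hc.trans e.symm) ▸ hg'

theorem GoodPair.psi_mem (P : GoodPair G X Y f) (h2 : ringChar k ≠ 2) (h3 : Nat.card k ≠ 3)
    (h : SL(2, AdjoinRoot f)) : P.psi h ∈ G :=
  twoFam_le P.rootX P.rootY ((P.range_psi h2 h3).le ⟨h, rfl⟩)

theorem GoodPair.psi_fix (P : GoodPair G X Y f) (h : SL(2, AdjoinRoot f)) {m : M} (hx : X m = 0) (hy : Y m = 0) :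
    (P.psi h : Module.End k M) m = m := by
  have e : ∀ r : k[X], Y (pev X Y r m) = 0 := by
    intro r
    induction r using Polynomial.induction_on' with
    | add a b ha hb => rw [map_add, LinearMap.add_apply, map_add, ha, hb, add_zero]
    | monomial j c =>
      rw [pev, aeval_monomial, Module.End.mul_apply, Module.algebraMap_end_apply, map_smul]
      rcases j with - | j
      · rw [pow_zero, Module.End.one_apply, hy, smul_zero]
      · rw [pow_succ, Module.End.mul_apply, Module.End.mul_apply X Y m, hy, map_zero, map_zero, map_zero, smul_zero]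
  rw [coe_eq, P.dd_psi, psiMap, quad]
  simp only [LinearMap.add_apply, Module.End.one_apply, Module.End.mul_apply, hx, hy, map_zero, e, add_zero]

end Cfsg.Agent.Lib.QPair
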