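import Cfsg.Agent.Lib.QPair.Spaces

/-!
# The rank one group of a non-nilpotent pair
-/

set_option autoImplicit false

namespace Cfsg.Agent.Lib.QPair

open Cfsg LinearMap Polynomial Cfsg.Lib.Linear.Dickson
open scoped MatrixGroups

variable {k : Type*} [Field k] {M : Type*} [AddCommGroup M] [Module k M] [FiniteDimensional k M]
  {G : Subgroup (GeneralLinearGroup k M)} {X Y : Module.End k M} {f : k[X]}

theorem GoodPair.finrank_pos (P : GoodPair G X Y f) : 0 < Module.finrank k (range X) := finrank_range_pos P.rootX.ne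

theorem GoodPair.not_nilpotent (P : GoodPair G X Y f) {X' Y' : Module.End k M} (hX : X' ∈ sp G X) (hX0 : X' ≠ 0)
    (hY : Y' ∈ sp G Y) (hY0 : Y' ≠ 0) : ¬ IsNilpotent (X' * Y') := by
  obtain ⟨-, hr, hk⟩ := sp_root P.rootX hX hX0
  obtain ⟨-, hr', hk'⟩ := sp_root P.rootY hY hY0
  have step : ∀ z ∈ range X, (X' * Y') z = 0 → z = 0 := by
    intro z hz h0
    obtain ⟨u, hu⟩ : Y' z ∈ range Y := hr' ▸ LinearMap.mem_range_self Y' z
    have h1 : Y' z ∈ ker X := hk ▸ (show Y' z ∈ ker X' from h0)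
    have h2 : Y' z = 0 := by
      rw [← hu]
      exact P.injX u (by rw [hu]; exact h1)
    obtain ⟨w, rfl⟩ := hz
    exact P.injY w (show X w ∈ ker Y from hk' ▸ h2)
  rintro ⟨j, hj⟩
  obtain ⟨u, hu⟩ : ∃ u, X u ≠ 0 := by
    by_contra h; push Not at h; exact P.rootX.ne (LinearMap.ext h)
  have hind : ∀ i : ℕ, ∀ z ∈ range X, ((X' * Y') ^ i) z = 0 → z = 0 := by
    intro i
    induction i with
    | zero => exact fun z _ h => h
    | succ i ih =>
      intro z hz h
      refine step z hz ?_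
      refine ih _ (hr ▸ LinearMap.mem_range_self X' (Y' z)) ?_
      rw [pow_succ] at h
      exact h
  exact hu (hind j _ (LinearMap.mem_range_self X u) (by rw [hj]; rfl))

theorem GoodPair.split (P : GoodPair G X Y f) (m : M) :
    ∃ a b z, a ∈ range X ∧ b ∈ range Y ∧ X z = 0 ∧ Y z = 0 ∧ m = a + b + z := by
  have hsurj : ∀ A B : Module.End k M, Module.finrank k (range A) = Module.finrank k (range B) →
      (∀ u, A (B u) = 0 → B u = 0) → ∀ m, ∃ u, A (B u) = A m := by
    intro A B hd hinj m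
    have hk : ker (A * B) = ker B := le_antisymm (fun u hu => hinj u hu) fun u hu => by
      show A (B u) = 0
      rw [show B u = 0 from hu, map_zero]
    have e1 := LinearMap.finrank_range_add_finrank_ker B
    have e2 := LinearMap.finrank_range_add_finrank_ker (A * B)
    rw [hk] at e2
    have := Submodule.eq_of_le_of_finrank_le (range_mul_le A B) (by omega)
    obtain ⟨u, hu⟩ := this.ge (LinearMap.mem_range_self A m)
    exact ⟨u, hu⟩
  obtain ⟨u, hu⟩ := hsurj X Y (P.rootX.rank_eq P.rootY) P.injX m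
  obtain ⟨w, hw⟩ := hsurj Y X (P.rootY.rank_eq P.rootX) P.injY m
  have x2 : ∀ v, X (X v) = 0 := LinearMap.congr_fun P.rootX.sq
  have y2 : ∀ v, Y (Y v) = 0 := LinearMap.congr_fun P.rootY.sq
  exact ⟨X w, Y u, m - X w - Y u, ⟨w, rfl⟩, ⟨u, rfl⟩, by rw [map_sub, map_sub, x2, hu]; abel,
    by rw [map_sub, map_sub, y2, hw]; abel, by abel⟩

variable [Fact (Irreducible f)]

omit [FiniteDimensional k M] in
/-- A scalar lift of the inverse of the root. -/
theorem GoodPair.exists_inv (P : GoodPair G X Y f) :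
    ∃ t : k[X], AdjoinRoot.root f * AdjoinRoot.mk f t = 1 :=
  ⟨liftK f (AdjoinRoot.root f)⁻¹, by rw [mk_liftK, mul_inv_cancel₀ P.root_ne]⟩

omit [FiniteDimensional k M] in
theorem GoodPair.pev_eq_of_mk (P : GoodPair G X Y f) {p : k[X]} {c : k} (h : AdjoinRoot.mk f p = algebraMap k _ c) :
    pev X Y p * X = c • X ∧ Y * pev X Y p = c • Y := by
  rw [AdjoinRoot.algebraMap_eq, ← AdjoinRoot.mk_C, AdjoinRoot.mk_eq_mk] at h
  obtain ⟨a, -, b, -⟩ := P.kill h
  rw [map_sub, sub_mul, sub_eq_zero, pev, aeval_C, ← Algebra.smul_def] at a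
  rw [map_sub, mul_sub, sub_eq_zero, pev, aeval_C, ← Algebra.commutes, ← Algebra.smul_def] at b
  exact ⟨a, b⟩

/-- The swapping elements. -/
theorem GoodPair.exists_swap (P : GoodPair G X Y f) (h2 : ringChar k ≠ 2) (h3 : Nat.card k ≠ 3) :
    ∃ e ∈ twoFam X Y, ∃ b ∈ twoFam X Y, e ∈ G ∧ b ∈ G ∧ dd e = X ∧ dd b ∈ sp G Y ∧ dd b ≠ 0 ∧
      conjE (e * b⁻¹ * e) X = -dd b ∧ b⁻¹ * e * b = e⁻¹ * b⁻¹ * e ∧
      X * dd b * X = X ∧ dd b * X * dd b = dd b := by
  obtain ⟨t, ht⟩ := P.exists_inv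
  have hmem : ∀ h, P.psi h ∈ twoFam X Y := fun h => (P.range_psi h2 h3).le ⟨h, rfl⟩
  have hxt : pev X Y (Polynomial.X * t) * X = X ∧ Y * pev X Y (Polynomial.X * t) = Y := by
    have := P.pev_eq_of_mk (p := Polynomial.X * t) (c := 1) (by rw [map_mul, AdjoinRoot.mk_X, ht, map_one])
    simpa using this
  set Z := Y * pev X Y t with hZ
  have hdb : dd (P.psi (tL (1 : AdjoinRoot f))) = Z := by
    rw [← ht, P.dd_lower]
  have hde : dd (P.psi (tU (1 : AdjoinRoot f))) = X := by
    rw [← map_one (AdjoinRoot.mk f), P.dd_upper]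
    simp
  have hZ0 : Z ≠ 0 := fun h => P.rootY.ne (by
    rw [← hxt.2, mul_comm Polynomial.X t, pev_mul', ← mul_assoc, ← hZ, h, zero_mul])
  have hZsq : Z * Z = 0 := by
    rw [hZ, mul_assoc, ← mul_assoc (pev X Y t) Y, pev_mul P.rootY.sq]
    simp [← mul_assoc, P.rootY.sq]
  have hZker : ker Y ≤ ker Z := by
    intro m hm
    show Y (pev X Y t m) = 0
    clear ht hxt hZ hdb hde hZ0 hZsq
    induction t using Polynomial.induction_on' with
    | add a b ha hb => rw [map_add, LinearMap.add_apply, map_add, ha, hb, add_zero]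
    | monomial j c =>
      rw [pev, aeval_monomial, Module.End.mul_apply, Module.algebraMap_end_apply, map_smul]
      rcases j with - | j
      · rw [pow_zero, Module.End.one_apply, show Y m = 0 from hm, smul_zero]
      · rw [pow_succ, Module.End.mul_apply, Module.End.mul_apply X Y m, show Y m = 0 from hm, map_zero, map_zero,
          map_zero, smul_zero]
  have hZF : Fam G Z := by
    intro c
    refine ⟨P.psi (tL (AdjoinRoot.root f * AdjoinRoot.mk f (C c * t))), P.psi_mem h2 h3 _, ?_⟩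
    rw [P.dd_lower, ← smul_eq_C_mul, pev, map_smul, mul_smul_comm]
  have hZsp : Z ∈ sp G Y := mem_sp P.rootY.sq hZF (range_mul_le _ _) hZker
  refine ⟨P.psi (tU 1), hmem _, P.psi (tL 1), hmem _, P.psi_mem h2 h3 _, P.psi_mem h2 h3 _, hde, hdb ▸ hZsp,
    hdb ▸ hZ0, ?_, ?_, ?_, ?_⟩
  · rw [← map_inv, ← map_mul, ← map_mul, hdb]
    rw [show conjE (P.psi (tU 1 * (tL 1)⁻¹ * tU 1)) X = conjE (P.psi (tU 1 * (tL 1)⁻¹ * tU 1)) (dd (P.psi (tU 1)))
      from congrArg _ hde.symm, ← dd_conjE, ← map_inv, ← map_mul, ← map_mul,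
      show (tU 1 * (tL (1 : AdjoinRoot f))⁻¹ * tU 1) * tU 1 * (tU 1 * (tL 1)⁻¹ * tU 1)⁻¹ =
        tL (AdjoinRoot.root f * AdjoinRoot.mk f (-t)) by
        rw [map_neg, mul_neg, ht]
        apply ext_two <;>
          simp only [Cfsg.Lib.Linear.Dickson.mul_apply', (inv_apply00 _).1, (inv_apply00 _).2.1, (inv_apply00 _).2.2.1,
            (inv_apply00 _).2.2.2] <;> simp [tU_coe, tL_coe],
      P.dd_lower, map_neg, mul_neg]
  · rw [← map_inv, ← map_inv, ← map_mul, ← map_mul, ← map_mul, ← map_mul]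
    refine congrArg P.psi ?_
    apply ext_two <;>
      simp only [Cfsg.Lib.Linear.Dickson.mul_apply', (inv_apply00 _).1, (inv_apply00 _).2.1, (inv_apply00 _).2.2.1,
        (inv_apply00 _).2.2.2] <;> simp [tU_coe, tL_coe] <;> ring
  · rw [hdb, hZ, ← mul_assoc X, ← show pev X Y Polynomial.X = X * Y from aeval_X _, ← pev_mul', hxt.1]
  · rw [hdb, hZ]
    calc Y * pev X Y t * X * (Y * pev X Y t) = Y * (pev X Y t * (X * Y) * pev X Y t) := by simp only [mul_assoc]
      _ = Y * pev X Y (Polynomial.X * t) * pev X Y t := by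
        rw [← show pev X Y Polynomial.X = X * Y from aeval_X _, ← pev_mul', ← pev_mul', mul_assoc Y, ← pev_mul']
        congr 2
        ring
      _ = _ := by rw [hxt.2]

/-- The involution. -/
theorem GoodPair.exists_involution (P : GoodPair G X Y f) (h2 : ringChar k ≠ 2) (h3 : Nat.card k ≠ 3) :
    ∃ i ∈ twoFam X Y, (∀ m ∈ range X, (i : Module.End k M) m = -m) ∧ (∀ m ∈ range Y, (i : Module.End k M) m = -m) ∧
      ∀ m, X m = 0 → Y m = 0 → (i : Module.End k M) m = m := by
  obtain ⟨t, ht⟩ := P.exists_inv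
  set h : SL(2, AdjoinRoot f) := ⟨!![-1, 0; 0, -1], by simp [Matrix.det_fin_two]⟩ with hh
  set p := C (-2 : k) * t with hp
  have hmk : AdjoinRoot.root f * AdjoinRoot.mk f p = algebraMap k (AdjoinRoot f) (-2) := by
    rw [hp, map_mul, AdjoinRoot.mk_C, mul_left_comm, ht, mul_one, AdjoinRoot.algebraMap_eq]
  have hdd : dd (P.psi h) = quad X Y p 0 0 p := by
    have e : (-1 : AdjoinRoot f) = 1 + algebraMap k (AdjoinRoot f) (-2) := by rw [map_neg, map_ofNat]; ring
    refine P.dd_psi_eq ?_ ?_ ?_ ?_ <;> simp [hh, hmk, e]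
  have hxp := P.pev_eq_of_mk (p := Polynomial.X * p) (c := -2) (by rw [map_mul, AdjoinRoot.mk_X, hmk])
  have hpq : quad X Y p 0 0 p * X = (-2 : k) • X := by
    rw [quad, ← hxp.1, mul_comm Polynomial.X p, pev_mul' p Polynomial.X, show pev X Y Polynomial.X = X * Y from aeval_X _]
    simp only [add_mul, mul_assoc, P.rootX.sq, map_zero, mul_zero, zero_mul, add_zero]
  have hpY : quad X Y p 0 0 p * Y = (-2 : k) • Y := by
    rw [quad, ← hxp.2, mul_comm Polynomial.X p, pev_mul' p Polynomial.X, show pev X Y Polynomial.X = X * Y from aeval_X _]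
    simp only [add_mul, mul_assoc, P.rootY.sq, map_zero, mul_zero, zero_mul, add_zero, zero_add]
  refine ⟨P.psi h, (P.range_psi h2 h3).le ⟨h, rfl⟩, ?_, ?_, fun m hx hy => P.psi_fix h hx hy⟩
  · rintro _ ⟨u, rfl⟩
    have := LinearMap.congr_fun hpq u
    rw [coe_eq, LinearMap.add_apply, hdd, Module.End.one_apply]
    rw [Module.End.mul_apply] at this
    rw [this, LinearMap.smul_apply]
    module
  · rintro _ ⟨u, rfl⟩
    have := LinearMap.congr_fun hpY u
    rw [coe_eq, LinearMap.add_apply, hdd, Module.End.one_apply]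
    rw [Module.End.mul_apply] at this
    rw [this, LinearMap.smul_apply]
    module

end Cfsg.Agent.Lib.QPair
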