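import Cfsg.Agent.Lib.QPair.Components

/-!
# Quadratic elements either centralise the root groups or lose rank after division by root elements
-/

set_option autoImplicit false

namespace Cfsg.Agent.Lib.QPair

open Cfsg LinearMap
open scoped MatrixGroups commutatorElement

variable {k : Type*} [Field k] {M : Type*} [AddCommGroup M] [Module k M] [FiniteDimensional k M]
  {G : Subgroup (GeneralLinearGroup k M)} {X Y R Z W : Module.End k M}

/-- A square zero map whose scalar family lies in `G`. -/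
def IsQuad (G : Subgroup (GeneralLinearGroup k M)) (Z : Module.End k M) : Prop := Z * Z = 0 ∧ Fam G Z

theorem conjE_sq_zero {g : GeneralLinearGroup k M} (hg : dd g * dd g = 0) (A : Module.End k M) :
    conjE g A = (1 + dd g) * A * (1 - dd g) := by
  rw [conjE, inv_coe hg, coe_eq g]

/-- The conjugate of a root by a member of a scalar family. -/
theorem IsRoot.conj_quad (hX : IsRoot G X) (hZ : IsQuad G Z) (c : k) :
    IsRoot G ((1 + c • Z) * X * (1 - c • Z)) := by
  obtain ⟨g, hg, e⟩ := hZ.2 c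
  have := hX.conj hg
  rwa [conjE_sq_zero (by rw [e, smul_mul_assoc, mul_smul_comm, hZ.1, smul_zero, smul_zero]), e] at this

/-- `p(XW)X` lies in the family for two roots. -/
theorem fam_pev_roots (hk2 : ringChar k ≠ 2) (hk3 : Nat.card k ≠ 3) (hX : IsRoot G X) (hW : IsRoot G W)
    (p : Polynomial k) : Fam G (pev X W p * X) := by
  by_cases hN : IsNilpotent (X * W)
  · have h := (nilpotent_pair (Ring.two_ne_zero hk2) hX hW hN).1
    induction p using Polynomial.induction_on' with
    | add a b ha hb =>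
      rw [pev_add', add_mul]
      exact ha.add hb (pev_X_sq hX a b)
    | monomial n c =>
      rw [pev, Polynomial.aeval_monomial, ← Algebra.smul_def, smul_mul_assoc]
      refine Fam.smul ?_ c
      rcases n with - | n
      · rw [pow_zero, one_mul]; exact hX.fam
      · rw [pow_succ, mul_assoc, h, mul_zero]; exact Fam.zero
  · obtain ⟨f, P⟩ := exists_good hk2 hk3 hX hW hN
    exact P.fam p

/-- A root map not killed from both sides by `Z` gives one that is inverse to `Z`. -/
theorem exact_root (hk2 : ringChar k ≠ 2) (hk3 : Nat.card k ≠ 3) (hR : IsRoot G R) (hZ : IsQuad G Z)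
    (hne : R * Z * R ≠ 0) : ∃ R', IsRoot G R' ∧ R' * Z * R' = R' := by
  have two : (2 : k) ≠ 0 := Ring.two_ne_zero hk2
  set W := (1 + Z) * R * (1 - Z) with hWdef
  have hW : IsRoot G W := by simpa [hWdef] using hR.conj_quad hZ 1
  have hR2 : ∀ A, R * (R * A) = 0 := fun A => by rw [← mul_assoc, hR.sq, zero_mul]
  have hZ2 : ∀ A, Z * (Z * A) = 0 := fun A => by rw [← mul_assoc, hZ.1, zero_mul]
  by_cases hN : IsNilpotent (R * W)
  · exfalso
    obtain ⟨n1, n2⟩ := nilpotent_pair two hR hW hN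
    have h5 : R * (Z * (R * (Z * R))) = 0 := by
      have := n1
      simp only [hWdef, mul_add, add_mul, mul_sub, sub_mul, one_mul, mul_one, mul_assoc, hR.sq, hR2, mul_zero,
        zero_add, zero_sub, sub_zero, neg_eq_zero] at this
      exact this
    have h5r : ∀ A, R * (Z * (R * (Z * (R * A)))) = 0 := fun A => by
      rw [show R * (Z * (R * (Z * (R * A)))) = (R * (Z * (R * (Z * R)))) * A by simp only [mul_assoc], h5, zero_mul]
    set W' := (1 - Z) * R * (1 + Z) with hW'def
    have hW' : IsRoot G W' := by simpa [hW'def, sub_eq_add_neg] using hR.conj_quad hZ (-1)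
    have hN' : IsNilpotent (R * W') := by
      refine ⟨2, ?_⟩
      simp only [pow_two, hW'def, mul_add, add_mul, mul_sub, sub_mul, one_mul, mul_one, mul_assoc, hR.sq, hR2, hZ2,
        h5, h5r, mul_zero, zero_mul, zero_add, zero_sub, sub_zero, add_zero, neg_zero, neg_mul, mul_neg, neg_neg]
    obtain ⟨m1, m2⟩ := nilpotent_pair two hR hW' hN'
    have hF := (commutator_fam hR hW n1 n2).1
    have hF' := (commutator_fam hR hW' m1 m2).1.neg
    have hsum : Fam G (R * Z * R) := by
      refine Fam.of_two (Fam.of_two ?_ two) two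
      have h0 : (R * W - W * R) * -(R * W' - W' * R) = 0 := by
        simp only [hWdef, hW'def, mul_add, add_mul, mul_sub, sub_mul, one_mul, mul_one, mul_assoc, hR.sq, hR2,
          hZ2, h5, h5r, mul_zero, zero_mul, mul_neg, neg_mul, neg_zero, zero_add, zero_sub, sub_zero, add_zero,
          neg_neg, sub_self]
      convert hF.add hF' h0 using 1
      simp only [hWdef, hW'def, mul_add, add_mul, mul_sub, sub_mul, one_mul, mul_one, mul_assoc, hR.sq, hR2,
        mul_zero, zero_mul, zero_add, zero_sub, sub_zero, add_zero]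
      abel
    have hsq : R * Z * R * (R * Z * R) = 0 := by simp only [mul_assoc, hR2, mul_zero]
    have hr : range (R * Z * R) ≤ range R := by rw [mul_assoc]; exact range_mul_le _ _
    have heq : range (R * Z * R) = range R :=
      Submodule.eq_of_le_of_finrank_le hr (hR.min _ hne hsq hsum)
    refine hne (LinearMap.ext fun m => ?_)
    obtain ⟨u, hu⟩ : R m ∈ range (R * Z * R) := heq ▸ LinearMap.mem_range_self R m
    show R (Z (R m)) = 0
    rw [← hu]
    exact LinearMap.congr_fun h5 u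
  obtain ⟨f, P⟩ := exists_good hk2 hk3 hR hW hN
  obtain ⟨a, b, hab⟩ : IsCoprime (Polynomial.X ^ 2) f := by
    refine IsCoprime.pow_left ?_
    exact ((Polynomial.irreducible_X.coprime_iff_not_dvd).mpr fun h => P.notX h)
  have hRW : ∀ p : Polynomial k, pev R W p * R = pev R Z (p.comp (-Polynomial.X ^ 2)) * R := by
    intro p
    induction p using Polynomial.induction_on' with
    | add a b ha hb => rw [pev_add', add_mul, ha, hb, Polynomial.add_comp, pev_add', add_mul]
    | monomial n c =>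
      rw [← Polynomial.C_mul_X_pow_eq_monomial, Polynomial.mul_comp, Polynomial.C_comp, Polynomial.pow_comp,
        Polynomial.X_comp, pev_mul', pev_mul', mul_assoc, mul_assoc]
      congr 1
      · simp [pev]
      induction n with
      | zero => simp [pev]
      | succ n ih =>
        rw [pow_succ', pev_mul', mul_assoc, ih, pow_succ' (-Polynomial.X ^ 2)]
        have key : ∀ q : Polynomial k, R * W * (pev R Z q * R) = pev R Z (-Polynomial.X ^ 2 * q) * R := by
          intro q
          rw [pev_mul', show pev R Z (-Polynomial.X ^ 2) = -(R * Z * (R * Z)) by simp [pev, pow_two]]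
          have hz : R * (pev R Z q * R) = 0 := by rw [← mul_assoc, mul_pev hR.sq, smul_mul_assoc, hR.sq, smul_zero]
          simp only [hWdef, mul_add, add_mul, mul_sub, sub_mul, one_mul, mul_one, mul_assoc, hR.sq, hR2, hz,
            mul_zero, zero_mul, zero_add, zero_sub, sub_zero, neg_mul]
        rw [show pev R W Polynomial.X = R * W from Polynomial.aeval_X _, key]
  set t := a.comp (-Polynomial.X ^ 2) with ht
  have hinv : pev R Z (Polynomial.X ^ 4 * t) * R = R := by
    have h1 : pev R W (a * Polynomial.X ^ 2) * R = R := by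
      have h2 : pev R W (b * f) * R = 0 := (P.iff_dvd _).mpr (dvd_mul_left _ _)
      calc pev R W (a * Polynomial.X ^ 2) * R = pev R W (a * Polynomial.X ^ 2 + b * f) * R := by
            rw [pev_add', add_mul, h2, add_zero]
        _ = R := by rw [hab]; simp [pev]
    rw [hRW] at h1
    convert h1 using 3
    rw [Polynomial.mul_comp, ht, Polynomial.pow_comp, Polynomial.X_comp]
    ring
  have hS : ∀ p : Polynomial k, Fam G (pev R Z (p.comp (-Polynomial.X ^ 2)) * R) := fun p => hRW p ▸ P.fam p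
  obtain ⟨eT, heT, eeT⟩ := (hS a).exists_mem
  obtain ⟨eZ, heZ, eeZ⟩ := hZ.2.exists_mem
  rw [← ht] at eeT
  have hT2 : dd eT * dd eT = 0 := by rw [eeT]; exact pev_X_sq hR t t
  have hZd : dd eZ * dd eZ = 0 := by rw [eeZ, hZ.1]
  set g := eZ * eT * eZ with hg
  set X' := conjE g R with hX'def
  have hX' : IsRoot G X' := hR.conj (mul_mem (mul_mem heZ heT) heZ)
  set r := 2 * Polynomial.X + Polynomial.X ^ 2 * t with hr
  have hRA : ∀ A, R * (pev R Z t * (R * A)) = 0 := fun A => by
    rw [← mul_assoc, mul_pev hR.sq, smul_mul_assoc, ← mul_assoc, hR.sq, zero_mul, smul_zero]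
  have hc : ∀ A, pev R Z t * (R * (Z * A)) = R * (Z * (pev R Z t * A)) := fun A => by
    rw [← mul_assoc R Z A, ← mul_assoc R Z (pev R Z t * A), ← mul_assoc, ← mul_assoc (R * Z),
      show R * Z = pev R Z Polynomial.X from (Polynomial.aeval_X _).symm, pev_comm]
  have hAR : R * (pev R Z t * R) = 0 := by rw [← mul_assoc, mul_pev hR.sq, smul_mul_assoc, hR.sq, smul_zero]
  have hRXR : R * X' * R = -(pev R Z (r ^ 2) * R) := by
    have hX : pev R Z Polynomial.X = R * Z := Polynomial.aeval_X _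
    have e1 : R * (g : Module.End k M) * R = pev R Z r * R := by
      rw [hg, Units.val_mul, Units.val_mul, coe_eq eZ, coe_eq eT, eeZ, eeT, hr, two_mul, pow_two, pev_add',
        pev_add', pev_mul', pev_mul', hX]
      simp only [mul_add, add_mul, one_mul, mul_one, mul_assoc, hR.sq, hR2, hZ2, hc, hRA, hAR, mul_zero, zero_add, add_zero]
      abel
    have e2 : R * ((g⁻¹ : GeneralLinearGroup k M) : Module.End k M) * R = -(pev R Z r * R) := by
      rw [hg, _root_.mul_inv_rev, _root_.mul_inv_rev, Units.val_mul, Units.val_mul, inv_coe hZd, inv_coe hT2, eeZ,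
        eeT, hr, two_mul, pow_two, pev_add', pev_add', pev_mul', pev_mul', hX]
      simp only [mul_add, add_mul, mul_sub, sub_mul, one_mul, mul_one, mul_assoc, hR.sq, hR2, hZ2, hc, hRA, hAR, mul_zero,
        zero_add, add_zero, zero_sub, sub_zero, neg_add_rev, neg_neg, neg_zero, mul_neg, neg_mul]
      abel
    have e3 : R * X' * R = pev R Z r * (R * ((g⁻¹ : GeneralLinearGroup k M) : Module.End k M) * R) := by
      rw [hX'def, conjE, ← mul_assoc (pev R Z r), ← mul_assoc (pev R Z r), ← e1]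
      simp only [mul_assoc]
    rw [e3, e2, mul_neg, ← mul_assoc, ← pev_mul', pow_two]
  have hr2 : Fam G (pev R Z (r ^ 2) * R) := by
    have h1 := (fam_pev_roots hk2 hk3 hR hX' Polynomial.X).neg
    rw [show pev R X' Polynomial.X = R * X' from Polynomial.aeval_X _, hRXR, neg_neg] at h1
    exact h1
  have hx3 : Fam G (pev R Z (Polynomial.X ^ 3 * t) * R) := by
    refine Fam.of_two (Fam.of_two ?_ two) two
    have h1 := hS (-(4 * Polynomial.X) + Polynomial.X ^ 2 * a ^ 2)
    have e4 : (-(4 * Polynomial.X) + Polynomial.X ^ 2 * a ^ 2).comp (-Polynomial.X ^ 2) =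
        4 * Polynomial.X ^ 2 + Polynomial.X ^ 4 * t ^ 2 := by
      simp only [Polynomial.add_comp, Polynomial.neg_comp, Polynomial.mul_comp, Polynomial.pow_comp, Polynomial.X_comp,
        Polynomial.ofNat_comp, ← ht]
      ring
    rw [e4] at h1
    convert hr2.add h1.neg (by rw [mul_neg, pev_X_sq hR, neg_zero]) using 1
    rw [← neg_mul, ← map_neg, ← add_mul, ← add_mul, ← add_mul, ← pev_add', ← pev_add', ← pev_add']
    congr 2
    rw [hr]; ring
  refine ⟨pev R Z (Polynomial.X ^ 3 * t) * R, ?_, ?_⟩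
  · refine (sp_root hR (mem_sp hR.sq hx3 (range_pev_le _) fun m hm => ?_) fun h => hR.ne ?_).1
    · show pev R Z _ (R m) = 0
      rw [show R m = 0 from hm, map_zero]
    · rw [← hinv, show Polynomial.X ^ 4 * t = Polynomial.X * (Polynomial.X ^ 3 * t) by ring, pev_mul', mul_assoc, h,
        mul_zero]
  · have hX : pev R Z Polynomial.X = R * Z := Polynomial.aeval_X _
    calc pev R Z (Polynomial.X ^ 3 * t) * R * Z * (pev R Z (Polynomial.X ^ 3 * t) * R)
        = pev R Z (Polynomial.X ^ 3 * t * (Polynomial.X * (Polynomial.X ^ 3 * t))) * R := by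
          rw [pev_mul' (Polynomial.X ^ 3 * t) (Polynomial.X * _), pev_mul' Polynomial.X, hX]
          simp only [mul_assoc]
      _ = _ := by
          rw [pev_mul' (Polynomial.X ^ 3 * t), show Polynomial.X * (Polynomial.X ^ 3 * t) = Polynomial.X ^ 4 * t by ring,
            mul_assoc, hinv]

/-- An inverse root splits off a root map below `Z`. -/
theorem split_below (hR : IsRoot G R) (hZ : IsQuad G Z) (hRZR : R * Z * R = R) :
    IsRoot G (Z * R * Z) ∧ R * (Z * R * Z) * R = R ∧ IsQuad G (Z - Z * R * Z) ∧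
      (Z * R * Z) * (Z - Z * R * Z) = 0 ∧
      Module.finrank k (range (Z - Z * R * Z)) < Module.finrank k (range Z) := by
  have hR2 : ∀ A, R * (R * A) = 0 := fun A => by rw [← mul_assoc, hR.sq, zero_mul]
  have hZ2 : ∀ A, Z * (Z * A) = 0 := fun A => by rw [← mul_assoc, hZ.1, zero_mul]
  have hq : R * (Z * R) = R := by rw [← mul_assoc, hRZR]
  have hqr : ∀ A, R * (Z * (R * A)) = R * A := fun A => by
    rw [← mul_assoc, ← mul_assoc, hRZR]
  obtain ⟨e, he, ee⟩ := hR.fam.exists_mem
  have he2 : dd e⁻¹ * dd e⁻¹ = 0 := by rw [dd_inv (by rw [ee, hR.sq]), ee, neg_mul_neg, hR.sq]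
  have hW : IsRoot G ((1 + Z) * R * (1 - Z)) := by simpa using hR.conj_quad hZ 1
  have hY' := hW.conj (inv_mem he)
  have hYe : conjE e⁻¹ ((1 + Z) * R * (1 - Z)) = -(Z * R * Z) := by
    rw [conjE_sq_zero he2, dd_inv (by rw [ee, hR.sq]), ee, sub_neg_eq_add]
    simp only [mul_add, add_mul, mul_sub, sub_mul, one_mul, mul_one, mul_assoc, hR.sq, hR2, hZ.1, hZ2, hq, hqr,
      mul_zero, neg_mul, mul_neg, neg_add_rev, neg_neg, neg_zero, add_zero, zero_add, sub_zero, zero_sub]
    abel
  rw [hYe] at hY'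
  have hY : IsRoot G (Z * R * Z) := by simpa using hY'.smul (neg_ne_zero.mpr (one_ne_zero (α := k)))
  have z1 : Z * (Z * R * Z) = 0 := by simp only [mul_assoc, hZ2]
  have z2 : Z * R * Z * Z = 0 := by simp only [mul_assoc, hZ.1, mul_zero]
  refine ⟨hY, by simp only [mul_assoc, hq], ⟨?_, ?_⟩, by rw [mul_sub, z2, hY.sq, sub_zero], ?_⟩
  · rw [sub_mul, mul_sub, mul_sub, hZ.1, z1, z2, hY.sq]; simp
  · rw [sub_eq_add_neg]; exact hZ.2.add hY.fam.neg (by rw [mul_neg, z1, neg_zero])
  · obtain ⟨u, hu⟩ : ∃ u, R u ≠ 0 := by by_contra h; push Not at h; exact hR.ne (LinearMap.ext h)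
    have hlt : ker Z < ker (Z - Z * R * Z) := by
      refine lt_of_le_of_ne (fun m hm => ?_) fun e => ?_
      · show Z m - Z (R (Z m)) = 0
        rw [show Z m = 0 from hm, map_zero, map_zero, sub_zero]
      · have h1 : R u ∈ ker (Z - Z * R * Z) := by
          show Z (R u) - Z (R (Z (R u))) = 0
          rw [show R (Z (R u)) = R u from LinearMap.congr_fun hRZR u, sub_self]
        rw [← e] at h1
        refine hu ?_
        rw [show R u = R (Z (R u)) from (LinearMap.congr_fun hRZR u).symm, show Z (R u) = 0 from h1, map_zero]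
    have e1 := LinearMap.finrank_range_add_finrank_ker Z
    have e2 := LinearMap.finrank_range_add_finrank_ker (Z - Z * R * Z)
    have := Submodule.finrank_lt_finrank_of_lt hlt
    omega

/-- `Z X Z` and `Z X - X Z` lie in the family when `X Z X = 0`. -/
theorem fam_of_left_kill (hk2 : ringChar k ≠ 2) (hX : IsRoot G X) (hZ : IsQuad G Z) (h : X * Z * X = 0) :
    Fam G (Z * X * Z) ∧ Fam G (Z * X - X * Z - Z * X * Z) := by
  have two : (2 : k) ≠ 0 := Ring.two_ne_zero hk2
  have hX2 : ∀ A, X * (X * A) = 0 := fun A => by rw [← mul_assoc, hX.sq, zero_mul]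
  have hZ2 : ∀ A, Z * (Z * A) = 0 := fun A => by rw [← mul_assoc, hZ.1, zero_mul]
  have g1 : X * (Z * X) = 0 := by rw [← mul_assoc, h]
  have g1r : ∀ A, X * (Z * (X * A)) = 0 := fun A => by rw [← mul_assoc, ← mul_assoc, h, zero_mul]
  have h1 : Fam G (Z * X - X * Z - Z * X * Z) := by
    have hW : IsRoot G ((1 + Z) * X * (1 - Z)) := by simpa using hX.conj_quad hZ 1
    convert hW.fam.add hX.fam.neg (by
      simp only [mul_add, add_mul, mul_sub, sub_mul, one_mul, mul_one, mul_assoc, hX.sq, hX2, g1, g1r, mul_neg,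
        mul_zero, sub_zero, add_zero, neg_zero]) using 1
    simp only [mul_add, add_mul, mul_sub, sub_mul, one_mul, mul_one, mul_assoc]
    abel
  have h2 : Fam G (-(Z * X - X * Z) - Z * X * Z) := by
    have hW : IsRoot G ((1 - Z) * X * (1 + Z)) := by simpa [sub_eq_add_neg] using hX.conj_quad hZ (-1)
    convert hW.fam.add hX.fam.neg (by
      simp only [mul_add, add_mul, mul_sub, sub_mul, one_mul, mul_one, mul_assoc, hX.sq, hX2, g1, g1r, mul_neg,
        mul_zero, sub_zero, add_zero, neg_zero]) using 1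
    simp only [mul_add, add_mul, mul_sub, sub_mul, one_mul, mul_one, mul_assoc]
    abel
  refine ⟨?_, h1⟩
  have h3 := (h1.add h2 (by
    simp only [mul_add, add_mul, mul_sub, sub_mul, neg_sub, mul_assoc, hX.sq, hX2, hZ.1, hZ2, g1, g1r, mul_zero,
      sub_zero, add_zero, neg_zero, zero_sub, sub_self])).neg
  refine Fam.of_two ?_ two
  convert h3 using 1
  abel

/-- The group of a scalar family. -/
def famGrp (D : Module.End k M) : Subgroup (GeneralLinearGroup k M) := Subgroup.closure {e | ∃ c : k, dd e = c • D}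

theorem conjBy_famGrp (D : Module.End k M) (g : GeneralLinearGroup k M) :
    conjBy (famGrp D) g = famGrp (conjE g D) := by
  refine (MonoidHom.map_closure (MulAut.conj g).toMonoidHom _).trans (congrArg Subgroup.closure (Set.ext fun e => ?_))
  constructor
  · rintro ⟨e, ⟨c, hc⟩, rfl⟩
    refine ⟨c, ?_⟩
    show dd (g * e * g⁻¹) = _
    rw [dd_conjE, hc, conjE_smul]
  · rintro ⟨c, hc⟩
    refine ⟨g⁻¹ * e * g, ⟨c, ?_⟩, by simp [mul_assoc]⟩
    have := dd_conjE g⁻¹ e
    rw [inv_inv] at this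
    rw [this, hc, conjE_smul, conjE_conjE, inv_mul_cancel, conjE_one]

/-- A map killed from both sides by all roots centralises them. -/
theorem centralize_of_kill (hk2 : ringChar k ≠ 2) (hG : IsQuadraticPair G) (hZ : IsQuad G Z)
    (h : ∀ X, IsRoot G X → X * Z * X = 0 ∧ Z * X * Z = 0) : ∀ X, IsRoot G X → Z * X = X * Z := by
  classical
  have two : (2 : k) ≠ 0 := Ring.two_ne_zero hk2
  let 𝒟 : Set (Module.End k M) := {D | ∃ Z' X', IsQuad G Z' ∧ (∀ U, IsRoot G U → U * Z' * U = 0 ∧ Z' * U * Z' = 0) ∧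
    IsRoot G X' ∧ D = Z' * X' - X' * Z'}
  let S : Submodule k (Module.End k M) := Submodule.span k {U | IsRoot G U}
  have hD : ∀ D ∈ 𝒟, D * D = 0 ∧ Fam G D ∧ D ∈ S ∧ ∀ V ∈ S, D * V * D = 0 := by
    rintro D ⟨Z', X', hZ', hk, hX', rfl⟩
    obtain ⟨a1, a2⟩ := hk X' hX'
    have hZ2 : ∀ A, Z' * (Z' * A) = 0 := fun A => by rw [← mul_assoc, hZ'.1, zero_mul]
    have hX2 : ∀ A, X' * (X' * A) = 0 := fun A => by rw [← mul_assoc, hX'.sq, zero_mul]
    have b1 : X' * (Z' * X') = 0 := by rw [← mul_assoc, a1]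
    have b2 : Z' * (X' * Z') = 0 := by rw [← mul_assoc, a2]
    have b1r : ∀ A, X' * (Z' * (X' * A)) = 0 := fun A => by rw [← mul_assoc, ← mul_assoc, a1, zero_mul]
    have b2r : ∀ A, Z' * (X' * (Z' * A)) = 0 := fun A => by rw [← mul_assoc, ← mul_assoc, a2, zero_mul]
    refine ⟨?_, ?_, ?_, ?_⟩
    · simp only [mul_sub, sub_mul, mul_assoc, hZ'.1, hZ2, hX'.sq, hX2, b1, b2, b1r, b2r, mul_zero, sub_zero]
    · have := (fam_of_left_kill hk2 hX' hZ' a1).2
      rwa [a2, sub_zero] at this
    · have e : Z' * X' - X' * Z' = (1 + (1 : k) • Z') * X' * (1 - (1 : k) • Z') - X' := by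
        simp only [one_smul, mul_add, add_mul, mul_sub, sub_mul, one_mul, mul_one, mul_assoc, b2]
        abel
      rw [e]
      exact sub_mem (Submodule.subset_span (hX'.conj_quad hZ' 1)) (Submodule.subset_span hX')
    · intro V hV
      induction hV using Submodule.span_induction with
      | zero => simp
      | add u v _ _ hu hv => rw [mul_add, add_mul, hu, hv, add_zero]
      | smul c u _ hu => rw [mul_smul_comm, smul_mul_assoc, hu, smul_zero]
      | mem U hU =>
        have p1 := (hk _ (hU.conj_quad (Z := X') ⟨hX'.sq, hX'.fam⟩ 1)).2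
        have p2 := (hk _ (hU.conj_quad (Z := X') ⟨hX'.sq, hX'.fam⟩ (-1))).2
        obtain ⟨-, c0⟩ := hk U hU
        have c0' : Z' * (U * Z') = 0 := by rw [← mul_assoc, c0]
        have c0r : ∀ A, Z' * (U * (Z' * A)) = 0 := fun A => by rw [← mul_assoc, ← mul_assoc, c0, zero_mul]
        simp only [one_smul, neg_smul, sub_neg_eq_add, mul_add, add_mul, mul_sub, sub_mul, one_mul, mul_one,
          mul_assoc, c0', zero_add, mul_neg, neg_mul, neg_neg, add_zero, zero_sub] at p1 p2
        have s1 : (2 : k) • (Z' * (X' * (U * (X' * Z')))) = 0 := by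
          have e := congrArg₂ (· + ·) p1 p2
          simp only [add_zero] at e
          rw [two_smul, ← neg_eq_zero, ← e]
          abel
        have s1' : Z' * (X' * (U * (X' * Z'))) = 0 := (smul_eq_zero.mp s1).resolve_left two
        have s2 : Z' * (X' * (U * Z')) = Z' * (U * (X' * Z')) := by
          simp only [s1', sub_zero, neg_zero, add_zero] at p1
          exact sub_eq_zero.mp p1
        have s2r : ∀ A, Z' * (X' * (U * (Z' * A))) = Z' * (U * (X' * (Z' * A))) := fun A => by
          have := congrArg (· * A) s2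
          simpa only [mul_assoc] using this
        calc (Z' * X' - X' * Z') * U * (Z' * X' - X' * Z')
            = Z' * (X' * (U * (Z' * X'))) - Z' * (X' * (U * (X' * Z'))) - X' * (Z' * (U * (Z' * X'))) +
              X' * (Z' * (U * (X' * Z'))) := by noncomm_ring
          _ = 0 := by
            rw [s1', c0r, s2r, b1, mul_zero, mul_zero, ← s2, b1r]
            try simp
  let Wf : Set (Subgroup (GeneralLinearGroup k M)) := famGrp '' 𝒟
  have hGle : ∀ A ∈ Wf, A ≤ G := by
    rintro _ ⟨D, hDm, rfl⟩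
    refine (Subgroup.closure_le _).mpr ?_
    rintro e ⟨c, hc⟩
    obtain ⟨g, hg, eg⟩ := (hD D hDm).2.1 c
    rwa [dd_injective (hc.trans eg.symm)]
  have hconj : ∀ A ∈ Wf, ∀ g ∈ G, conjBy A g ∈ Wf := by
    rintro _ ⟨D, ⟨Z', X', hZ', hk, hX', rfl⟩, rfl⟩ g hg
    refine ⟨conjE g (Z' * X' - X' * Z'), ⟨conjE g Z', conjE g X',
      ⟨by rw [conjE_mul, hZ'.1, conjE_eq_zero], hZ'.2.conj hg⟩, fun U hU => ?_, hX'.conj hg, ?_⟩, ?_⟩
    · obtain ⟨k1, k2⟩ := hk _ (hU.conj (inv_mem hg))
      have e : U = conjE g (conjE g⁻¹ U) := by rw [conjE_conjE, mul_inv_cancel, conjE_one]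
      rw [e, conjE_mul, conjE_mul, conjE_mul, conjE_mul, k1, k2]
      exact ⟨conjE_eq_zero.mpr rfl, conjE_eq_zero.mpr rfl⟩
    · rw [conjE_mul, conjE_mul]; simp [conjE, mul_sub, sub_mul]
    · exact (conjBy_famGrp _ _).symm
  have hpair : ∀ A ∈ Wf, ∀ B ∈ Wf, IsUnipotentOn (A ⊔ B) := by
    rintro _ ⟨D, hDm, rfl⟩ _ ⟨D', hDm', rfl⟩
    obtain ⟨d1, d2, d3, d4⟩ := hD D hDm
    obtain ⟨e1, e2, e3, e4⟩ := hD D' hDm'
    rw [famGrp, famGrp, ← Subgroup.closure_union]
    refine unipotent_of_cube ?_ (L := Submodule.span k {D, D'}) ?_ ?_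
    · have hinv : ∀ (E : Module.End k M), E * E = 0 → ∀ e : GeneralLinearGroup k M, (∃ c : k, dd e = c • E) →
          ∃ c : k, dd e⁻¹ = c • E := fun E hE e ⟨c, hc⟩ => ⟨-c, by
        rw [dd_inv (by rw [hc, smul_mul_assoc, mul_smul_comm, hE, smul_zero, smul_zero]), hc, neg_smul]⟩
      rintro e (he | he)
      · exact Or.inl (hinv D d1 e he)
      · exact Or.inr (hinv D' e1 e he)
    · rintro e (⟨c, hc⟩ | ⟨c, hc⟩) <;> rw [hc] <;>
        exact Submodule.smul_mem _ c (Submodule.subset_span (by simp))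
    · rw [Submodule.span_mul_span, Submodule.span_mul_span, Submodule.span_eq_bot]
      rintro _ ⟨_, ⟨a, ha, b, hb, rfl⟩, c, hc, rfl⟩
      simp only [Set.mem_insert_iff, Set.mem_singleton_iff] at ha hb hc
      show a * b * c = 0
      rcases ha with rfl | rfl <;> rcases hb with rfl | rfl <;> rcases hc with rfl | rfl <;>
        first
          | exact d4 _ e3
          | exact e4 _ d3
          | (rw [d1, zero_mul])
          | (rw [e1, zero_mul])
          | (rw [mul_assoc, d1, mul_zero])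
          | (rw [mul_assoc, e1, mul_zero])
  have hbot := unipotent_normal_bot hG (gen_unipotent hGle hpair hconj) fun g hg =>
    gen_conj_le fun A hA => hconj A hA g hg
  intro X hX
  have hm : Z * X - X * Z ∈ 𝒟 := ⟨Z, X, hZ, h, hX, rfl⟩
  obtain ⟨g, -, eg⟩ := (hD _ hm).2.1 1
  have : g ∈ gen Wf := le_gen (C := Wf) ⟨_, hm, rfl⟩ (Subgroup.subset_closure ⟨1, eg⟩)
  rw [hbot, Subgroup.mem_bot] at this
  rw [this, dd_one, one_smul] at eg
  exact sub_eq_zero.mp eg.symm

/-- A quadratic element not centralising the roots loses rank after division by elements of one class. -/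
theorem decompose (hk2 : ringChar k ≠ 2) (hk3 : Nat.card k ≠ 3) (hG : IsQuadraticPair G) {w : GeneralLinearGroup k M}
    (hw : w ∈ G) (hZ : IsQuad G (dd w)) (hne : ∃ X, IsRoot G X ∧ dd w * X ≠ X * dd w) :
    ∃ σ ∈ minimalQuadraticElements G, ∃ y ∈ gen (classOf G (sameActionSubgroup G σ)), ∃ w' ∈ G, w = y * w' ∧
      IsQuad G (dd w') ∧ Module.finrank k (range (dd w')) < Module.finrank k (range (dd w)) ∧ dd σ * dd w' = 0 := by
  have finish : ∀ (Z' R : Module.End k M), IsRoot G R → R * Z' * R = R → IsQuad G Z' →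
      ∃ σ ∈ minimalQuadraticElements G, ∃ w' ∈ G, dd σ + dd w' = Z' ∧ R * dd σ * R = R ∧ IsQuad G (dd w') ∧
        Module.finrank k (range (dd w')) < Module.finrank k (range Z') ∧ dd σ * dd w' = 0 := by
    intro Z' R hR he hZ'
    obtain ⟨hY, hRY, hq, h0, hlt⟩ := split_below hR hZ' he
    obtain ⟨σ, hσ, eσ⟩ := exists_minimal hY
    obtain ⟨w', hw', ew⟩ := hq.2.exists_mem
    exact ⟨σ, hσ, w', hw', by rw [eσ, ew]; abel, by rw [eσ, hRY], ew ▸ hq, ew ▸ hlt, by rw [eσ, ew, h0]⟩
  by_cases hA : ∃ R, IsRoot G R ∧ R * dd w * R ≠ 0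
  · obtain ⟨R₀, hR₀, h0⟩ := hA
    obtain ⟨R, hR, he⟩ := exact_root hk2 hk3 hR₀ hZ h0
    obtain ⟨σ, hσ, w', hw', esum, -, hq, hlt, hσw⟩ := finish _ R hR he hZ
    refine ⟨σ, hσ, σ, le_gen (C := classOf G _) ⟨⟨σ, hσ, rfl⟩, Rel.refl _⟩ (self_mem_group hσ), w', hw', ?_, hq, hlt,
      hσw⟩
    refine dd_injective ?_
    rw [dd_mul, hσw, add_zero, esum]
  push Not at hA
  obtain ⟨X, hX, hE0⟩ : ∃ X, IsRoot G X ∧ dd w * X * dd w ≠ 0 := by
    by_contra h
    push Not at h
    obtain ⟨X, hX, hne⟩ := hne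
    exact hne (centralize_of_kill hk2 hG hZ (fun U hU => ⟨hA U hU, h U hU⟩) X hX)
  set Z := dd w with hZdef
  set E := Z * X * Z with hEdef
  have hEf := (fam_of_left_kill hk2 hX hZ (hA X hX)).1
  have hZE : Z * E = 0 := by rw [hEdef, ← mul_assoc, ← mul_assoc, hZ.1, zero_mul, zero_mul]
  have hEZ : E * Z = 0 := by rw [hEdef, mul_assoc (Z * X), hZ.1, mul_zero]
  have hE2 : E * E = 0 := by
    nth_rewrite 1 [hEdef]
    rw [mul_assoc (Z * X), hZE, mul_zero]
  have hE : IsRoot G E := ⟨hE0, hE2, hEf, fun U a b c =>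
    ((rank_mul_le _ _).trans (rank_mul_le' Z X)).trans (hX.min U a b c)⟩
  obtain ⟨R, hR, -, hRER, -⟩ := exists_opposite hk2 hk3 hG hE
  have he : R * (Z + E) * R = R := by rw [mul_add, add_mul, hA R hR, hRER, zero_add]
  have hq' : IsQuad G (Z + E) := ⟨by rw [add_mul, mul_add, mul_add, hZ.1, hZE, hEZ, hE2]; simp, hZ.2.add hEf hZE⟩
  obtain ⟨σ, hσ, w', hw', esum, hRσ, hq, hlt, hσw⟩ := finish _ R hR he hq'
  obtain ⟨τ, hτ, eτ⟩ := exists_minimal hE
  obtain ⟨ρ, hρ, eρ⟩ := exists_minimal hR
  have hrel : Rel G (sameActionSubgroup G σ) (sameActionSubgroup G τ) := by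
    have nn : ∀ V, R * V * R = R → ¬ IsNilpotent (R * V) := by
      rintro V e ⟨j, hj⟩
      have e' : ∀ i : ℕ, (R * V) ^ i * R = R := by
        intro i
        induction i with
        | zero => rw [pow_zero, one_mul]
        | succ i ih => rw [pow_succ, mul_assoc, e, ih]
      exact hR.ne (by rw [← e' j, hj, zero_mul])
    have r1 := rel_of_linked hρ hσ (by
      rw [eρ]; exact linked_of_good hk2 hk3 hR (root_of_minimal hσ) (nn _ hRσ))
    have r2 := rel_of_linked hρ hτ (by
      rw [eρ]; exact linked_of_good hk2 hk3 hR (root_of_minimal hτ) (nn _ (eτ.symm ▸ hRER)))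
    exact r1.symm.trans r2
  refine ⟨σ, hσ, τ⁻¹ * σ, mul_mem (inv_mem (le_gen (C := classOf G _) ⟨⟨τ, hτ, rfl⟩, hrel⟩ (self_mem_group hτ)))
    (le_gen (C := classOf G _) ⟨⟨σ, hσ, rfl⟩, Rel.refl _⟩ (self_mem_group hσ)), w', hw', ?_, hq, ?_, hσw⟩
  · rw [mul_assoc, eq_inv_mul_iff_mul_eq]
    refine dd_injective ?_
    rw [dd_mul, dd_mul σ, hσw, add_zero, esum, eτ, ← hZdef, hEZ]
    abel
  · refine hlt.trans_le (Submodule.finrank_mono ((range_add_le _ _).trans (sup_le le_rfl ?_)))
    rw [hEdef, mul_assoc]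
    exact range_mul_le _ _

end Cfsg.Agent.Lib.QPair
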