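import Cfsg.Agent.Lib.QPair.Split
import Cfsg.Agent.Lib.QPair.Reduce

/-!
# A quadratic pair is a central product of quasisimple groups
-/

set_option autoImplicit false

namespace Cfsg.Agent.Lib.QPair

open Cfsg LinearMap
open scoped MatrixGroups commutatorElement

universe u

section Basics

variable {k : Type*} [Field k] {M : Type*} [AddCommGroup M] [Module k M] [FiniteDimensional k M]
  {G : Subgroup (GeneralLinearGroup k M)}

theorem isQuad_of_mem {σ : GeneralLinearGroup k M} (hσ : σ ∈ quadraticElements G) : IsQuad G (dd σ) :=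
  let h := (quadratic_iff G).mp hσ
  ⟨h.2.1, h.2.2.2⟩

theorem centralize_roots {w : GeneralLinearGroup k M} (h : ∀ X, IsRoot G X → dd w * X = X * dd w) :
    w ∈ Subgroup.centralizer ((rootsGen G : Subgroup (GeneralLinearGroup k M)) : Set (GeneralLinearGroup k M)) := by
  have hle : rootsGen G ≤ Subgroup.centralizer {w} := by
    refine iSup₂_le fun A ⟨σ, hσ, e⟩ => e ▸ fun a ha => ?_
    rw [Subgroup.mem_centralizer_singleton_iff]
    by_cases ha1 : a = 1
    · rw [ha1, mul_one, one_mul]
    obtain ⟨-, has⟩ := (mem_root_group hσ).mp ha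
    exact commute_iff.mpr (h _ (sp_root (root_of_minimal hσ) has fun e => ha1 (dd_eq_zero.mp e)).1).symm
  exact Subgroup.mem_centralizer_iff.mpr fun a ha => Subgroup.mem_centralizer_singleton_iff.mp (hle ha)

/-- Every quadratic element lies in the product of the root groups and their centraliser. -/
theorem quad_mem_sup (hk2 : ringChar k ≠ 2) (hk3 : Nat.card k ≠ 3) (hG : IsQuadraticPair G)
    {w : GeneralLinearGroup k M} (hw : w ∈ G) (hZ : IsQuad G (dd w)) :
    w ∈ rootsGen G ⊔ (G ⊓ Subgroup.centralizer ((rootsGen G : Subgroup (GeneralLinearGroup k M)) : Set (GeneralLinearGroup k M))) := by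
  induction hn : Module.finrank k (range (dd w)) using Nat.strong_induction_on generalizing w with
  | _ n ih =>
    subst hn
    by_cases h : ∃ X, IsRoot G X ∧ dd w * X ≠ X * dd w
    · obtain ⟨σ, hσ, y, hy, w', hw', rfl, hq, hlt, -⟩ := decompose hk2 hk3 hG hw hZ h
      exact mul_mem (Subgroup.mem_sup_left (class_le _ hy)) (ih _ hlt hw' hq rfl)
    · push Not at h
      exact Subgroup.mem_sup_right (Subgroup.mem_inf.mpr ⟨hw, centralize_roots h⟩)

theorem eq_roots_sup_centralizer (hk2 : ringChar k ≠ 2) (hk3 : Nat.card k ≠ 3) (hG : IsQuadraticPair G) :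
    rootsGen G ⊔ (G ⊓ Subgroup.centralizer ((rootsGen G : Subgroup (GeneralLinearGroup k M)) : Set (GeneralLinearGroup k M))) = G := by
  refine le_antisymm (sup_le roots_le inf_le_left) ?_
  conv_lhs => rw [← hG.2]
  exact (Subgroup.closure_le _).mpr fun w hw => quad_mem_sup hk2 hk3 hG hw.1 (isQuad_of_mem hw)

/-- Elements of `G` act on a class group as inner automorphisms. -/
theorem inner_all (hk2 : ringChar k ≠ 2) (hk3 : Nat.card k ≠ 3) (hG : IsQuadraticPair G)
    (A₀ : Subgroup (GeneralLinearGroup k M)) {g : GeneralLinearGroup k M} (hg : g ∈ G) :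
    ∃ h ∈ gen (classOf G A₀), ∀ x ∈ gen (classOf G A₀), g * x * g⁻¹ = h * x * h⁻¹ := by
  rw [← eq_roots_sup_centralizer hk2 hk3 hG, Subgroup.sup_eq_closure] at hg
  have base : ∀ x, x ∈ (rootsGen G : Set (GeneralLinearGroup k M)) ∪ ((G ⊓ Subgroup.centralizer ((rootsGen G : Subgroup (GeneralLinearGroup k M)) : Set (GeneralLinearGroup k M)) : Subgroup (GeneralLinearGroup k M)) : Set (GeneralLinearGroup k M)) →
      ∃ h ∈ gen (classOf G A₀), ∀ y ∈ gen (classOf G A₀), x * y * x⁻¹ = h * y * h⁻¹ := by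
    rintro x (hx | hx)
    · exact inner hk2 hk3 hG hx
    · refine ⟨1, one_mem _, fun y hy => ?_⟩
      rw [← Subgroup.mem_centralizer_iff.mp (Subgroup.mem_inf.mp hx).2 y (class_le A₀ hy)]
      group
  induction hg using Subgroup.closure_induction'' with
  | one => exact ⟨1, one_mem _, fun y _ => rfl⟩
  | mem x hx => exact base x hx
  | inv_mem x hx => exact base x⁻¹ (hx.imp (fun h => inv_mem h) fun h => inv_mem h)
  | mul a b _ _ iha ihb =>
    obtain ⟨ha, hha, ea⟩ := iha
    obtain ⟨hb, hhb, eb⟩ := ihb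
    refine ⟨ha * hb, mul_mem hha hhb, fun y hy => ?_⟩
    have hy' : hb * y * hb⁻¹ ∈ gen (classOf G A₀) := mul_mem (mul_mem hhb hy) (inv_mem hhb)
    calc a * b * y * (a * b)⁻¹ = a * (b * y * b⁻¹) * a⁻¹ := by group
      _ = ha * (hb * y * hb⁻¹) * ha⁻¹ := by rw [eb y hy, ea _ hy']
      _ = _ := by group

/-- A quadratic element commuting with a class group is killed by no root of the class. -/
theorem eq_one_of_annihilate (hk2 : ringChar k ≠ 2) (hk3 : Nat.card k ≠ 3) (hG : IsQuadraticPair G)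
    {σ : GeneralLinearGroup k M} (hσ : σ ∈ minimalQuadraticElements G) {w : GeneralLinearGroup k M}
    (hcomm : ∀ h ∈ gen (classOf G (sameActionSubgroup G σ)), h * w = w * h) (h0 : dd σ * dd w = 0) : w = 1 := by
  have hσC : σ ∈ gen (classOf G (sameActionSubgroup G σ)) :=
    le_gen (C := classOf G _) ⟨⟨σ, hσ, rfl⟩, Rel.refl _⟩ (self_mem_group hσ)
  let N : Submodule k M :=
    { carrier := {m | ∀ g ∈ G, conjE g (dd σ) m = 0}
      add_mem' := fun {a b} ha hb g hg => by rw [map_add, ha g hg, hb g hg, add_zero]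
      zero_mem' := fun g _ => map_zero _
      smul_mem' := fun c a ha g hg => by rw [map_smul, ha g hg, smul_zero] }
  have hrange : ∀ m, dd w m ∈ N := by
    intro m g hg
    obtain ⟨h, hh, e⟩ := inner_all hk2 hk3 hG (sameActionSubgroup G σ) hg
    have e1 : conjE g (dd σ) = conjE h (dd σ) := by rw [← dd_conjE, ← dd_conjE, e σ hσC]
    have e2 : conjE h (dd w) = dd w := by rw [← dd_conjE, hcomm h hh, mul_inv_cancel_right]
    rw [e1, ← e2, ← Module.End.mul_apply, conjE_mul, h0]
    simp [conjE]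
  have hstab : ∀ g ∈ G, ∀ m ∈ N, (g : M →ₗ[k] M) m ∈ N := by
    intro g hg m hm g' hg'
    have h1 := hm (g⁻¹ * g') (mul_mem (inv_mem hg) hg')
    rw [← conjE_conjE, conjE, inv_inv, Module.End.mul_apply, Module.End.mul_apply] at h1
    exact (injective_coe g⁻¹).eq_iff' (map_zero _) |>.mp h1
  rcases hG.1.2 N hstab with h | h
  · exact dd_eq_zero.mp (LinearMap.ext fun m => (Submodule.eq_bot_iff _).mp h _ (hrange m))
  · exfalso
    refine (root_of_minimal hσ).ne (LinearMap.ext fun m => ?_)
    have := (h ▸ Submodule.mem_top : m ∈ N) 1 (one_mem _)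
    rwa [conjE_one] at this

/-- A quadratic element centralises all root groups or lies in one class group. -/
theorem quad_class (hk2 : ringChar k ≠ 2) (hk3 : Nat.card k ≠ 3) (hG : IsQuadraticPair G)
    {w : GeneralLinearGroup k M} (hw : w ∈ G) (hZ : IsQuad G (dd w)) :
    w ∈ Subgroup.centralizer ((rootsGen G : Subgroup (GeneralLinearGroup k M)) : Set (GeneralLinearGroup k M)) ∨
      ∃ A ∈ quadraticRootSubgroups G, w ∈ gen (classOf G A) := by
  induction hn : Module.finrank k (range (dd w)) using Nat.strong_induction_on generalizing w with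
  | _ n ih =>
    subst hn
    by_cases h : ∃ X, IsRoot G X ∧ dd w * X ≠ X * dd w
    swap
    · push Not at h
      exact Or.inl (centralize_roots h)
    obtain ⟨σ, hσ, y, hy, w', hw', rfl, hq, hlt, h0⟩ := decompose hk2 hk3 hG hw hZ h
    refine Or.inr ⟨sameActionSubgroup G σ, ⟨σ, hσ, rfl⟩, ?_⟩
    rcases ih _ hlt hw' hq rfl with hc | ⟨B, hB, hwB⟩
    · have : w' = 1 := eq_one_of_annihilate hk2 hk3 hG hσ
        (fun h hh => Subgroup.mem_centralizer_iff.mp hc h (class_le _ hh)) h0
      rwa [this, mul_one]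
    by_cases hr : Rel G (sameActionSubgroup G σ) B
    · exact mul_mem hy (classOf_eq hr ▸ hwB)
    · have hle : gen (classOf G (sameActionSubgroup G σ)) ≤
          Subgroup.centralizer ((gen (classOf G B) : Subgroup (GeneralLinearGroup k M)) : Set (GeneralLinearGroup k M)) := by
        refine iSup₂_le fun A hA => Subgroup.le_centralizer_iff.mp (iSup₂_le fun C hC => ?_)
        refine Subgroup.commutator_eq_bot_iff_le_centralizer.mp ?_
        rw [Subgroup.commutator_comm]
        exact class_commute hk2 hk3 hG hA hC.1 fun h => hr (h.trans hC.2.symm)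
      have : w' = 1 := eq_one_of_annihilate hk2 hk3 hG hσ
        (fun h hh => (Subgroup.mem_centralizer_iff.mp (hle hh) w' hwB).symm) h0
      rwa [this, mul_one]

end Basics

section Restrict

variable {k : Type u} [Field k] {M : Type u} [AddCommGroup M] [Module k M]
  (H : Subgroup (GeneralLinearGroup k M)) (p : Submodule k M)
  (hp : ∀ g ∈ H, ∀ v ∈ p, (g : M →ₗ[k] M) v ∈ p)

/-- Restriction of a group to an invariant subspace. -/
noncomputable def resHom : ↥H →* GeneralLinearGroup k p :=
  MonoidHom.toHomUnits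
    { toFun := fun g => LinearMap.restrict ((g : GeneralLinearGroup k M) : M →ₗ[k] M) (hp g g.2)
      map_one' := LinearMap.ext fun v => Subtype.ext rfl
      map_mul' := fun a b => LinearMap.ext fun v => Subtype.ext rfl }

theorem resHom_apply (g : H) (v : p) :
    (((resHom H p hp g : GeneralLinearGroup k p) : p →ₗ[k] p) v : M) = ((g : GeneralLinearGroup k M) : M →ₗ[k] M) v := rfl

theorem dd_resHom (g : H) (v : p) : ((dd (resHom H p hp g)) v : M) = dd (g : GeneralLinearGroup k M) v := rfl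

end Restrict

theorem mem_roots_of_pair {k : Type*} [Field k] {M : Type*} [AddCommGroup M] [Module k M]
    {G : Subgroup (GeneralLinearGroup k M)} (h : (quadraticElements G).Nonempty) :
    ∃ σ, σ ∈ minimalQuadraticElements G := by
  classical
  have hex : ∃ n, ∃ σ ∈ quadraticElements G, commutatorRank σ = n := ⟨_, h.some, h.some_mem, rfl⟩
  obtain ⟨σ, hσ, e⟩ := Nat.find_spec hex
  exact ⟨σ, hσ, fun τ hτ => e.le.trans (Nat.find_le ⟨τ, hτ, rfl⟩)⟩

/-- A quadratic pair is a central product of quasisimple groups. -/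
theorem central_product {k : Type u} [Field k] (hk2 : ringChar k ≠ 2) (hk3 : Nat.card k ≠ 3) :
    ∀ (n : ℕ) {M : Type u} [AddCommGroup M] [Module k M] [FiniteDimensional k M],
      Module.finrank k M = n → ∀ {G : Subgroup (GeneralLinearGroup k M)}, IsQuadraticPair G →
      ∃ (s : ℕ) (Gi : Fin s → Subgroup (GeneralLinearGroup k M)),
        (∀ i, Gi i ≤ G ∧ ∀ g ∈ G, conjBy (Gi i) g = Gi i) ∧ (∀ i j, i ≠ j → ⁅Gi i, Gi j⁆ = ⊥) ∧ (⨆ i, Gi i) = G ∧
        (∀ i, IsQuasisimple ↥(Gi i) ∧
          Subgroup.closure (quadraticElements G ∩ (Gi i : Set (GeneralLinearGroup k M))) = Gi i) ∧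
        quadraticElements G ⊆ ⋃ i, (Gi i : Set (GeneralLinearGroup k M)) := by
  intro n
  induction n using Nat.strong_induction_on with
  | _ n ih =>
  intro M _ _ _ hn G hG
  by_cases hne : (quadraticElements G).Nonempty
  swap
  · rw [Set.not_nonempty_iff_eq_empty] at hne
    have hbot : G = ⊥ := by rw [← hG.2, hne, Subgroup.closure_empty]
    exact ⟨0, Fin.elim0, fun i => i.elim0, fun i => i.elim0, by rw [hbot]; simp, fun i => i.elim0,
      by simp [hne]⟩
  obtain ⟨σ₀, hσ₀⟩ := mem_roots_of_pair hne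
  obtain ⟨r, part, hcls, hcov, -, hcomm⟩ := exists_parts hk2 hk3 hG
  set R := rootsGen G with hR
  set C := Subgroup.centralizer ((R : Subgroup (GeneralLinearGroup k M)) : Set (GeneralLinearGroup k M)) with hC
  set H := Subgroup.closure (quadraticElements G ∩ (C : Set (GeneralLinearGroup k M))) with hH
  have hHG : H ≤ G := (Subgroup.closure_le _).mpr fun x hx => hx.1.1
  have hHC : H ≤ C := (Subgroup.closure_le _).mpr fun x hx => hx.2
  have hcover : ∀ w ∈ quadraticElements G, (∃ i, w ∈ gen (part i)) ∨ w ∈ H := by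
    intro w hw
    rcases quad_class hk2 hk3 hG hw.1 (isQuad_of_mem hw) with h | ⟨A, hA, hwA⟩
    · exact Or.inr (Subgroup.subset_closure ⟨hw, h⟩)
    · obtain ⟨i, hi⟩ := hcov A hA
      obtain ⟨A', -, e⟩ := hcls i
      refine Or.inl ⟨i, ?_⟩
      rw [e] at hi ⊢
      rwa [classOf_eq hi.2]
  have hRH : G ≤ R ⊔ H := by
    conv_lhs => rw [← hG.2]
    refine (Subgroup.closure_le _).mpr fun w hw => ?_
    rcases hcover w hw with ⟨i, hi⟩ | h
    · obtain ⟨A', -, e⟩ := hcls i
      rw [e] at hi
      exact Subgroup.mem_sup_left (class_le A' hi)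
    · exact Subgroup.mem_sup_right h
  -- an irreducible submodule for `H`
  obtain ⟨p, hp0, hpH, hpirr⟩ : ∃ p : Submodule k M, p ≠ ⊥ ∧ (∀ g ∈ H, ∀ v ∈ p, (g : M →ₗ[k] M) v ∈ p) ∧
      ∀ q : Submodule k M, q ≤ p → (∀ g ∈ H, ∀ v ∈ q, (g : M →ₗ[k] M) v ∈ q) → q = ⊥ ∨ q = p := by
    classical
    obtain ⟨m, hm⟩ := hG.1.1
    have hex : ∃ d, ∃ q : Submodule k M, q ≠ ⊥ ∧ (∀ g ∈ H, ∀ v ∈ q, (g : M →ₗ[k] M) v ∈ q) ∧
        Module.finrank k q = d :=
      ⟨_, ⊤, fun h => hm ((Submodule.mem_bot k).mp (h ▸ Submodule.mem_top)), fun _ _ _ _ => Submodule.mem_top, rfl⟩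
    obtain ⟨p, h1, h2, h3⟩ := Nat.find_spec hex
    refine ⟨p, h1, h2, fun q hle hq => or_iff_not_imp_left.mpr fun hq0 => ?_⟩
    exact Submodule.eq_of_le_of_finrank_le hle (h3.le.trans (Nat.find_le ⟨q, hq0, hq, rfl⟩))
  have hcommR : ∀ x ∈ R, ∀ y ∈ H, x * y = y * x := fun x hx y hy =>
    Subgroup.mem_centralizer_iff.mp (hHC hy) x hx
  -- an endomorphism commuting with the root groups and killing `p` is zero
  have hkill : ∀ A : Module.End k M,
      (∀ g ∈ R, A * (g : Module.End k M) = (g : Module.End k M) * A) → (∀ v ∈ p, A v = 0) → A = 0 := by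
    intro A hA hAp
    let N : Submodule k M := ⨆ g ∈ R, p.map ((g : GeneralLinearGroup k M) : M →ₗ[k] M)
    have hN : ∀ g ∈ G, ∀ v ∈ N, (g : M →ₗ[k] M) v ∈ N := by
      intro g hg
      have hx := hRH hg
      rw [Subgroup.sup_eq_closure] at hx
      have base : ∀ x, x ∈ (R : Set (GeneralLinearGroup k M)) ∪ (H : Set (GeneralLinearGroup k M)) →
          N.map (x : M →ₗ[k] M) ≤ N := by
        intro x hx
        simp only [N, Submodule.map_iSup]
        refine iSup₂_le fun g hg => ?_
        rcases hx with hx | hx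
        · refine le_iSup₂_of_le (x * g) (mul_mem hx hg) (le_of_eq ?_)
          rw [← Submodule.map_comp]; rfl
        · refine le_iSup₂_of_le g hg ?_
          rintro _ ⟨_, ⟨v, hv, rfl⟩, rfl⟩
          refine ⟨(x : M →ₗ[k] M) v, hpH x hx v hv, ?_⟩
          have e := congrArg (fun z : GeneralLinearGroup k M => (z : M →ₗ[k] M) v) (hcommR g hg x hx)
          exact e
      refine fun v hv => (?_ : N.map (g : M →ₗ[k] M) ≤ N) ⟨v, hv, rfl⟩
      clear hg
      induction hx using Subgroup.closure_induction'' with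
      | one => simp [Submodule.map_id, Module.End.one_eq_id]
      | mem x hx => exact base x hx
      | inv_mem x hx => exact base x⁻¹ (hx.imp (fun h => inv_mem h) fun h => inv_mem h)
      | mul a b _ _ iha ihb =>
        rw [Units.val_mul, Module.End.mul_eq_comp, Submodule.map_comp]
        exact (Submodule.map_mono ihb).trans iha
    rcases hG.1.2 N hN with h | h
    · refine absurd (le_bot_iff.mp ?_) hp0
      rw [← h]
      exact le_iSup₂_of_le 1 (one_mem _) (by simp [Module.End.one_eq_id])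
    · have hle : N ≤ LinearMap.ker A := iSup₂_le fun g hg => by
        rintro _ ⟨v, hv, rfl⟩
        show A ((g : M →ₗ[k] M) v) = 0
        rw [← Module.End.mul_apply, hA g hg, Module.End.mul_apply, hAp v hv, map_zero]
      exact LinearMap.ext fun v => hle (h ▸ Submodule.mem_top)
  have hddcomm : ∀ y ∈ H, ∀ g ∈ R, dd y * (g : Module.End k M) = (g : Module.End k M) * dd y := by
    intro y hy g hg
    rw [coe_eq g, mul_add, add_mul, mul_one, one_mul, commute_iff.mp (hcommR g hg y hy)]
  have hptop : Module.finrank k p < n := by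
    rw [← hn]
    refine Submodule.finrank_lt fun htop => ?_
    have hX := root_of_minimal hσ₀
    have hσR : σ₀ ∈ R := root_group_le_gen hσ₀ (self_mem_group hσ₀)
    have hst : ∀ g ∈ H, ∀ v ∈ LinearMap.range (dd σ₀), (g : M →ₗ[k] M) v ∈ LinearMap.range (dd σ₀) := by
      rintro g hg _ ⟨v, rfl⟩
      refine ⟨(g : M →ₗ[k] M) v, ?_⟩
      have e := commute_iff.mp (hcommR σ₀ hσR g hg)
      show dd σ₀ ((g : Module.End k M) v) = (g : Module.End k M) (dd σ₀ v)
      rw [← Module.End.mul_apply, ← Module.End.mul_apply, coe_eq g, mul_add, add_mul, mul_one, one_mul, e]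
    rcases hpirr _ (htop ▸ le_top) hst with h | h
    · exact hX.ne (LinearMap.range_eq_bot.mp h)
    · refine hX.ne (LinearMap.ext fun v => ?_)
      obtain ⟨u, hu⟩ : v ∈ LinearMap.range (dd σ₀) := by rw [h, htop]; exact Submodule.mem_top
      rw [← hu]
      exact LinearMap.congr_fun hX.sq u
  let ρ := resHom H p hpH
  have hρ : Function.Injective ρ := by
    refine (injective_iff_map_eq_one ρ).mpr fun g hg => Subtype.ext (dd_eq_zero.mp ?_)
    refine hkill _ (hddcomm _ g.2) fun v hv => ?_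
    have := dd_resHom H p hpH g ⟨v, hv⟩
    rw [show resHom H p hpH g = 1 from hg, dd_one] at this
    exact this.symm
  have hquadH : ∀ g : H, (g : GeneralLinearGroup k M) ∈ quadraticElements G → ρ g ∈ quadraticElements ρ.range := by
    intro g hg
    obtain ⟨-, h1, h2, h3⟩ := (quadratic_iff G).mp hg
    refine (quadratic_iff _).mpr ⟨⟨g, rfl⟩, LinearMap.ext fun v => Subtype.ext ?_, fun e => h2 ?_, fun c => ?_⟩
    · show dd (g : GeneralLinearGroup k M) (dd (g : GeneralLinearGroup k M) (v : M)) = 0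
      exact LinearMap.congr_fun h1 v
    · exact dd_eq_zero.mpr (congrArg Subtype.val (hρ (a₁ := g) (a₂ := 1) ((dd_eq_zero.mp e).trans (map_one ρ).symm)))
    · obtain ⟨τ, hτ, e⟩ := h3 c
      by_cases hc : c = 0
      · exact ⟨1, one_mem _, by rw [hc, dd_one, zero_smul]⟩
      have hτq : τ ∈ quadraticElements G := (quadratic_iff G).mpr ⟨hτ,
        by rw [e, smul_mul_assoc, mul_smul_comm, h1, smul_zero, smul_zero], by rw [e]; exact smul_ne_zero hc h2,
        fun d => by obtain ⟨τ', hτ', e'⟩ := h3 (d * c); exact ⟨τ', hτ', by rw [e', e, smul_smul]⟩⟩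
      have hτC : τ ∈ C := centralize_roots fun X hX => by
        obtain ⟨ξ, hξ, eξ⟩ := exists_minimal hX
        have := commute_iff.mp (hcommR ξ (root_group_le_gen hξ (self_mem_group hξ)) g g.2)
        rw [eξ] at this
        rw [e, smul_mul_assoc, mul_smul_comm, this]
      refine ⟨ρ ⟨τ, Subgroup.subset_closure ⟨hτq, hτC⟩⟩, ⟨_, rfl⟩, LinearMap.ext fun v => Subtype.ext ?_⟩
      show dd τ (v : M) = c • dd (g : GeneralLinearGroup k M) (v : M)
      exact LinearMap.congr_fun e v
  have hquadBack : ∀ g : H, ρ g ∈ quadraticElements ρ.range → (g : GeneralLinearGroup k M) ∈ quadraticElements G := by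
    intro g hg
    obtain ⟨-, h1, h2, h3⟩ := (quadratic_iff _).mp hg
    refine (quadratic_iff G).mpr ⟨hHG g.2, hkill _ ?_ fun v hv => ?_, fun e => h2 ?_, fun c => ?_⟩
    · intro x hx
      rw [mul_assoc, hddcomm _ g.2 x hx, ← mul_assoc, hddcomm _ g.2 x hx, mul_assoc]
    · exact congrArg Subtype.val (LinearMap.congr_fun h1 ⟨v, hv⟩)
    · rw [show g = 1 from Subtype.ext (dd_eq_zero.mp e), map_one, dd_one]
    · obtain ⟨_, ⟨τ, rfl⟩, e⟩ := h3 c
      refine ⟨τ, hHG τ.2, sub_eq_zero.mp (hkill _ (fun x hx => ?_) fun v hv => ?_)⟩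
      · rw [sub_mul, mul_sub, smul_mul_assoc, mul_smul_comm, hddcomm _ g.2 x hx, hddcomm _ τ.2 x hx]
      · have := congrArg Subtype.val (LinearMap.congr_fun e ⟨v, hv⟩)
        show dd (τ : GeneralLinearGroup k M) v - c • dd (g : GeneralLinearGroup k M) v = 0
        exact sub_eq_zero.mpr this
  have hpair : IsQuadraticPair ρ.range := by
    refine ⟨⟨?_, fun W hW => ?_⟩, le_antisymm ((Subgroup.closure_le _).mpr fun x hx => hx.1) ?_⟩
    · obtain ⟨v, hv, hv0⟩ := (Submodule.ne_bot_iff _).mp hp0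
      exact ⟨⟨v, hv⟩, fun h => hv0 (congrArg Subtype.val h)⟩
    · rcases hpirr (W.map p.subtype) (Submodule.map_subtype_le _ _) (by
        rintro g hg _ ⟨w, hw, rfl⟩
        exact ⟨_, hW (ρ ⟨g, hg⟩) ⟨_, rfl⟩ w hw, rfl⟩) with h | h
      · left
        exact Submodule.map_injective_of_injective p.injective_subtype (h.trans (Submodule.map_bot _).symm)
      · right
        exact Submodule.map_injective_of_injective p.injective_subtype (h.trans (Submodule.map_subtype_top p).symm)
    · rintro _ ⟨⟨g, hg⟩, rfl⟩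
      induction hg using Subgroup.closure_induction with
      | mem x hx => exact Subgroup.subset_closure (hquadH ⟨x, Subgroup.subset_closure hx⟩ hx.1)
      | one => rw [show (⟨1, one_mem H⟩ : H) = 1 from rfl, map_one]; exact one_mem _
      | mul a b ha hb iha ihb =>
        rw [show (⟨a * b, mul_mem ha hb⟩ : H) = ⟨a, ha⟩ * ⟨b, hb⟩ from rfl, map_mul]; exact mul_mem iha ihb
      | inv a ha iha => rw [show (⟨a⁻¹, inv_mem ha⟩ : H) = (⟨a, ha⟩)⁻¹ from rfl, map_inv]; exact inv_mem iha
  obtain ⟨s, Ki, hKn, hKc, hKsup, hKq, hKcov⟩ := ih _ hptop rfl hpair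
  let Li : Fin s → Subgroup (GeneralLinearGroup k M) := fun i => ((Ki i).comap ρ).map H.subtype
  have hLH : ∀ i, Li i ≤ H := fun i => Subgroup.map_subtype_le _
  have hmem : ∀ i (g : H), (g : GeneralLinearGroup k M) ∈ Li i ↔ ρ g ∈ Ki i := fun i g => by
    constructor
    · rintro ⟨g', hg', e⟩; rwa [← Subtype.ext e]
    · exact fun h => ⟨g, h, rfl⟩
  have hKrange : ∀ i, ((Ki i).comap ρ).map ρ = Ki i := fun i => Subgroup.map_comap_eq_self (hKn i).1
  -- properties of the classes
  have hclass_conj : ∀ i, ∀ g ∈ G, conjBy (gen (part i)) g = gen (part i) := by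
    intro i g hg
    obtain ⟨A, -, e⟩ := hcls i
    rw [e]
    have hle : ∀ g ∈ G, ∀ x ∈ gen (classOf G A), g * x * g⁻¹ ∈ gen (classOf G A) := fun g hg x hx => by
      obtain ⟨h, hh, eh⟩ := inner_all hk2 hk3 hG A hg
      rw [eh x hx]
      exact mul_mem (mul_mem hh hx) (inv_mem hh)
    refine le_antisymm (conjBy_le_of (hle g hg)) fun x hx => RankOne.mem_conjBy.mpr ?_
    have := hle g⁻¹ (inv_mem hg) x hx
    rwa [inv_inv] at this
  have hLi_conj : ∀ i, ∀ g ∈ G, conjBy (Li i) g = Li i := by
    intro i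
    have hle : ∀ g ∈ G, ∀ x ∈ Li i, g * x * g⁻¹ ∈ Li i := by
      intro g hg
      have hx := hRH hg
      rw [Subgroup.sup_eq_closure] at hx
      clear hg
      induction hx using Subgroup.closure_induction'' with
      | one => intro x hx; simpa using hx
      | mem y hy =>
        intro x hx
        rcases hy with hy | hy
        · rwa [hcommR y hy x (hLH i hx), mul_inv_cancel_right]
        · have hxH := hLH i hx
          have e := (hKn i).2 (ρ ⟨y, hy⟩) ⟨_, rfl⟩
          refine (hmem i (⟨y, hy⟩ * ⟨x, hxH⟩ * ⟨y, hy⟩⁻¹)).mpr ?_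
          rw [map_mul, map_mul, map_inv, ← e]
          exact RankOne.conj_mem_conjBy ((hmem i ⟨x, hxH⟩).mp hx)
      | inv_mem y hy =>
        intro x hx
        rcases hy with hy | hy
        · rwa [hcommR _ (inv_mem hy) x (hLH i hx), mul_inv_cancel_right]
        · have hxH := hLH i hx
          have e := (hKn i).2 (ρ ⟨y⁻¹, inv_mem hy⟩) ⟨_, rfl⟩
          refine (hmem i (⟨y⁻¹, inv_mem hy⟩ * ⟨x, hxH⟩ * ⟨y⁻¹, inv_mem hy⟩⁻¹)).mpr ?_
          rw [map_mul, map_mul, map_inv, ← e]
          exact RankOne.conj_mem_conjBy ((hmem i ⟨x, hxH⟩).mp hx)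
      | mul a b _ _ iha ihb =>
        intro x hx
        rw [show a * b * x * (a * b)⁻¹ = a * (b * x * b⁻¹) * a⁻¹ by group]
        exact iha _ (ihb x hx)
    intro g hg
    refine le_antisymm (conjBy_le_of (hle g hg)) fun x hx => RankOne.mem_conjBy.mpr ?_
    have := hle g⁻¹ (inv_mem hg) x hx
    rwa [inv_inv] at this
  have hmixed : ∀ i j, ⁅gen (part i), Li j⁆ = ⊥ := by
    intro i j
    rw [RankOne.commutator_eq_bot_iff]
    intro a ha b hb
    obtain ⟨A, -, e⟩ := hcls i
    rw [e] at ha
    exact hcommR a (class_le A ha) b (hLH j hb)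
  let J : Fin (r + s) → Subgroup (GeneralLinearGroup k M) := Fin.append (fun i => gen (part i)) Li
  refine ⟨r + s, J, ?_, ?_, ?_, ?_, ?_⟩
  · intro i
    refine Fin.addCases (fun i => ?_) (fun i => ?_) i
    · rw [show J (Fin.castAdd s i) = gen (part i) from Fin.append_left _ _ i]
      obtain ⟨A, -, e⟩ := hcls i
      exact ⟨e ▸ (class_le A).trans roots_le, hclass_conj i⟩
    · rw [show J (Fin.natAdd r i) = Li i from Fin.append_right _ _ i]
      exact ⟨(hLH i).trans hHG, hLi_conj i⟩
  · intro i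
    refine Fin.addCases (fun i => ?_) (fun i => ?_) i <;> intro j <;>
      refine Fin.addCases (fun j => ?_) (fun j => ?_) j <;>
      simp only [J, Fin.append_left, Fin.append_right] <;> intro hne
    · exact hcomm i j fun h => hne (by rw [h])
    · exact hmixed i j
    · rw [Subgroup.commutator_comm]; exact hmixed j i
    · rw [RankOne.commutator_eq_bot_iff]
      intro a ha b hb
      have h1 := RankOne.commutator_eq_bot_iff.mp (hKc i j fun h => hne (by rw [h])) _ ((hmem i ⟨a, hLH i ha⟩).mp ha)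
        _ ((hmem j ⟨b, hLH j hb⟩).mp hb)
      rw [← map_mul, ← map_mul] at h1
      exact congrArg Subtype.val (hρ h1)
  · refine le_antisymm (iSup_le fun i => ?_) ?_
    · refine Fin.addCases (fun i => ?_) (fun i => ?_) i
      · simp only [J, Fin.append_left]
        obtain ⟨A, -, e⟩ := hcls i
        exact e ▸ (class_le A).trans roots_le
      · simp only [J, Fin.append_right]
        exact (hLH i).trans hHG
    · conv_lhs => rw [← hG.2]
      refine (Subgroup.closure_le _).mpr fun w hw => ?_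
      rcases hcover w hw with ⟨i, hi⟩ | h
      · exact le_iSup J (Fin.castAdd s i) (by simpa [J] using hi)
      · obtain ⟨i, hi⟩ := Set.mem_iUnion.mp (hKcov (hquadH ⟨w, h⟩ hw))
        exact le_iSup J (Fin.natAdd r i) (by simpa [J] using (hmem i ⟨w, h⟩).mpr hi)
  · intro i
    refine Fin.addCases (fun i => ?_) (fun i => ?_) i
    · rw [show J (Fin.castAdd s i) = gen (part i) from Fin.append_left _ _ i]
      obtain ⟨A, hA, e⟩ := hcls i
      rw [e]
      refine ⟨class_quasisimple hk2 hk3 hG hA, le_antisymm ((Subgroup.closure_le _).mpr fun x hx => hx.2) ?_⟩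
      refine iSup₂_le fun B hB a ha => ?_
      by_cases ha1 : a = 1
      · rw [ha1]; exact one_mem _
      obtain ⟨σ, hσ, rfl⟩ := id hB.1
      obtain ⟨haG, has⟩ := (mem_root_group hσ).mp ha
      have hroot := (sp_root (root_of_minimal hσ) has fun e => ha1 (dd_eq_zero.mp e)).1
      exact Subgroup.subset_closure ⟨(minimal_of_root haG hroot).1, le_gen hB ha⟩
    · rw [show J (Fin.natAdd r i) = Li i from Fin.append_right _ _ i]
      have e1 : (Li i) ≃* ↥(Ki i) :=
        (((Ki i).comap ρ).equivMapOfInjective H.subtype H.subtype_injective).symm.trans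
          ((((Ki i).comap ρ).equivMapOfInjective ρ hρ).trans (MulEquiv.subgroupCongr (hKrange i)))
      refine ⟨Cfsg.Lib.Core.quasisimple_congr (hKq i).1 e1.symm,
        le_antisymm ((Subgroup.closure_le _).mpr fun x hx => hx.2) ?_⟩
      intro x hx
      have hxH := hLH i hx
      have h1 := (hKq i).2.ge ((hmem i ⟨x, hxH⟩).mp hx)
      have hpre : Subgroup.closure (quadraticElements ρ.range ∩ (Ki i : Set _)) ≤
          ((Subgroup.closure (quadraticElements G ∩ (Li i : Set (GeneralLinearGroup k M)))).subgroupOf H).map ρ := by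
        refine (Subgroup.closure_le _).mpr ?_
        rintro _ ⟨hq, hK⟩
        obtain ⟨g, rfl⟩ := hq.1
        exact ⟨g, Subgroup.subset_closure ⟨hquadBack g hq, (hmem i g).mpr hK⟩, rfl⟩
      obtain ⟨g, hg, eg⟩ := hpre h1
      rw [hρ eg] at hg
      exact hg
  · intro w hw
    rcases hcover w hw with ⟨i, hi⟩ | h
    · exact Set.mem_iUnion.mpr ⟨Fin.castAdd s i, by simpa [J] using hi⟩
    · obtain ⟨i, hi⟩ := Set.mem_iUnion.mp (hKcov (hquadH ⟨w, h⟩ hw))
      exact Set.mem_iUnion.mpr ⟨Fin.natAdd r i, by simpa [J] using (hmem i ⟨w, h⟩).mpr hi⟩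

end Cfsg.Agent.Lib.QPair
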