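import Cfsg.Agent.Lib.QPair.Root

/-!
# The algebra of two root maps

With `N = X Y` every product of the maps `X` and `Y` has the shape `p(N) N + q(N) X + Y r(N) + Y s(N) X`, and the
group of their scalar families corresponds to a group of two by two matrices over `k[t]`.
-/

set_option autoImplicit false

namespace Cfsg.Agent.Lib.QPair

open Cfsg LinearMap Polynomial

variable {k : Type*} [Field k] {M : Type*} [AddCommGroup M] [Module k M]

/-- `p(XY)`. -/
noncomputable abbrev pev (X Y : Module.End k M) : k[X] →ₐ[k] Module.End k M := aeval (X * Y)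

/-- The general product. -/
noncomputable def quad (X Y : Module.End k M) (p q r s : k[X]) : Module.End k M :=
  pev X Y p * (X * Y) + pev X Y q * X + Y * pev X Y r + Y * pev X Y s * X

variable {X Y : Module.End k M}

theorem pev_add' (p q : k[X]) : pev X Y (p + q) = pev X Y p + pev X Y q := map_add _ _ _

theorem pev_mul' (p q : k[X]) : pev X Y (p * q) = pev X Y p * pev X Y q := map_mul _ _ _

theorem mul_pev (hX : X * X = 0) (p : k[X]) : X * pev X Y p = p.coeff 0 • X := by
  induction p using Polynomial.induction_on' with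
  | add a b ha hb => rw [pev_add', mul_add, ha, hb, coeff_add, add_smul]
  | monomial n c =>
    rw [pev, aeval_monomial, ← Algebra.smul_def, mul_smul_comm, coeff_monomial]
    rcases n with - | n
    · simp
    · rw [pow_succ', ← mul_assoc, ← mul_assoc, hX]
      simp

theorem pev_mul (hY : Y * Y = 0) (p : k[X]) : pev X Y p * Y = p.coeff 0 • Y := by
  induction p using Polynomial.induction_on' with
  | add a b ha hb => rw [pev_add', add_mul, ha, hb, coeff_add, add_smul]
  | monomial n c =>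
    rw [pev, aeval_monomial, ← Algebra.smul_def, smul_mul_assoc, coeff_monomial]
    rcases n with - | n
    · simp
    · rw [pow_succ, mul_assoc, mul_assoc, hY]
      simp

theorem pev_comm (p q : k[X]) : pev X Y p * pev X Y q = pev X Y q * pev X Y p := by
  rw [← pev_mul', ← pev_mul', mul_comm]

theorem quad_mul (hX : X * X = 0) (hY : Y * Y = 0) (p₁ q₁ r₁ s₁ p₂ q₂ r₂ s₂ : k[X]) :
    quad X Y p₁ q₁ r₁ s₁ * quad X Y p₂ q₂ r₂ s₂ =
      quad X Y (Polynomial.X * p₁ * p₂ + q₁ * r₂) (Polynomial.X * (p₁ * q₂ + q₁ * s₂))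
        (Polynomial.X * (r₁ * p₂ + s₁ * r₂)) (r₁ * q₂ + Polynomial.X * s₁ * s₂) := by
  have a1 : ∀ p A, X * (pev X Y p * A) = p.coeff 0 • (X * A) := fun p A => by
    rw [← mul_assoc, mul_pev hX, smul_mul_assoc]
  have a2 : ∀ p, pev X Y p * Y = p.coeff 0 • Y := pev_mul hY
  have a2' : ∀ p A, pev X Y p * (Y * A) = p.coeff 0 • (Y * A) := fun p A => by
    rw [← mul_assoc, a2, smul_mul_assoc]
  have hN : pev X Y Polynomial.X = X * Y := aeval_X _
  have hXX : ∀ A, X * (X * A) = 0 := fun A => by rw [← mul_assoc, hX, zero_mul]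
  have hYY : ∀ A, Y * (Y * A) = 0 := fun A => by rw [← mul_assoc, hY, zero_mul]
  have e1 : pev X Y p₁ * (X * Y) * (pev X Y p₂ * (X * Y)) = pev X Y (Polynomial.X * p₁ * p₂) * (X * Y) := by
    rw [pev_mul', pev_mul', hN]
    rw [show X * Y * pev X Y p₁ * pev X Y p₂ = pev X Y p₁ * (X * Y) * pev X Y p₂ by
      rw [← hN, pev_comm p₁]]
    simp only [mul_assoc]
  have e2 : pev X Y p₁ * (X * Y) * (pev X Y q₂ * X) = pev X Y (Polynomial.X * (p₁ * q₂)) * X := by
    rw [pev_mul', pev_mul', hN, ← mul_assoc (X * Y), ← hN, pev_comm Polynomial.X p₁]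
    simp only [mul_assoc]
  have e3 : pev X Y p₁ * (X * Y) * (Y * pev X Y r₂) = 0 := by simp only [mul_assoc, hYY, mul_zero]
  have e4 : pev X Y p₁ * (X * Y) * (Y * pev X Y s₂ * X) = 0 := by simp only [mul_assoc, hYY, mul_zero]
  have f1 : pev X Y q₁ * X * (pev X Y p₂ * (X * Y)) = 0 := by
    simp only [mul_assoc, a1, hXX, smul_zero, mul_zero]
  have f2 : pev X Y q₁ * X * (pev X Y q₂ * X) = 0 := by
    simp only [mul_assoc, a1, hX, smul_zero, mul_zero]
  have f3 : pev X Y q₁ * X * (Y * pev X Y r₂) = pev X Y (q₁ * r₂) * (X * Y) := by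
    rw [pev_mul', mul_assoc, ← mul_assoc X Y, ← hN, pev_comm Polynomial.X r₂, mul_assoc]
  have f4 : pev X Y q₁ * X * (Y * pev X Y s₂ * X) = pev X Y (Polynomial.X * (q₁ * s₂)) * X := by
    rw [pev_mul', pev_mul', hN, ← mul_assoc (X * Y), ← hN, pev_comm Polynomial.X q₁, hN]
    simp only [mul_assoc]
  have g1 : Y * pev X Y r₁ * (pev X Y p₂ * (X * Y)) = Y * pev X Y (Polynomial.X * (r₁ * p₂)) := by
    rw [← hN, mul_assoc, ← mul_assoc (pev X Y r₁), ← pev_mul', ← pev_mul', mul_comm Polynomial.X]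
  have g2 : Y * pev X Y r₁ * (pev X Y q₂ * X) = Y * pev X Y (r₁ * q₂) * X := by
    rw [pev_mul']; simp only [mul_assoc]
  have g3 : Y * pev X Y r₁ * (Y * pev X Y r₂) = 0 := by simp only [mul_assoc, a2', mul_smul_comm, hYY, smul_zero]
  have g4 : Y * pev X Y r₁ * (Y * pev X Y s₂ * X) = 0 := by simp only [mul_assoc, a2', mul_smul_comm, hYY, smul_zero]
  have h1 : Y * pev X Y s₁ * X * (pev X Y p₂ * (X * Y)) = 0 := by
    simp only [mul_assoc, a1, hXX, smul_zero, mul_zero]
  have h2 : Y * pev X Y s₁ * X * (pev X Y q₂ * X) = 0 := by simp only [mul_assoc, a1, hX, smul_zero, mul_zero]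
  have h3 : Y * pev X Y s₁ * X * (Y * pev X Y r₂) = Y * pev X Y (Polynomial.X * (s₁ * r₂)) := by
    rw [pev_mul', pev_mul', hN, ← mul_assoc (X * Y), ← hN, pev_comm Polynomial.X s₁, hN]
    simp only [mul_assoc]
  have h4 : Y * pev X Y s₁ * X * (Y * pev X Y s₂ * X) = Y * pev X Y (Polynomial.X * s₁ * s₂) * X := by
    rw [pev_mul', pev_mul', hN, ← hN, pev_comm Polynomial.X s₁, hN]
    simp only [mul_assoc]
  simp only [quad, mul_add, add_mul, e1, e2, e3, e4, f1, f2, f3, f4, g1, g2, g3, g4, h1, h2, h3, h4, pev_add']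
  abel

theorem quad_X : X = quad X Y 0 1 0 0 := by simp [quad, pev]

theorem quad_Y : Y = quad X Y 0 0 1 0 := by simp [quad, pev]

theorem quad_add (p q r s p' q' r' s' : k[X]) :
    quad X Y p q r s + quad X Y p' q' r' s' = quad X Y (p + p') (q + q') (r + r') (s + s') := by
  simp only [quad, map_add, add_mul, mul_add]
  abel

theorem quad_zero : quad X Y 0 0 0 0 = 0 := by simp [quad, pev]

theorem quad_smul (c : k) (p q r s : k[X]) :
    c • quad X Y p q r s = quad X Y (c • p) (c • q) (c • r) (c • s) := by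
  simp only [quad, pev, map_smul, smul_add, smul_mul_assoc, mul_smul_comm]

theorem quad_congr {p q r s p' q' r' s' : k[X]} (h1 : p = p') (h2 : q = q') (h3 : r = r') (h4 : s = s') :
    quad X Y p q r s = quad X Y p' q' r' s' := by subst h1 h2 h3 h4; rfl

/-! ### Matrices over `k[t]` -/

/-- A group element represented by a matrix over `k[t]`. -/
def Rep (X Y : Module.End k M) (g : GeneralLinearGroup k M) (A : Matrix.SpecialLinearGroup (Fin 2) k[X]) : Prop :=
  ∃ p q r s : k[X], A 0 0 = 1 + Polynomial.X * p ∧ A 0 1 = q ∧ A 1 0 = Polynomial.X * r ∧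
    A 1 1 = 1 + Polynomial.X * s ∧ dd g = quad X Y p q r s

theorem Rep.mul (hX : X * X = 0) (hY : Y * Y = 0) {g g' : GeneralLinearGroup k M}
    {A B : Matrix.SpecialLinearGroup (Fin 2) k[X]} (hA : Rep X Y g A) (hB : Rep X Y g' B) :
    Rep X Y (g * g') (A * B) := by
  obtain ⟨p, q, r, s, a1, a2, a3, a4, a5⟩ := hA
  obtain ⟨p', q', r', s', b1, b2, b3, b4, b5⟩ := hB
  refine ⟨p + p' + (Polynomial.X * p * p' + q * r'), q + q' + Polynomial.X * (p * q' + q * s'),
    r + r' + Polynomial.X * (r * p' + s * r'), s + s' + (r * q' + Polynomial.X * s * s'), ?_, ?_, ?_, ?_, ?_⟩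
  all_goals first
    | (rw [dd_mul, a5, b5, quad_mul hX hY, quad_add, quad_add])
    | (simp only [Matrix.SpecialLinearGroup.coe_mul, Matrix.mul_apply, Fin.sum_univ_two, a1, a2, a3, a4, b1, b2, b3, b4]
       ring)

theorem Rep.det {g : GeneralLinearGroup k M} {A : Matrix.SpecialLinearGroup (Fin 2) k[X]} {p q r s : k[X]}
    (a1 : A 0 0 = 1 + Polynomial.X * p) (a2 : A 0 1 = q) (a3 : A 1 0 = Polynomial.X * r)
    (a4 : A 1 1 = 1 + Polynomial.X * s) (_hg : dd g = quad X Y p q r s) :
    p + s + Polynomial.X * p * s = q * r := by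
  have h := A.2
  rw [Matrix.det_fin_two, a1, a2, a3, a4] at h
  exact mul_left_cancel₀ Polynomial.X_ne_zero (by linear_combination h)

theorem inv_dd (hX : X * X = 0) (hY : Y * Y = 0) {g : GeneralLinearGroup k M} {p q r s : k[X]}
    (hdet : p + s + Polynomial.X * p * s = q * r) (hg : dd g = quad X Y p q r s) :
    ((g⁻¹ : GeneralLinearGroup k M) : Module.End k M) = 1 + quad X Y s (-q) (-r) p := by
  have h : (g : Module.End k M) * (1 + quad X Y s (-q) (-r) p) = 1 := by
    rw [coe_eq g, hg, add_mul, one_mul, mul_add, mul_one, quad_mul hX hY, add_assoc, quad_add, quad_add]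
    rw [quad_congr (p' := 0) (q' := 0) (r' := 0) (s' := 0) (by linear_combination hdet) (by ring) (by ring)
      (by linear_combination hdet), quad_zero, add_zero]
  calc ((g⁻¹ : GeneralLinearGroup k M) : Module.End k M)
      = ((g⁻¹ : GeneralLinearGroup k M) : Module.End k M) * ((g : Module.End k M) * (1 + quad X Y s (-q) (-r) p)) := by
        rw [h, mul_one]
    _ = _ := by rw [← mul_assoc, Units.inv_mul, one_mul]

/-- The image of `t X`, `t = q(N)`, under conjugation. -/
theorem conj_formula (hX : X * X = 0) (hY : Y * Y = 0) {g : GeneralLinearGroup k M} {p q r s : k[X]}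
    (hdet : p + s + Polynomial.X * p * s = q * r) (hg : dd g = quad X Y p q r s) (t : k[X]) :
    conjE g (pev X Y t * X) = quad X Y (-((1 + Polynomial.X * p) * r * t)) ((1 + Polynomial.X * p) ^ 2 * t)
      (-(Polynomial.X * r ^ 2 * t)) ((1 + Polynomial.X * p) * r * t) := by
  have hq : pev X Y t * X = quad X Y 0 t 0 0 := by simp [quad, pev]
  rw [conjE, inv_dd hX hY hdet hg, coe_eq g, hg, hq, add_mul, one_mul, quad_mul hX hY, quad_add, mul_add, mul_one,
    quad_mul hX hY, quad_add]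
  exact quad_congr (by ring) (by ring) (by ring) (by ring)

/-- The upper matrix. -/
noncomputable def pU (t : k[X]) : Matrix.SpecialLinearGroup (Fin 2) k[X] :=
  ⟨!![1, t; 0, 1], by simp [Matrix.det_fin_two]⟩

/-- The lower matrix. -/
noncomputable def pL (t : k[X]) : Matrix.SpecialLinearGroup (Fin 2) k[X] :=
  ⟨!![1, 0; t, 1], by simp [Matrix.det_fin_two]⟩

theorem pU_coe (t : k[X]) : (pU t : Matrix (Fin 2) (Fin 2) k[X]) = !![1, t; 0, 1] := rfl

theorem pL_coe (t : k[X]) : (pL t : Matrix (Fin 2) (Fin 2) k[X]) = !![1, 0; t, 1] := rfl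

theorem pU_inv (t : k[X]) : (pU t)⁻¹ = pU (-t) := by
  refine inv_eq_of_mul_eq_one_right (Subtype.ext (Matrix.ext fun i j => ?_))
  fin_cases i <;> fin_cases j <;> simp [pU_coe, Matrix.mul_apply, Fin.sum_univ_two]

theorem pL_inv (t : k[X]) : (pL t)⁻¹ = pL (-t) := by
  refine inv_eq_of_mul_eq_one_right (Subtype.ext (Matrix.ext fun i j => ?_))
  fin_cases i <;> fin_cases j <;> simp [pL_coe, Matrix.mul_apply, Fin.sum_univ_two]

theorem rep_one : Rep X Y 1 1 := ⟨0, 0, 0, 0, by simp, by simp, by simp, by simp, by rw [dd_one, quad_zero]⟩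

theorem rep_pU {g : GeneralLinearGroup k M} {t : k[X]} (h : dd g = pev X Y t * X) : Rep X Y g (pU t) :=
  ⟨0, t, 0, 0, by simp [pU], by simp [pU], by simp [pU], by simp [pU], by rw [h]; simp [quad, pev]⟩

theorem rep_pL {g : GeneralLinearGroup k M} {t : k[X]} (h : dd g = Y * pev X Y t) :
    Rep X Y g (pL (Polynomial.X * t)) :=
  ⟨0, 0, t, 0, by simp [pL], by simp [pL], by simp [pL], by simp [pL], by rw [h]; simp [quad, pev]⟩

/-- The group of matrices over `k[t]`. -/
noncomputable def matGroup (k : Type*) [Field k] : Subgroup (Matrix.SpecialLinearGroup (Fin 2) k[X]) :=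
  Subgroup.closure (Set.range (fun c : k => pU (C c)) ∪ Set.range fun c : k => pL (Polynomial.X * C c))

theorem exists_rep {G : Subgroup (GeneralLinearGroup k M)} (hX : X * X = 0) (hY : Y * Y = 0) (fX : Fam G X)
    (fY : Fam G Y) {A : Matrix.SpecialLinearGroup (Fin 2) k[X]} (hA : A ∈ matGroup k) :
    ∃ g ∈ G, Rep X Y g A := by
  have hU : ∀ c : k, ∃ g ∈ G, Rep X Y g (pU (C c)) := fun c => by
    obtain ⟨g, hg, e⟩ := fX c
    exact ⟨g, hg, rep_pU (by rw [e, pev, aeval_C, ← Algebra.smul_def])⟩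
  have hL : ∀ c : k, ∃ g ∈ G, Rep X Y g (pL (Polynomial.X * C c)) := fun c => by
    obtain ⟨g, hg, e⟩ := fY c
    exact ⟨g, hg, rep_pL (by rw [e, pev, aeval_C, ← Algebra.commutes, ← Algebra.smul_def])⟩
  induction hA using Subgroup.closure_induction'' with
  | one => exact ⟨1, one_mem _, rep_one⟩
  | mem A hA => rcases hA with ⟨c, rfl⟩ | ⟨c, rfl⟩ <;> [exact hU c; exact hL c]
  | inv_mem A hA =>
    rcases hA with ⟨c, rfl⟩ | ⟨c, rfl⟩
    · rw [pU_inv, ← map_neg]; exact hU _
    · rw [pL_inv, ← mul_neg, ← map_neg]; exact hL _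
  | mul A B _ _ ihA ihB =>
    obtain ⟨g, hg, h⟩ := ihA
    obtain ⟨g', hg', h'⟩ := ihB
    exact ⟨g * g', mul_mem hg hg', h.mul hX hY h'⟩

end Cfsg.Agent.Lib.QPair
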