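import Cfsg.Agent.Lib.QPair.Unipotent

/-!
# Root maps and nilpotent pairs

A root map is a square zero map of least positive rank whose scalar family lies in `G`.
-/

set_option autoImplicit false

namespace Cfsg.Agent.Lib.QPair

open Cfsg LinearMap Polynomial

variable {k : Type*} [Field k] {M : Type*} [AddCommGroup M] [Module k M]

/-- The scalar family of a map lies in `G`. -/
def Fam (G : Subgroup (GeneralLinearGroup k M)) (Z : Module.End k M) : Prop := ∀ c : k, ∃ g ∈ G, dd g = c • Z

/-- A root map. -/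
structure IsRoot (G : Subgroup (GeneralLinearGroup k M)) (X : Module.End k M) : Prop where
  ne : X ≠ 0
  sq : X * X = 0
  fam : Fam G X
  min : ∀ Z : Module.End k M, Z ≠ 0 → Z * Z = 0 → Fam G Z →
    Module.finrank k (range X) ≤ Module.finrank k (range Z)

variable {G : Subgroup (GeneralLinearGroup k M)} {X Y Z : Module.End k M}

theorem Fam.zero : Fam G (0 : Module.End k M) := fun c => ⟨1, one_mem _, by rw [dd_one, smul_zero]⟩

theorem Fam.smul (hZ : Fam G Z) (a : k) : Fam G (a • Z) := fun c => by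
  obtain ⟨g, hg, e⟩ := hZ (c * a)
  exact ⟨g, hg, by rw [e, mul_smul]⟩

theorem Fam.neg (hZ : Fam G Z) : Fam G (-Z) := by simpa using hZ.smul (-1)

theorem Fam.add (hY : Fam G Y) (hZ : Fam G Z) (h : Y * Z = 0) : Fam G (Y + Z) := fun c => by
  obtain ⟨g, hg, e⟩ := hY c
  obtain ⟨g', hg', e'⟩ := hZ c
  refine ⟨g * g', mul_mem hg hg', ?_⟩
  rw [dd_mul, e, e', smul_mul_assoc, mul_smul_comm, h, smul_zero, smul_zero, add_zero, smul_add]

theorem Fam.of_two (hZ : Fam G (Z + Z)) (h2 : (2 : k) ≠ 0) : Fam G Z := by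
  have := hZ.smul (2 : k)⁻¹
  rwa [← two_smul k, inv_smul_smul₀ h2] at this

theorem Fam.exists_mem (hZ : Fam G Z) : ∃ g ∈ G, dd g = Z := by simpa using hZ 1

/-- Conjugation of endomorphisms. -/
def conjE (g : GeneralLinearGroup k M) (Z : Module.End k M) : Module.End k M :=
  (g : Module.End k M) * Z * ((g⁻¹ : GeneralLinearGroup k M) : Module.End k M)

theorem conjE_mul (g : GeneralLinearGroup k M) (A B : Module.End k M) : conjE g A * conjE g B = conjE g (A * B) := by
  simp only [conjE, mul_assoc]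
  rw [← mul_assoc ((g⁻¹ : GeneralLinearGroup k M) : Module.End k M) (g : Module.End k M), Units.inv_mul, one_mul]

theorem conjE_smul (g : GeneralLinearGroup k M) (c : k) (A : Module.End k M) : conjE g (c • A) = c • conjE g A := by
  simp only [conjE, mul_smul_comm, smul_mul_assoc]

theorem dd_conjE (g f : GeneralLinearGroup k M) : dd (g * f * g⁻¹) = conjE g (dd f) := by
  simp only [dd, conjE, mul_sub, sub_mul, mul_one]
  rw [Units.mul_inv]
  rfl

theorem conjE_eq_zero {g : GeneralLinearGroup k M} {A : Module.End k M} : conjE g A = 0 ↔ A = 0 := by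
  simp [conjE]

theorem Fam.conj (hZ : Fam G Z) {g : GeneralLinearGroup k M} (hg : g ∈ G) : Fam G (conjE g Z) := fun c => by
  obtain ⟨f, hf, e⟩ := hZ c
  exact ⟨g * f * g⁻¹, mul_mem (mul_mem hg hf) (inv_mem hg), by rw [dd_conjE, e, conjE_smul]⟩

theorem range_conjE (g : GeneralLinearGroup k M) (A : Module.End k M) :
    range (conjE g A) = (range A).map (g : Module.End k M) := by
  have h : range ((g⁻¹ : GeneralLinearGroup k M) : Module.End k M) = ⊤ := by
    rw [range_eq_top]
    exact fun m => ⟨(g : Module.End k M) m, by rw [← Module.End.mul_apply, Units.inv_mul]; rfl⟩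
  rw [conjE, Module.End.mul_eq_comp, range_comp, h, Submodule.map_top, Module.End.mul_eq_comp, range_comp]

theorem injective_coe (g : GeneralLinearGroup k M) : Function.Injective (g : Module.End k M) := fun a b e => by
  have := congrArg ((g⁻¹ : GeneralLinearGroup k M) : Module.End k M) e
  rwa [← Module.End.mul_apply, ← Module.End.mul_apply, Units.inv_mul] at this

theorem finrank_range_conjE (g : GeneralLinearGroup k M) (A : Module.End k M) :
    Module.finrank k (range (conjE g A)) = Module.finrank k (range A) := by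
  rw [range_conjE]
  exact (LinearEquiv.finrank_eq (Submodule.equivMapOfInjective _ (injective_coe g) _)).symm

theorem IsRoot.conj (hX : IsRoot G X) {g : GeneralLinearGroup k M} (hg : g ∈ G) : IsRoot G (conjE g X) where
  ne := fun h => hX.ne (conjE_eq_zero.mp h)
  sq := by rw [conjE_mul, hX.sq, conjE_eq_zero]
  fam := hX.fam.conj hg
  min := fun Z h1 h2 h3 => (finrank_range_conjE g X).trans_le (hX.min Z h1 h2 h3)

theorem IsRoot.rank_eq (hX : IsRoot G X) (hY : IsRoot G Y) :
    Module.finrank k (range X) = Module.finrank k (range Y) :=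
  le_antisymm (hX.min Y hY.ne hY.sq hY.fam) (hY.min X hX.ne hX.sq hX.fam)

theorem IsRoot.small (hX : IsRoot G X) (h2 : Z * Z = 0) (h3 : Fam G Z)
    (hlt : Module.finrank k (range Z) < Module.finrank k (range X)) : Z = 0 := by
  by_contra h
  have := hX.min Z h h2 h3
  omega

theorem IsRoot.smul (hX : IsRoot G X) {a : k} (ha : a ≠ 0) : IsRoot G (a • X) where
  ne := smul_ne_zero ha hX.ne
  sq := by rw [smul_mul_assoc, mul_smul_comm, hX.sq, smul_zero, smul_zero]
  fam := hX.fam.smul a
  min := fun Z h1 h2 h3 => by rw [range_smul X a ha]; exact hX.min Z h1 h2 h3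

theorem finrank_range_pos [FiniteDimensional k M] (hX : X ≠ 0) : 0 < Module.finrank k (range X) := by
  refine Nat.pos_of_ne_zero fun h => hX ?_
  rwa [Submodule.finrank_eq_zero, range_eq_bot] at h

/-! ### Nilpotent pairs -/

/-- If all alternating products of length five vanish then those of length three do. -/
theorem yxy_eq_zero_of_five [FiniteDimensional k M] (h2 : (2 : k) ≠ 0) (hX : IsRoot G X) (hY : IsRoot G Y)
    (h5 : X * Y * X * Y * X = 0) (h5' : Y * X * Y * X * Y = 0) : Y * X * Y = 0 := by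
  have hX2 : ∀ A, X * (X * A) = 0 := fun A => by rw [← mul_assoc, hX.sq, zero_mul]
  have hY2 : ∀ A, Y * (Y * A) = 0 := fun A => by rw [← mul_assoc, hY.sq, zero_mul]
  have g5 : X * (Y * (X * (Y * X))) = 0 := by rw [← h5]; simp only [mul_assoc]
  have g5' : Y * (X * (Y * (X * Y))) = 0 := by rw [← h5']; simp only [mul_assoc]
  have g5r : ∀ A, X * (Y * (X * (Y * (X * A)))) = 0 := fun A => by
    rw [show X * (Y * (X * (Y * (X * A)))) = (X * (Y * (X * (Y * X)))) * A by simp only [mul_assoc], g5, zero_mul]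
  have g5r' : ∀ A, Y * (X * (Y * (X * (Y * A)))) = 0 := fun A => by
    rw [show Y * (X * (Y * (X * (Y * A)))) = (Y * (X * (Y * (X * Y)))) * A by simp only [mul_assoc], g5', zero_mul]
  set W := Y * X * Y with hW
  have hWW : W * W = 0 := by simp only [hW, mul_assoc, hY2, mul_zero]
  have hfam : Fam G W := by
    intro c
    have key : ∀ t : k, ∃ g ∈ G, dd g = (4 * t) • W := by
      intro t
      obtain ⟨e, he, ee⟩ := hX.fam t
      obtain ⟨f, hf, ef⟩ := hY.fam 1
      rw [one_smul] at ef
      have he2 : dd e * dd e = 0 := by rw [ee, smul_mul_assoc, mul_smul_comm, hX.sq, smul_zero, smul_zero]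
      have heinv : dd e⁻¹ * dd e⁻¹ = 0 := by rw [dd_inv he2, neg_mul_neg, he2]
      set L := e * f * e⁻¹
      set L' := e⁻¹ * f * e⁻¹⁻¹
      have hA : dd L = (1 + t • X) * Y * (1 - t • X) := by rw [dd_conj he2, ee, ef]
      have hB : dd L' = (1 - t • X) * Y * (1 + t • X) := by
        rw [dd_conj heinv, dd_inv he2, ee, ef, sub_neg_eq_add, ← sub_eq_add_neg]
      have hP : dd (L' * L) - dd (L * L') = (4 * t) • W := by
        rw [dd_mul L' L, dd_mul L L', hA, hB]
        simp only [hW, mul_add, add_mul, mul_sub, sub_mul, one_mul, mul_one, smul_mul_assoc, mul_smul_comm,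
          mul_assoc, smul_add, smul_sub, smul_smul, hX.sq, hY.sq, hX2, hY2, g5, g5', g5r, g5r', mul_zero, zero_mul,
          smul_zero, sub_zero, add_zero, zero_add, zero_sub]
        module
      have hPW : dd (L * L') * W = 0 := by
        rw [dd_mul L L', hA, hB]
        simp only [hW, mul_add, add_mul, mul_sub, sub_mul, one_mul, mul_one, smul_mul_assoc, mul_smul_comm,
          mul_assoc, smul_add, smul_sub, smul_smul, smul_neg, neg_mul, mul_neg, hX.sq, hY.sq, hX2, hY2, g5, g5', g5r, g5r', mul_zero,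
          zero_mul, smul_zero, sub_zero, add_zero, zero_add, neg_zero, zero_sub]
      have hL : L ∈ G := mul_mem (mul_mem he hf) (inv_mem he)
      have hL' : L' ∈ G := mul_mem (mul_mem (inv_mem he) hf) (inv_mem (inv_mem he))
      refine ⟨(L * L')⁻¹ * (L' * L), mul_mem (inv_mem (mul_mem hL hL')) (mul_mem hL' hL), ?_⟩
      set P := L * L'
      set Q := L' * L
      have hQ : (Q : Module.End k M) = (P : Module.End k M) * (1 + (4 * t) • W) := by
        rw [coe_eq Q, coe_eq P, mul_add, mul_one, add_mul, one_mul, mul_smul_comm, hPW, smul_zero, add_zero, ← hP]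
        abel
      show ((P⁻¹ : GeneralLinearGroup k M) : Module.End k M) * (Q : Module.End k M) - 1 = _
      rw [hQ, ← mul_assoc, Units.inv_mul, one_mul, add_sub_cancel_left]
    have h4 : (4 : k) ≠ 0 := by rw [show (4 : k) = 2 * 2 by norm_num]; exact mul_ne_zero h2 h2
    obtain ⟨g, hg, e⟩ := key (c / 4)
    exact ⟨g, hg, by rw [e, mul_div_cancel₀ _ h4]⟩
  by_contra hne
  have hr : range W ≤ range Y := by rw [hW, mul_assoc, Module.End.mul_eq_comp]; exact range_comp_le_range _ _
  have heq : range W = range Y := Submodule.eq_of_le_of_finrank_le hr (hY.min W hne hWW hfam)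
  refine hne (LinearMap.ext fun m => ?_)
  have h1 : (range Y).map (Y * X) = range Y := by
    rw [← range_comp, ← Module.End.mul_eq_comp]
    exact heq
  have h3 : W m ∈ ((range Y).map (Y * X)).map (Y * X) := by
    rw [h1, h1]; exact hr (LinearMap.mem_range_self W m)
  obtain ⟨_, ⟨_, ⟨u, rfl⟩, rfl⟩, hu⟩ := h3
  rw [← hu]
  exact LinearMap.congr_fun g5' u

/-- The halving step. -/
theorem pow_conj_pair (hX : X * X = 0) (hY : Y * Y = 0) (j : ℕ) :
    ∃ s : k, (Y * ((1 + X) * Y * (1 - X))) ^ (j + 1) = s • (Y * (X * Y) ^ (2 * j + 1) * (1 - X)) := by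
  have hY2 : ∀ A, Y * (Y * A) = 0 := fun A => by rw [← mul_assoc, hY, zero_mul]
  induction j with
  | zero =>
    refine ⟨1, ?_⟩
    rw [pow_one, one_smul, mul_zero, zero_add, pow_one]
    simp only [mul_add, add_mul, mul_sub, sub_mul, one_mul, mul_one, mul_assoc, hY, hY2, mul_zero, zero_add, zero_sub,
      sub_zero]
  | succ j ih =>
    obtain ⟨s, hs⟩ := ih
    refine ⟨-s, ?_⟩
    rw [pow_succ, hs, show 2 * (j + 1) + 1 = 2 * j + 1 + 2 by ring, pow_add _ (2 * j + 1) 2, pow_two, pow_succ _ (2 * j)]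
    simp only [mul_add, add_mul, mul_sub, sub_mul, one_mul, mul_one, mul_assoc, hY, hY2, mul_zero, zero_add, zero_sub,
      sub_zero, smul_mul_assoc, neg_smul, smul_sub, smul_neg]
    abel

/-- Nilpotent pairs are short. -/
theorem nilpotent_pair [FiniteDimensional k M] (h2 : (2 : k) ≠ 0) (hX : IsRoot G X) (hY : IsRoot G Y)
    (hN : IsNilpotent (X * Y)) : X * Y * X = 0 ∧ Y * X * Y = 0 := by
  obtain ⟨m, hm⟩ := hN
  induction m using Nat.strong_induction_on generalizing X Y with
  | _ m ih =>
    suffices H : X * Y * X * Y * X = 0 ∧ Y * X * Y * X * Y = 0 from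
      ⟨yxy_eq_zero_of_five h2 hY hX H.2 H.1, yxy_eq_zero_of_five h2 hX hY H.1 H.2⟩
    rcases le_or_gt m 2 with h | h
    · have h' : X * Y * (X * Y) = 0 := by rw [← pow_two]; exact pow_eq_zero_of_le h hm
      constructor
      · rw [show X * Y * X * Y * X = X * Y * (X * Y) * X by simp only [mul_assoc], h', zero_mul]
      · rw [show Y * X * Y * X * Y = Y * (X * Y * (X * Y)) by simp only [mul_assoc], h', mul_zero]
    have half : ∀ A B : Module.End k M, IsRoot G A → IsRoot G B → B * (A * B) ^ m = 0 → B * A * B * A * B = 0 := by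
      intro A B hA hB hAB
      obtain ⟨e, he, ee⟩ := hA.fam.exists_mem
      have he2 : dd e * dd e = 0 := by rw [ee, hA.sq]
      have hc : conjE e B = (1 + A) * B * (1 - A) := by rw [conjE, inv_coe he2, coe_eq e, ee]
      have hB2 : ∀ C, B * (B * C) = 0 := fun C => by rw [← mul_assoc, hB.sq, zero_mul]
      obtain ⟨j, hj1, hj2⟩ : ∃ j, m ≤ 2 * j + 1 ∧ j + 1 < m := ⟨m / 2, by omega, by omega⟩
      have hpow : (B * conjE e B) ^ (j + 1) = 0 := by
        obtain ⟨s, hs⟩ := pow_conj_pair (k := k) hA.sq hB.sq j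
        obtain ⟨i, hi⟩ := Nat.le.dest hj1
        rw [hc, hs, ← hi, pow_add, ← mul_assoc B, hAB, zero_mul, zero_mul, smul_zero]
      have h3 := (ih (j + 1) hj2 hB (hB.conj he) hpow).1
      rw [hc] at h3
      have e3 : B * ((1 + A) * B * (1 - A)) * B = -(B * A * B * A * B) := by
        simp only [mul_add, add_mul, mul_sub, sub_mul, one_mul, mul_one, mul_assoc, hB.sq, hB2, mul_zero, zero_add,
          zero_sub, sub_zero]
      rw [e3, neg_eq_zero] at h3
      exact h3
    refine ⟨half Y X hY hX ?_, half X Y hX hY (by rw [hm, mul_zero])⟩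
    have e1 : ∀ i : ℕ, X * (Y * X) ^ i = (X * Y) ^ i * X := by
      intro i
      induction i with
      | zero => simp
      | succ i ihi => rw [pow_succ, ← mul_assoc, ihi, pow_succ]; simp only [mul_assoc]
    rw [e1, hm, zero_mul]

end Cfsg.Agent.Lib.QPair
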