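import Cfsg.Agent.Lib.QPair.Cases

/-!
# The root groups of a quadratic pair form abstract root subgroups
-/

set_option autoImplicit false

namespace Cfsg.Agent.Lib.QPair

open Cfsg LinearMap Cfsg.Lib.Linear.Dickson
open scoped MatrixGroups

section SubgroupOf

variable {X : Type*} [Group X] {K A B : Subgroup X}

theorem subgroupOf_map (hA : A ≤ K) : (A.subgroupOf K).map K.subtype = A := by
  rw [Subgroup.subgroupOf, Subgroup.map_comap_eq, Subgroup.range_subtype, inf_of_le_right hA]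

theorem commutator_subgroupOf (hA : A ≤ K) (hB : B ≤ K) :
    ⁅A.subgroupOf K, B.subgroupOf K⁆ = (⁅A, B⁆).subgroupOf K := by
  refine Subgroup.map_injective K.subtype_injective ?_
  rw [Subgroup.map_commutator, subgroupOf_map hA, subgroupOf_map hB, subgroupOf_map]
  exact Subgroup.commutator_le.mpr fun a ha b hb =>
    mul_mem (mul_mem (mul_mem (hA ha) (hB hb)) (inv_mem (hA ha))) (inv_mem (hB hb))

theorem conjBy_subgroupOf (g : K) : conjBy (A.subgroupOf K) g = (conjBy A (g : X)).subgroupOf K := by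
  ext x
  rw [RankOne.mem_conjBy, Subgroup.mem_subgroupOf, Subgroup.mem_subgroupOf, RankOne.mem_conjBy]
  rfl

theorem rankOne_subgroupOf (h : IsRankOnePair A B) (hA : A ≤ K) (hB : B ≤ K) :
    IsRankOnePair (A.subgroupOf K) (B.subgroupOf K) := by
  have hnA := h.nilpotent_left
  have hnB := h.nilpotent_right
  have aux : ∀ P Q : Subgroup X, Q ≤ K → RankOneCondition P Q → RankOneCondition (P.subgroupOf K) (Q.subgroupOf K) := by
    intro P Q hQ hc a ha ha1
    obtain ⟨b, hb, hb1, e⟩ := hc a ha fun h => ha1 (Subtype.ext h)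
    refine ⟨⟨b, hQ hb⟩, hb, fun h => hb1 (congrArg Subtype.val h), ?_⟩
    rw [conjBy_subgroupOf, conjBy_subgroupOf]
    exact congrArg (·.subgroupOf K) e
  refine ⟨fun e => h.ne ?_, Group.nilpotent_of_mulEquiv (Subgroup.subgroupOfEquivOfLe hA).symm,
    Group.nilpotent_of_mulEquiv (Subgroup.subgroupOfEquivOfLe hB).symm, aux A B hB h.cond_left, aux B A hA h.cond_right⟩
  rw [← subgroupOf_map hA, e, subgroupOf_map hB]

theorem closure_subgroupOf (hB : B ≤ K) (a : K) :
    Subgroup.closure ((fun b : K => a * b * a⁻¹ * b⁻¹) '' (B.subgroupOf K : Set K)) =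
      (Subgroup.closure ((fun b : X => (a : X) * b * (a : X)⁻¹ * b⁻¹) '' (B : Set X))).subgroupOf K := by
  refine Subgroup.map_injective K.subtype_injective ?_
  rw [subgroupOf_map ((Subgroup.closure_le _).mpr (by
    rintro _ ⟨b, hb, rfl⟩
    exact mul_mem (mul_mem (mul_mem a.2 (hB hb)) (inv_mem a.2)) (inv_mem (hB hb)))), MonoidHom.map_closure]
  congr 1
  ext x
  constructor
  · rintro ⟨_, ⟨b, hb, rfl⟩, rfl⟩
    exact ⟨(b : X), hb, rfl⟩
  · rintro ⟨b, hb, rfl⟩
    exact ⟨_, ⟨⟨b, hB hb⟩, hb, rfl⟩, rfl⟩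

theorem closure_subgroupOf' (hA : A ≤ K) (b : K) :
    Subgroup.closure ((fun a : K => a * b * a⁻¹ * b⁻¹) '' (A.subgroupOf K : Set K)) =
      (Subgroup.closure ((fun a : X => a * (b : X) * a⁻¹ * (b : X)⁻¹) '' (A : Set X))).subgroupOf K := by
  refine Subgroup.map_injective K.subtype_injective ?_
  rw [subgroupOf_map ((Subgroup.closure_le _).mpr (by
    rintro _ ⟨a, ha, rfl⟩
    exact mul_mem (mul_mem (mul_mem (hA ha) b.2) (inv_mem (hA ha))) (inv_mem b.2))), MonoidHom.map_closure]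
  congr 1
  ext x
  constructor
  · rintro ⟨_, ⟨a, ha, rfl⟩, rfl⟩
    exact ⟨(a : X), ha, rfl⟩
  · rintro ⟨a, ha, rfl⟩
    exact ⟨_, ⟨⟨a, hA ha⟩, ha, rfl⟩, rfl⟩

end SubgroupOf

variable {k : Type*} [Field k] {M : Type*} [AddCommGroup M] [Module k M] [FiniteDimensional k M]
  {G : Subgroup (GeneralLinearGroup k M)}

theorem root_le (σ : GeneralLinearGroup k M) (hσ : σ ∈ minimalQuadraticElements G) :
    sameActionSubgroup G σ ≤ G := fun _ hx => ((mem_root_group hσ).mp hx).1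

theorem roots_le : (⨆ A ∈ quadraticRootSubgroups G, A) ≤ G :=
  iSup₂_le fun A ⟨σ, hσ, e⟩ => e ▸ root_le σ hσ

theorem self_mem_group {σ : GeneralLinearGroup k M} (hσ : σ ∈ minimalQuadraticElements G) :
    σ ∈ sameActionSubgroup G σ := (mem_root_group hσ).mpr ⟨hσ.1.1, self_mem_sp (root_of_minimal hσ)⟩

theorem minimal_ne_one {σ : GeneralLinearGroup k M} (hσ : σ ∈ minimalQuadraticElements G) : σ ≠ 1 :=
  fun h => (root_of_minimal hσ).ne (dd_eq_zero.mpr h)

theorem conj_mem_roots {A : Subgroup (GeneralLinearGroup k M)} (hA : A ∈ quadraticRootSubgroups G)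
    {g : GeneralLinearGroup k M} (hg : g ∈ G) : conjBy A g ∈ quadraticRootSubgroups G := by
  obtain ⟨σ, hσ, rfl⟩ := hA
  exact ⟨_, (conjBy_root_group hσ hg).1, (conjBy_root_group hσ hg).2⟩

/-- The three cases. -/
theorem cases_of (hk2 : ringChar k ≠ 2) (hk3 : Nat.card k ≠ 3) (hG : IsQuadraticPair G)
    {σ τ : GeneralLinearGroup k M} (hσ : σ ∈ minimalQuadraticElements G) (hτ : τ ∈ minimalQuadraticElements G) :
    ⁅sameActionSubgroup G σ, sameActionSubgroup G τ⁆ = ⊥ ∨
      IsRankOnePair (sameActionSubgroup G σ) (sameActionSubgroup G τ) ∨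
      RootCommutatorCase (quadraticRootSubgroups G) (sameActionSubgroup G σ) (sameActionSubgroup G τ) := by
  by_cases hN : IsNilpotent (dd σ * dd τ)
  · by_cases hne : dd σ * dd τ - dd τ * dd σ = 0
    · left
      rw [sub_eq_zero] at hne
      rw [RankOne.commutator_eq_bot_iff]
      exact fun a ha b hb => commute_iff.mpr (sp_commute_all hk2 (root_of_minimal hσ) (root_of_minimal hτ) hne
        ((mem_root_group hσ).mp ha).2 ((mem_root_group hτ).mp hb).2)
    · obtain ⟨a, b, c, -, -, d, -⟩ := core_of hk2 hk3 hG hσ hτ hN hne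
      exact Or.inr (Or.inr ⟨a, d, b, c⟩)
  · exact Or.inr (Or.inl (rankOne_of hk2 hk3 hσ hτ hN).1)

theorem rootSet (hk2 : ringChar k ≠ 2) (hk3 : Nat.card k ≠ 3) (hG : IsQuadraticPair G) :
    IsRootSubgroupSet ((fun A : Subgroup (GeneralLinearGroup k M) =>
      A.subgroupOf (⨆ B ∈ quadraticRootSubgroups G, B)) '' quadraticRootSubgroups G) := by
  set K := ⨆ B ∈ quadraticRootSubgroups G, B with hK
  have hle : ∀ A ∈ quadraticRootSubgroups G, A ≤ K := fun A hA => le_iSup₂ (f := fun B _ => B) A hA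
  refine ⟨?_, ?_, ?_, ?_, ?_⟩
  · rintro _ ⟨A, ⟨σ, hσ, rfl⟩, rfl⟩
    exact ⟨⟨fun a b => Subtype.ext (Subtype.ext (comm_of_mem hσ a.2 b.2))⟩⟩
  · rintro _ ⟨A, hA, rfl⟩ e
    obtain ⟨σ, hσ, rfl⟩ := id hA
    have h1 : (⟨σ, hle _ hA (self_mem_group hσ)⟩ : K) ∈ (sameActionSubgroup G σ).subgroupOf K := self_mem_group hσ
    replace e : (sameActionSubgroup G σ).subgroupOf K = ⊥ := e
    rw [e, Subgroup.mem_bot] at h1
    exact minimal_ne_one hσ (congrArg Subtype.val h1)
  · refine Subgroup.map_injective K.subtype_injective ?_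
    rw [← MonoidHom.range_eq_map, Subgroup.range_subtype, iSup_image, Subgroup.map_iSup]
    simp only [Subgroup.map_iSup]
    exact iSup_congr fun A => iSup_congr fun hA => subgroupOf_map (hle A hA)
  · rintro _ ⟨A, hA, rfl⟩ g
    exact ⟨conjBy A (g : GeneralLinearGroup k M), conj_mem_roots hA (roots_le g.2), (conjBy_subgroupOf g).symm⟩
  · rintro _ ⟨A, hA, rfl⟩ _ ⟨B, hB, rfl⟩
    have hAK := hle A hA
    have hBK := hle B hB
    obtain ⟨σ, hσ, rfl⟩ := id hA
    obtain ⟨τ, hτ, rfl⟩ := id hB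
    rcases cases_of hk2 hk3 hG hσ hτ with h | h | ⟨h1, h2, h3, h4⟩
    · refine Or.inl ?_
      rw [commutator_subgroupOf hAK hBK, h, Subgroup.bot_subgroupOf]
    · exact Or.inr (Or.inl (rankOne_subgroupOf h hAK hBK))
    · refine Or.inr (Or.inr ⟨?_, ?_, ?_, ?_⟩)
      · rw [commutator_subgroupOf hAK hBK]; exact ⟨_, h1, rfl⟩
      · intro c hc x hx
        rw [commutator_subgroupOf hAK hBK] at hc
        refine Subtype.ext (h2 _ hc _ ?_)
        have h5 := Subgroup.mem_map_of_mem K.subtype hx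
        rwa [Subgroup.map_sup, subgroupOf_map hAK, subgroupOf_map hBK] at h5
      · intro a ha ha1
        have h5 := h3 (a : GeneralLinearGroup k M) ha fun h => ha1 (Subtype.ext h)
        rw [closure_subgroupOf hBK, commutator_subgroupOf hAK hBK, h5]
      · intro b hb hb1
        have h5 := h4 (b : GeneralLinearGroup k M) hb fun h => hb1 (Subtype.ext h)
        rw [closure_subgroupOf' hAK, commutator_subgroupOf hAK hBK, h5]

theorem no_isolated (hk2 : ringChar k ≠ 2) (hk3 : Nat.card k ≠ 3) (hG : IsQuadraticPair G)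
    {A : Subgroup (GeneralLinearGroup k M)} (hA : A ∈ quadraticRootSubgroups G) :
    ∃ g ∈ G, IsRankOnePair A (conjBy A g) := by
  obtain ⟨σ, hσ, rfl⟩ := hA
  obtain ⟨g, hg, hN⟩ := exists_partner hk2 hk3 hG (root_of_minimal hσ)
  obtain ⟨h1, h2⟩ := conjBy_root_group hσ hg
  exact ⟨g, hg, h2 ▸ (rankOne_of hk2 hk3 hσ h1 (by rwa [dd_conjE])).1⟩

theorem not_nilpotent_of_pair (hk2 : ringChar k ≠ 2) (hk3 : Nat.card k ≠ 3) (hG : IsQuadraticPair G)
    {σ τ : GeneralLinearGroup k M} (hσ : σ ∈ minimalQuadraticElements G) (hτ : τ ∈ minimalQuadraticElements G)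
    (h : IsRankOnePair (sameActionSubgroup G σ) (sameActionSubgroup G τ)) : ¬ IsNilpotent (dd σ * dd τ) := by
  intro hN
  set A := sameActionSubgroup G σ
  set B := sameActionSubgroup G τ
  have hcomm : (∀ b ∈ B, σ * b = b * σ) → False := fun hc =>
    minimal_ne_one hσ (RankOne.eq_one_of_normalizes h (self_mem_group hσ) (RankOne.conjBy_eq_self_of_commute hc))
  by_cases hne : dd σ * dd τ - dd τ * dd σ = 0
  · rw [sub_eq_zero] at hne
    exact hcomm fun b hb => commute_iff.mpr (sp_commute_all hk2 (root_of_minimal hσ) (root_of_minimal hτ) hne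
      (self_mem_sp (root_of_minimal hσ)) ((mem_root_group hτ).mp hb).2)
  obtain ⟨-, -, -, -, -, hz, -⟩ := core_of hk2 hk3 hG hσ hτ hN hne
  obtain ⟨b, hb, -, e⟩ := h.cond_left σ (self_mem_group hσ) (minimal_ne_one hσ)
  have h1 : b⁻¹ * σ * b ∈ conjBy B σ⁻¹ := e ▸ (by
    have := RankOne.conj_mem_conjBy (g := b⁻¹) (self_mem_group hσ)
    simpa using this)
  rw [RankOne.mem_conjBy, inv_inv] at h1
  set b' := σ * (b⁻¹ * σ * b) * σ⁻¹ with hb'
  have hd : ∀ x ∈ A, ∀ y ∈ B, x * y * x⁻¹ * y⁻¹ ∈ ⁅A, B⁆ := fun x hx y hy =>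
    Subgroup.commutator_mem_commutator hx hy
  have key : ∃ d ∈ ⁅A, B⁆, σ = d * b' := by
    set z₁ := σ⁻¹ * b⁻¹ * σ * b with hz₁
    have hz1D : z₁ ∈ ⁅A, B⁆ := by
      have := hd σ⁻¹ (inv_mem (self_mem_group hσ)) b⁻¹ (inv_mem hb)
      simpa [hz₁, mul_assoc] using this
    have hzc := hz z₁ hz1D σ (Subgroup.mem_sup_left (self_mem_group hσ))
    refine ⟨z₁⁻¹, inv_mem hz1D, ?_⟩
    have e1 : b' = σ * z₁ := by
      rw [hb', show b⁻¹ * σ * b = σ * z₁ by rw [hz₁]; group, ← hzc, ← mul_assoc, mul_inv_cancel_right]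
      exact hzc.symm
    rw [e1, ← hzc, inv_mul_cancel_left]
  obtain ⟨d, hd', e2⟩ := key
  refine hcomm fun y hy => ?_
  rw [e2, mul_assoc, comm_of_mem hτ h1 hy, ← mul_assoc, hz d hd' y (Subgroup.mem_sup_right hy), mul_assoc]

theorem four_le (hk2 : ringChar k ≠ 2) (hk3 : Nat.card k ≠ 3) {K : Type*} [Field K] [Algebra k K] :
    (3 : ℕ∞) < ENat.card K := by
  have h2 : (2 : k) ≠ 0 := Ring.two_ne_zero hk2
  obtain ⟨b, hb, hb2⟩ := exists_scalar h2 hk3
  let e : Fin 4 → k := ![0, 1, -1, b]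
  have n1 : (1 : k) ≠ -1 := fun h => h2 (by linear_combination h)
  have n2 : b ≠ 1 := fun h => hb2 (by rw [h, one_mul])
  have n3 : b ≠ -1 := fun h => hb2 (by rw [h]; ring)
  have hinj : Function.Injective e := by
    intro i j hij
    fin_cases i <;> fin_cases j <;> simp [e] at hij ⊢
    all_goals first
      | exact n1 hij
      | exact n1 hij.symm
      | exact n2 hij
      | exact n2 hij.symm
      | exact n3 hij
      | exact n3 hij.symm
      | exact hb hij
      | exact hb hij.symm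
  have := ENat.card_le_card_of_injective ((algebraMap k K).injective.comp hinj)
  rw [ENat.card_eq_coe_fintype_card, Fintype.card_fin] at this
  exact lt_of_lt_of_le (by norm_num) this

theorem ker_pev_le {X Y : Module.End k M} (hX : X * X = 0) (hY : Y * Y = 0) (p : Polynomial k) :
    LinearMap.ker Y ≤ LinearMap.ker (Y * pev X Y p) := by
  intro m hm
  show Y (pev X Y p m) = 0
  induction p using Polynomial.induction_on' with
  | add a b ha hb => rw [map_add, LinearMap.add_apply, map_add, ha, hb, add_zero]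
  | monomial j c =>
    rw [pev, Polynomial.aeval_monomial, Module.End.mul_apply, Module.algebraMap_end_apply, map_smul]
    rcases j with - | j
    · rw [pow_zero, Module.End.one_apply, show Y m = 0 from hm, smul_zero]
    · rw [pow_succ, Module.End.mul_apply, Module.End.mul_apply X Y m, show Y m = 0 from hm, map_zero, map_zero,
        map_zero, smul_zero]

theorem upper_eq {K : Type*} [Field K] : (upperUnipotentSL2 K : Subgroup SL(2, K)) = Subgroup.closure (Set.range tU) := by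
  refine congrArg Subgroup.closure (Set.ext fun g => ⟨fun ⟨a, b, c⟩ => ⟨g 0 1, ?_⟩, ?_⟩)
  · apply ext_two <;> simp [tU_coe, a, b, c]
  · rintro ⟨z, rfl⟩; simp [tU_coe]

theorem lower_eq {K : Type*} [Field K] : (lowerUnipotentSL2 K : Subgroup SL(2, K)) = Subgroup.closure (Set.range tL) := by
  refine congrArg Subgroup.closure (Set.ext fun g => ⟨fun ⟨a, b, c⟩ => ⟨g 1 0, ?_⟩, ?_⟩)
  · apply ext_two <;> simp [tL_coe, a, b, c]
  · rintro ⟨z, rfl⟩; simp [tL_coe]

universe u

variable {k' : Type u} [Field k'] {M' : Type u} [AddCommGroup M'] [Module k' M'] [FiniteDimensional k' M']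
  {G' : Subgroup (GeneralLinearGroup k' M')}

/-- A rank one pair contains an image of `SL₂`. -/
theorem psl_pair (hk2 : ringChar k' ≠ 2) (hk3 : Nat.card k' ≠ 3) {σ τ : GeneralLinearGroup k' M'}
    (hσ : σ ∈ minimalQuadraticElements G') (hτ : τ ∈ minimalQuadraticElements G')
    (hN : ¬ IsNilpotent (dd σ * dd τ)) :
    ∃ A₀ B₀ : Subgroup (GeneralLinearGroup k' M'), A₀ ≤ sameActionSubgroup G' σ ∧ B₀ ≤ sameActionSubgroup G' τ ∧
      ∃ (k₁ : Type u) (_ : Field k₁), 3 < ENat.card k₁ ∧ IsPSL2PairOver k₁ A₀ B₀ := by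
  have hX := root_of_minimal hσ
  have hY := root_of_minimal hτ
  obtain ⟨f, P⟩ := exists_good hk2 hk3 hX hY hN
  have : Fact (Irreducible f) := ⟨P.irr⟩
  refine ⟨(upperUnipotentSL2 (AdjoinRoot f)).map P.psi, (lowerUnipotentSL2 (AdjoinRoot f)).map P.psi, ?_, ?_,
    AdjoinRoot f, inferInstance, four_le hk2 hk3, P.psi, ?_, ?_, rfl, rfl⟩
  · rw [upper_eq, MonoidHom.map_closure, Subgroup.closure_le]
    rintro _ ⟨_, ⟨z, rfl⟩, rfl⟩
    refine (mem_root_group hσ).mpr ⟨P.psi_mem hk2 hk3 _, ?_⟩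
    obtain ⟨q, rfl⟩ := AdjoinRoot.mk_surjective z
    rw [P.dd_upper]
    refine mem_sp hX.sq (P.fam q) (range_pev_le q) fun m hm => ?_
    show pev (dd σ) (dd τ) q (dd σ m) = 0
    rw [show dd σ m = 0 from hm, map_zero]
  · rw [lower_eq, MonoidHom.map_closure, Subgroup.closure_le]
    rintro _ ⟨_, ⟨z, rfl⟩, rfl⟩
    refine (mem_root_group hτ).mpr ⟨P.psi_mem hk2 hk3 _, ?_⟩
    obtain ⟨r, hr⟩ := AdjoinRoot.mk_surjective (z / AdjoinRoot.root f)
    have hz : z = AdjoinRoot.root f * AdjoinRoot.mk f r := by rw [hr, mul_div_cancel₀ _ P.root_ne]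
    rw [hz, P.dd_lower]
    refine mem_sp hY.sq (fun c => ⟨P.psi (tL (AdjoinRoot.root f * AdjoinRoot.mk f (Polynomial.C c * r))),
      P.psi_mem hk2 hk3 _, ?_⟩) (range_mul_le _ _) (ker_pev_le hX.sq hY.sq r)
    rw [P.dd_lower, ← Polynomial.smul_eq_C_mul, pev, map_smul, mul_smul_comm]
  · rw [← Subgroup.map_sup, MonoidHom.range_eq_map]
    congr 1
    symm
    refine eq_top_of_root_groups (AdjoinRoot.powerBasis P.irr.ne_zero) ?_ hk2 hk3 _ (fun c => ?_) fun c => ?_
    · rw [AdjoinRoot.powerBasis_gen]; exact P.root_ne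
    · exact Subgroup.mem_sup_left (upper_eq (K := AdjoinRoot f) ▸ Subgroup.subset_closure ⟨_, rfl⟩)
    · exact Subgroup.mem_sup_right (lower_eq (K := AdjoinRoot f) ▸ Subgroup.subset_closure ⟨_, rfl⟩)
  · rw [(MonoidHom.ker_eq_bot_iff _).mpr P.psi_injective]
    exact bot_le

end Cfsg.Agent.Lib.QPair
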