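import Cfsg.Agent.Lib.QPair.Hom

/-!
# The space of a root map

`sp G X` is the space of maps with the range and kernel of `X` whose scalar families lie in `G`.
-/

set_option autoImplicit false

namespace Cfsg.Agent.Lib.QPair

open Cfsg LinearMap

variable {k : Type*} [Field k] {M : Type*} [AddCommGroup M] [Module k M] {G : Subgroup (GeneralLinearGroup k M)}
  {X Y Z : Module.End k M}

/-- The space of a root map. -/
def sp (G : Subgroup (GeneralLinearGroup k M)) (X : Module.End k M) : Submodule k (Module.End k M) where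
  carrier := {Z | (X * X = 0 ∧ Fam G Z ∧ range Z ≤ range X ∧ ker X ≤ ker Z) ∨ Z = 0}
  zero_mem' := Or.inr rfl
  add_mem' := by
    intro A B hA hB
    rcases hA with ⟨h0, hA1, hA2, hA3⟩ | rfl
    swap
    · rw [zero_add]; exact hB
    rcases hB with ⟨-, hB1, hB2, hB3⟩ | rfl
    swap
    · rw [add_zero]; exact Or.inl ⟨h0, hA1, hA2, hA3⟩
    refine Or.inl ⟨h0, hA1.add hB1 (LinearMap.ext fun m => hA3 ?_), (range_add_le _ _).trans (sup_le hA2 hB2),
      fun m hm => ?_⟩
    · obtain ⟨u, hu⟩ := hB2 (LinearMap.mem_range_self B m)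
      rw [← hu]
      exact LinearMap.congr_fun h0 u
    · show A m + B m = 0
      rw [show A m = 0 from hA3 hm, show B m = 0 from hB3 hm, add_zero]
  smul_mem' := by
    intro c A hA
    rcases hA with ⟨h0, hA1, hA2, hA3⟩ | rfl
    · refine Or.inl ⟨h0, hA1.smul c, ?_, fun m hm => ?_⟩
      · rintro _ ⟨m, rfl⟩
        exact Submodule.smul_mem _ c (hA2 (LinearMap.mem_range_self A m))
      · show c • A m = 0
        rw [show A m = 0 from hA3 hm, smul_zero]
    · rw [smul_zero]; exact Or.inr rfl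

theorem mem_sp (hX : X * X = 0) (h1 : Fam G Z) (h2 : range Z ≤ range X) (h3 : ker X ≤ ker Z) : Z ∈ sp G X :=
  Or.inl ⟨hX, h1, h2, h3⟩

theorem self_mem_sp (hX : IsRoot G X) : X ∈ sp G X := mem_sp hX.sq hX.fam le_rfl le_rfl

theorem sp_fam (hZ : Z ∈ sp G X) : Fam G Z := by
  rcases hZ with ⟨-, h, -, -⟩ | rfl
  · exact h
  · exact Fam.zero

theorem sp_range (hZ : Z ∈ sp G X) : range Z ≤ range X := by
  rcases hZ with ⟨-, -, h, -⟩ | rfl
  · exact h
  · simp

theorem sp_ker (hZ : Z ∈ sp G X) : ker X ≤ ker Z := by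
  rcases hZ with ⟨-, -, -, h⟩ | rfl
  · exact h
  · simp

theorem sp_mul (hX : IsRoot G X) {A B : Module.End k M} (hA : A ∈ sp G X) (hB : B ∈ sp G X) : A * B = 0 := by
  refine LinearMap.ext fun m => sp_ker hA ?_
  obtain ⟨u, hu⟩ := sp_range hB (LinearMap.mem_range_self B m)
  rw [← hu]
  exact LinearMap.congr_fun hX.sq u

theorem mul_sp_eq_zero (hZ : Z ∈ sp G X) {A : Module.End k M} (h : A * X = 0) : A * Z = 0 := by
  refine LinearMap.ext fun m => ?_
  obtain ⟨u, hu⟩ := sp_range hZ (LinearMap.mem_range_self Z m)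
  show A (Z m) = 0
  rw [← hu]
  exact LinearMap.congr_fun h u

theorem sp_mul_eq_zero (hZ : Z ∈ sp G X) {A : Module.End k M} (h : X * A = 0) : Z * A = 0 :=
  LinearMap.ext fun m => sp_ker hZ (LinearMap.congr_fun h m)

variable [FiniteDimensional k M]

theorem sp_root (hX : IsRoot G X) (hZ : Z ∈ sp G X) (h0 : Z ≠ 0) :
    IsRoot G Z ∧ range Z = range X ∧ ker Z = ker X := by
  have h1 : Z * Z = 0 := sp_mul hX hZ hZ
  have hr := Submodule.eq_of_le_of_finrank_le (sp_range hZ) (hX.min Z h0 h1 (sp_fam hZ))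
  refine ⟨⟨h0, h1, sp_fam hZ, fun W a b c => hr ▸ hX.min W a b c⟩, hr, (Submodule.eq_of_le_of_finrank_le (sp_ker hZ) ?_).symm⟩
  have e1 := LinearMap.finrank_range_add_finrank_ker X
  have e2 := LinearMap.finrank_range_add_finrank_ker Z
  rw [hr] at e2
  omega

theorem sp_congr (hX : IsRoot G X) (hY : IsRoot G Y) (hr : range Y = range X) (hk : ker Y = ker X) :
    sp G Y = sp G X := by
  ext Z
  constructor <;> intro h
  · exact mem_sp hX.sq (sp_fam h) (hr ▸ sp_range h) (hk ▸ sp_ker h)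
  · exact mem_sp hY.sq (sp_fam h) (hr.symm ▸ sp_range h) (hk.symm ▸ sp_ker h)

theorem sp_eq (hX : IsRoot G X) (hZ : Z ∈ sp G X) (h0 : Z ≠ 0) : sp G Z = sp G X := by
  obtain ⟨h1, h2, h3⟩ := sp_root hX hZ h0
  exact sp_congr hX h1 h2 h3

omit [FiniteDimensional k M] in
theorem ker_conjE_le {A B : Module.End k M} (h : ker A ≤ ker B) (g : GeneralLinearGroup k M) :
    ker (conjE g A) ≤ ker (conjE g B) := fun m hm => by
  have h1 : A (((g⁻¹ : GeneralLinearGroup k M) : Module.End k M) m) = 0 :=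
    injective_coe g (by rw [map_zero]; exact hm)
  show (g : Module.End k M) (B _) = 0
  rw [show B (((g⁻¹ : GeneralLinearGroup k M) : Module.End k M) m) = 0 from h h1, map_zero]

omit [FiniteDimensional k M] in
theorem conj_mem_sp (hX : IsRoot G X) (hZ : Z ∈ sp G X) {g : GeneralLinearGroup k M} (hg : g ∈ G) :
    conjE g Z ∈ sp G (conjE g X) :=
  mem_sp (hX.conj hg).sq ((sp_fam hZ).conj hg) (by rw [range_conjE, range_conjE]; exact Submodule.map_mono (sp_range hZ))
    (ker_conjE_le (sp_ker hZ) g)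

omit [FiniteDimensional k M] in
theorem conjE_conjE (g h : GeneralLinearGroup k M) (A : Module.End k M) : conjE g (conjE h A) = conjE (g * h) A := by
  simp only [conjE, _root_.mul_inv_rev, Units.val_mul, mul_assoc]

omit [FiniteDimensional k M] in
theorem conjE_one (A : Module.End k M) : conjE 1 A = A := by simp [conjE]

omit [FiniteDimensional k M] in
theorem mem_sp_conj_iff (hX : IsRoot G X) {g : GeneralLinearGroup k M} (hg : g ∈ G) {W : Module.End k M} :
    W ∈ sp G (conjE g X) ↔ conjE g⁻¹ W ∈ sp G X := by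
  constructor
  · intro h
    have := conj_mem_sp (hX.conj hg) h (inv_mem hg)
    rwa [conjE_conjE, inv_mul_cancel, conjE_one] at this
  · intro h
    have := conj_mem_sp hX h hg
    rwa [conjE_conjE, mul_inv_cancel, conjE_one] at this

theorem finrank_sp_conj (hX : IsRoot G X) {g : GeneralLinearGroup k M} (hg : g ∈ G) :
    Module.finrank k (sp G (conjE g X)) = Module.finrank k (sp G X) := by
  let e : sp G X ≃ₗ[k] sp G (conjE g X) :=
    { toFun := fun Z => ⟨conjE g Z, conj_mem_sp hX Z.2 hg⟩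
      invFun := fun W => ⟨conjE g⁻¹ W, (mem_sp_conj_iff hX hg).mp W.2⟩
      left_inv := fun Z => Subtype.ext (by show conjE g⁻¹ (conjE g (Z : Module.End k M)) = _; rw [conjE_conjE, inv_mul_cancel, conjE_one])
      right_inv := fun W => Subtype.ext (by show conjE g (conjE g⁻¹ (W : Module.End k M)) = _; rw [conjE_conjE, mul_inv_cancel, conjE_one])
      map_add' := fun A B => Subtype.ext (by
        show conjE g ((A : Module.End k M) + B) = conjE g A + conjE g B
        simp [conjE, mul_add, add_mul])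
      map_smul' := fun c A => Subtype.ext (conjE_smul g c A) }
  exact e.finrank_eq.symm

/-! ### Minimal quadratic elements -/

omit [FiniteDimensional k M] in
theorem root_of_minimal {σ : GeneralLinearGroup k M} (hσ : σ ∈ minimalQuadraticElements G) : IsRoot G (dd σ) := by
  obtain ⟨h0, h1, h2, h3⟩ := (quadratic_iff G).mp hσ.1
  refine ⟨h2, h1, h3, fun Z hne hsq hfam => ?_⟩
  obtain ⟨g, hg, e⟩ := hfam.exists_mem
  have := hσ.2 g ((quadratic_iff G).mpr ⟨hg, by rw [e, hsq], by rw [e]; exact hne, fun c => e ▸ hfam c⟩)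
  rw [← e]
  exact this

omit [FiniteDimensional k M] in
theorem minimal_of_root {g : GeneralLinearGroup k M} (hg : g ∈ G) (hX : IsRoot G (dd g)) :
    g ∈ minimalQuadraticElements G := by
  refine ⟨(quadratic_iff G).mpr ⟨hg, hX.sq, hX.ne, hX.fam⟩, fun τ hτ => ?_⟩
  obtain ⟨-, h1, h2, h3⟩ := (quadratic_iff G).mp hτ
  exact hX.min _ h2 h1 h3

omit [FiniteDimensional k M] in
theorem qSpace_eq_sp {σ : GeneralLinearGroup k M} (hσ : σ ∈ minimalQuadraticElements G) :
    qSpace G σ = sp G (dd σ) := by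
  ext Z
  constructor
  · intro h
    exact mem_sp (minimal_sq hσ) (fun c => qSpace_exists h c) (qSpace_range h) (qSpace_ker h)
  · intro h
    exact mem_qSpace hσ (sp_range h) (sp_ker h) (sp_fam h)

omit [FiniteDimensional k M] in
theorem exists_minimal (hX : IsRoot G X) : ∃ σ ∈ minimalQuadraticElements G, dd σ = X := by
  obtain ⟨g, hg, e⟩ := hX.fam.exists_mem
  exact ⟨g, minimal_of_root hg (e ▸ hX), e⟩

theorem mem_root_group {σ g : GeneralLinearGroup k M} (hσ : σ ∈ minimalQuadraticElements G) :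
    g ∈ sameActionSubgroup G σ ↔ g ∈ G ∧ dd g ∈ sp G (dd σ) := by
  rw [mem_sameAction hσ, qSpace_eq_sp hσ]

theorem root_group_eq {σ τ : GeneralLinearGroup k M} (hσ : σ ∈ minimalQuadraticElements G)
    (hτ : τ ∈ minimalQuadraticElements G) (h : sp G (dd τ) = sp G (dd σ)) :
    sameActionSubgroup G τ = sameActionSubgroup G σ := by
  ext g
  rw [mem_root_group hσ, mem_root_group hτ, h]

theorem conjBy_root_group {σ g : GeneralLinearGroup k M} (hσ : σ ∈ minimalQuadraticElements G) (hg : g ∈ G) :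
    g * σ * g⁻¹ ∈ minimalQuadraticElements G ∧
      conjBy (sameActionSubgroup G σ) g = sameActionSubgroup G (g * σ * g⁻¹) := by
  have h1 : g * σ * g⁻¹ ∈ minimalQuadraticElements G :=
    minimal_of_root (mul_mem (mul_mem hg hσ.1.1) (inv_mem hg)) (by rw [dd_conjE]; exact (root_of_minimal hσ).conj hg)
  refine ⟨h1, Subgroup.ext fun x => ?_⟩
  rw [RankOne.mem_conjBy, mem_root_group hσ, mem_root_group h1, dd_conjE, mem_sp_conj_iff (root_of_minimal hσ) hg]
  refine and_congr ⟨fun h => ?_, fun h => mul_mem (mul_mem (inv_mem hg) h) hg⟩ ?_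
  · have := mul_mem (mul_mem hg h) (inv_mem hg)
    simpa [mul_assoc] using this
  · have e := dd_conjE g⁻¹ x
    rw [inv_inv] at e
    rw [e]

theorem sp_commute_all (hk2 : ringChar k ≠ 2) (hX : IsRoot G X) (hY : IsRoot G Y) (hc : X * Y = Y * X)
    {X' Y' : Module.End k M} (hX' : X' ∈ sp G X) (hY' : Y' ∈ sp G Y) : X' * Y' = Y' * X' := by
  obtain ⟨σ, hσ, rfl⟩ := exists_minimal hX
  obtain ⟨τ, hτ, rfl⟩ := exists_minimal hY
  rw [← qSpace_eq_sp hσ] at hX'
  rw [← qSpace_eq_sp hτ] at hY'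
  exact commute_all hk2 hσ hτ (self_mem_qSpace hσ) hX.ne (self_mem_qSpace hτ) hY.ne hc.symm X' hX' Y' hY'

end Cfsg.Agent.Lib.QPair
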