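import Cfsg.Agent.Lib.QPair.Components

/-!
# The root groups fall into finitely many classes
-/

set_option autoImplicit false

namespace Cfsg.Agent.Lib.QPair

open Cfsg LinearMap
open scoped MatrixGroups commutatorElement

variable {k : Type*} [Field k] {M : Type*} [AddCommGroup M] [Module k M] [FiniteDimensional k M]
  {G : Subgroup (GeneralLinearGroup k M)} {A₀ : Subgroup (GeneralLinearGroup k M)}

theorem class_rootSet (hk2 : ringChar k ≠ 2) (hk3 : Nat.card k ≠ 3) (hG : IsQuadraticPair G)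
    (hA₀ : A₀ ∈ quadraticRootSubgroups G) :
    IsRootSubgroupClass ((fun A : Subgroup (GeneralLinearGroup k M) =>
      A.subgroupOf (⨆ B ∈ classOf G A₀, B)) '' classOf G A₀) := by
  set K := ⨆ B ∈ classOf G A₀, B with hK
  have hle : ∀ A ∈ classOf G A₀, A ≤ K := fun A hA => le_iSup₂ (f := fun B _ => B) A hA
  have hKr : K ≤ rootsGen G := class_le A₀
  refine ⟨⟨?_, ?_, ?_, ?_, ?_⟩, ⟨_, A₀, ⟨hA₀, Rel.refl _⟩, rfl⟩, ?_⟩
  · rintro _ ⟨A, ⟨⟨σ, hσ, rfl⟩, -⟩, rfl⟩
    exact ⟨⟨fun a b => Subtype.ext (Subtype.ext (comm_of_mem hσ a.2 b.2))⟩⟩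
  · rintro _ ⟨A, hA, rfl⟩ e
    obtain ⟨σ, hσ, rfl⟩ := id hA.1
    have h1 : (⟨σ, hle _ hA (self_mem_group hσ)⟩ : K) ∈ (sameActionSubgroup G σ).subgroupOf K := self_mem_group hσ
    replace e : (sameActionSubgroup G σ).subgroupOf K = ⊥ := e
    rw [e, Subgroup.mem_bot] at h1
    exact minimal_ne_one hσ (congrArg Subtype.val h1)
  · refine Subgroup.map_injective K.subtype_injective ?_
    rw [← MonoidHom.range_eq_map, Subgroup.range_subtype, iSup_image, Subgroup.map_iSup]
    simp only [Subgroup.map_iSup]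
    exact iSup_congr fun A => iSup_congr fun hA => subgroupOf_map (hle A hA)
  · rintro _ ⟨A, hA, rfl⟩ g
    exact ⟨conjBy A (g : GeneralLinearGroup k M), classOf_conj hA (hKr g.2), (conjBy_subgroupOf g).symm⟩
  · rintro _ ⟨A, hA, rfl⟩ _ ⟨B, hB, rfl⟩
    have hAK := hle A hA
    have hBK := hle B hB
    obtain ⟨σ, hσ, rfl⟩ := id hA.1
    obtain ⟨τ, hτ, rfl⟩ := id hB.1
    by_cases hN : IsNilpotent (dd σ * dd τ)
    · by_cases hne : dd σ * dd τ - dd τ * dd σ = 0
      · refine Or.inl ?_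
        rw [commutator_subgroupOf hAK hBK, show ⁅sameActionSubgroup G σ, sameActionSubgroup G τ⁆ = ⊥ by
          rw [sub_eq_zero] at hne
          rw [RankOne.commutator_eq_bot_iff]
          exact fun a ha b hb => commute_iff.mpr (sp_commute_all hk2 (root_of_minimal hσ) (root_of_minimal hτ) hne
            ((mem_root_group hσ).mp ha).2 ((mem_root_group hτ).mp hb).2), Subgroup.bot_subgroupOf]
      · obtain ⟨h1, h3, h4, -, -, h2, -⟩ := core_of hk2 hk3 hG hσ hτ hN hne
        refine Or.inr (Or.inr ⟨?_, ?_, ?_, ?_⟩)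
        · rw [commutator_subgroupOf hAK hBK]
          exact ⟨_, ⟨h1, hA.2.trans (comm_case_rel hk2 hk3 hG hσ hτ hN hne)⟩, rfl⟩
        · intro c hc x hx
          rw [commutator_subgroupOf hAK hBK] at hc
          refine Subtype.ext (h2 _ hc _ ?_)
          have h5 := Subgroup.mem_map_of_mem K.subtype hx
          rwa [Subgroup.map_sup, subgroupOf_map hAK, subgroupOf_map hBK] at h5
        · intro a ha ha1
          have h5 := h3 (a : GeneralLinearGroup k M) ha fun h => ha1 (Subtype.ext h)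
          rw [closure_subgroupOf hBK, commutator_subgroupOf hAK hBK, h5]
        · intro b hb hb1
          have h5 := h4 (b : GeneralLinearGroup k M) hb fun h => hb1 (Subtype.ext h)
          rw [closure_subgroupOf' hAK, commutator_subgroupOf hAK hBK, h5]
    · exact Or.inr (Or.inl (rankOne_subgroupOf (rankOne_of hk2 hk3 hσ hτ hN).1 hAK hBK))
  · rintro _ ⟨A, hA, rfl⟩ _ ⟨B, hB, rfl⟩
    obtain ⟨h, hh, rfl⟩ := class_inner_conj hk2 hk3 hG hA hB
    exact ⟨⟨h, hh⟩, (conjBy_subgroupOf (⟨h, hh⟩ : K)).symm⟩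

theorem classOf_eq {A B : Subgroup (GeneralLinearGroup k M)} (h : Rel G A B) : classOf G A = classOf G B :=
  Set.ext fun _ => ⟨fun hC => ⟨hC.1, h.symm.trans hC.2⟩, fun hC => ⟨hC.1, h.trans hC.2⟩⟩

/-- There are only finitely many classes. -/
theorem classes_finite (hk2 : ringChar k ≠ 2) (hk3 : Nat.card k ≠ 3) (hG : IsQuadraticPair G) :
    (classOf G '' quadraticRootSubgroups G).Finite := by
  have hrep : ∀ C : ↥(classOf G '' quadraticRootSubgroups G), ∃ X R : Module.End k M, IsRoot G X ∧ IsRoot G R ∧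
      X * R * X = X ∧ (∃ σ τ : GeneralLinearGroup k M, σ ∈ minimalQuadraticElements G ∧ τ ∈ minimalQuadraticElements G ∧
        dd σ = X ∧ dd τ = R ∧ sameActionSubgroup G σ ∈ C.1 ∧ sameActionSubgroup G τ ∈ C.1) := by
    rintro ⟨_, A, hA, rfl⟩
    obtain ⟨σ, hσ, rfl⟩ := id hA
    have hσC : sameActionSubgroup G σ ∈ classOf G (sameActionSubgroup G σ) := ⟨hA, Rel.refl _⟩
    obtain ⟨τ, hτ, hτA, h1, -, -⟩ := exists_opposite_class hk2 hk3 hG hσ hσC
    exact ⟨_, _, root_of_minimal hσ, root_of_minimal hτ, h1, σ, τ, hσ, hτ, rfl, rfl, hσC, hτA⟩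
  choose X R hX hR hXRX σ τ hσ hτ hσX hτR hσC hτC using hrep
  have hcomm : ∀ C D, C ≠ D → X D * X C = X C * X D ∧ X D * R C = R C * X D := by
    intro C D hne
    have key : ∀ ρ, ρ ∈ minimalQuadraticElements G → sameActionSubgroup G ρ ∈ C.1 →
        dd (σ D) * dd ρ = dd ρ * dd (σ D) := by
      intro ρ hρ hρC
      obtain ⟨_, A, hA, rfl⟩ := C
      obtain ⟨_, B, hB, rfl⟩ := D
      refine commute_iff.mp ?_
      have hbot : ⁅sameActionSubgroup G (σ ⟨_, B, hB, rfl⟩), sameActionSubgroup G ρ⁆ = ⊥ := by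
        by_contra h
        refine hne (Subtype.ext (?_ : classOf G A = classOf G B))
        have h1 := rel_of_ne hk2 hk3 hG (hσC ⟨_, B, hB, rfl⟩).1 hρC.1 h
        exact classOf_eq (hρC.2.trans (h1.symm.trans (hσC ⟨_, B, hB, rfl⟩).2.symm))
      exact RankOne.commutator_eq_bot_iff.mp hbot _ (self_mem_group (hσ _)) _ (self_mem_group hρ)
    exact ⟨by rw [← hσX, ← hσX]; exact key _ (hσ C) (hσC C), by rw [← hσX, ← hτR]; exact key _ (hτ C) (hτC C)⟩
  refine Set.finite_coe_iff.mp ?_
  refine LinearIndependent.finite (R := k) (M := Module.End k M) (f := fun C => X C * R C - R C * X C) ?_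
  rw [linearIndependent_iff']
  intro s g hs D hD
  have h := congrArg (fun Z => Z * X D - X D * Z) hs
  simp only [Finset.sum_mul, Finset.mul_sum, zero_mul, mul_zero, sub_zero, ← Finset.sum_sub_distrib] at h
  rw [Finset.sum_eq_single D] at h
  · have e : (X D * R D - R D * X D) * X D - X D * (X D * R D - R D * X D) = (2 : k) • X D := by
      rw [two_smul]
      calc _ = X D * R D * X D + X D * R D * X D - R D * (X D * X D) - X D * X D * R D := by noncomm_ring
        _ = X D + X D := by rw [hXRX, (hX D).sq]; simp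
    rw [smul_mul_assoc, mul_smul_comm, ← smul_sub, e, smul_smul, smul_eq_zero] at h
    exact (mul_eq_zero.mp (h.resolve_right (hX D).ne)).resolve_right (Ring.two_ne_zero hk2)
  · intro C _ hne
    obtain ⟨c1, c2⟩ := hcomm C D hne
    rw [smul_mul_assoc, mul_smul_comm, ← smul_sub]
    have e : (X C * R C - R C * X C) * X D - X D * (X C * R C - R C * X C) = 0 := by
      calc _ = X C * (R C * X D) - R C * (X C * X D) - (X D * X C) * R C + (X D * R C) * X C := by noncomm_ring
        _ = 0 := by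
          rw [show X C * (R C * X D) = X D * X C * R C by rw [← c2, ← mul_assoc, ← c1],
            show R C * (X C * X D) = X D * R C * X C by rw [← c1, ← mul_assoc, ← c2]]
          abel
    rw [e, smul_zero]
  · exact fun h' => absurd hD h'

/-- The classes as a finite family. -/
theorem exists_parts (hk2 : ringChar k ≠ 2) (hk3 : Nat.card k ≠ 3) (hG : IsQuadraticPair G) :
    ∃ (r : ℕ) (part : Fin r → Set (Subgroup (GeneralLinearGroup k M))),
      (∀ i, ∃ A ∈ quadraticRootSubgroups G, part i = classOf G A) ∧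
      (∀ A ∈ quadraticRootSubgroups G, ∃ i, A ∈ part i) ∧ (∀ i j, i ≠ j → Disjoint (part i) (part j)) ∧
      (∀ i j, i ≠ j → ⁅gen (part i), gen (part j)⁆ = ⊥) := by
  have := (classes_finite hk2 hk3 hG).to_subtype
  obtain ⟨r, ⟨e⟩⟩ := Finite.exists_equiv_fin ↥(classOf G '' quadraticRootSubgroups G)
  have hrep : ∀ i, ∃ A ∈ quadraticRootSubgroups G, classOf G A = (e.symm i).1 := fun i => (e.symm i).2
  choose A hA hAe using hrep
  refine ⟨r, fun i => classOf G (A i), fun i => ⟨A i, hA i, rfl⟩, fun B hB => ⟨e ⟨_, B, hB, rfl⟩, ?_⟩, ?_, ?_⟩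
  · show B ∈ classOf G (A _)
    rw [hAe, Equiv.symm_apply_apply]
    exact ⟨hB, Rel.refl B⟩
  · intro i j hne
    rw [Set.disjoint_left]
    intro B h1 h2
    exact hne (e.symm.injective (Subtype.ext (by rw [← hAe, ← hAe]; exact classOf_eq (h1.2.trans h2.2.symm))))
  · intro i j hne
    rw [Subgroup.commutator_eq_bot_iff_le_centralizer]
    refine iSup₂_le fun B hB => ?_
    rw [Subgroup.le_centralizer_iff]
    refine iSup₂_le fun C hC => ?_
    refine Subgroup.commutator_eq_bot_iff_le_centralizer.mp ?_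
    rw [Subgroup.commutator_comm]
    refine class_commute hk2 hk3 hG hB hC.1 fun h => hne (e.symm.injective (Subtype.ext ?_))
    rw [← hAe, ← hAe]
    exact classOf_eq (h.trans hC.2.symm)

end Cfsg.Agent.Lib.QPair
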