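import Cfsg.Agent.Lib.QPair.ClassTwo

/-!
# The commutator map of a class two pair is onto

If `U = X Y - Y X` is non-zero for root maps with `X Y` nilpotent, then the spaces of `X`, `Y` and `U` have the same
dimension, so that `Y' ↦ X Y' - Y' X` maps the space of `Y` onto that of `U`.
-/

set_option autoImplicit false

namespace Cfsg.Agent.Lib.QPair

open Cfsg LinearMap Polynomial Cfsg.Lib.Linear.Dickson
open scoped MatrixGroups

variable {k : Type*} [Field k] {M : Type*} [AddCommGroup M] [Module k M] [FiniteDimensional k M]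
  {G : Subgroup (GeneralLinearGroup k M)} {X Y U R : Module.End k M}

/-- The diagonal element. -/
noncomputable def dg {K : Type*} [Field K] (t : K) (ht : t ≠ 0) : SL(2, K) :=
  ⟨!![t, 0; 0, t⁻¹], by simp [Matrix.det_fin_two, ht]⟩

theorem dg_coe {K : Type*} [Field K] (t : K) (ht : t ≠ 0) :
    (dg t ht : Matrix (Fin 2) (Fin 2) K) = !![t, 0; 0, t⁻¹] := rfl

theorem dg_inv {K : Type*} [Field K] (t : K) (ht : t ≠ 0) : (dg t ht)⁻¹ = dg t⁻¹ (inv_ne_zero ht) := by
  refine inv_eq_of_mul_eq_one_right ?_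
  apply ext_two <;> simp [Cfsg.Lib.Linear.Dickson.mul_apply', dg_coe, ht]

/-- A root map has a partner among its conjugates. -/
theorem exists_partner (hk2 : ringChar k ≠ 2) (hk3 : Nat.card k ≠ 3) (hG : IsQuadraticPair G) (hX : IsRoot G X) :
    ∃ g ∈ G, ¬ IsNilpotent (X * conjE g X) := by
  by_contra hno
  push Not at hno
  set grp : Module.End k M → Subgroup (GeneralLinearGroup k M) := fun Z => Subgroup.closure {e | ∃ c : k, dd e = c • Z}
    with hgrp
  set W : Set (Subgroup (GeneralLinearGroup k M)) := {A | ∃ g ∈ G, A = grp (conjE g X)} with hW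
  have hle : ∀ A ∈ W, A ≤ G := by
    rintro _ ⟨g, hg, rfl⟩
    rw [hgrp, Subgroup.closure_le]
    rintro e ⟨c, hc⟩
    obtain ⟨e', he', hc'⟩ := (hX.conj hg).fam c
    exact dd_injective (hc.trans hc'.symm) ▸ he'
  have hpair : ∀ A ∈ W, ∀ B ∈ W, IsUnipotentOn (A ⊔ B) := by
    rintro _ ⟨g, hg, rfl⟩ _ ⟨g', hg', rfl⟩
    have hn : IsNilpotent (conjE g X * conjE g' X) := by
      obtain ⟨j, hj⟩ := hno (g⁻¹ * g') (mul_mem (inv_mem hg) hg')
      refine ⟨j, ?_⟩
      have e : ∀ i : ℕ, conjE g ((X * conjE (g⁻¹ * g') X) ^ i) = (conjE g X * conjE g' X) ^ i := by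
        intro i
        induction i with
        | zero => simp [conjE]
        | succ i ih => rw [pow_succ, pow_succ, ← conjE_mul, ih, ← conjE_mul, conjE_conjE, mul_inv_cancel_left]
      rw [← e, hj, conjE_eq_zero]
    rw [hgrp, ← Subgroup.closure_union]
    refine unipotent_of_cube ?_ (L := sp G (conjE g X) ⊔ sp G (conjE g' X)) ?_
      (cube_bot hk2 hk3 (hX.conj hg) (hX.conj hg') hn)
    · rintro e (⟨c, hc⟩ | ⟨c, hc⟩)
      · refine Or.inl ⟨-c, ?_⟩
        rw [dd_inv (by rw [hc, smul_mul_assoc, mul_smul_comm, (hX.conj hg).sq, smul_zero, smul_zero]), hc, neg_smul]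
      · refine Or.inr ⟨-c, ?_⟩
        rw [dd_inv (by rw [hc, smul_mul_assoc, mul_smul_comm, (hX.conj hg').sq, smul_zero, smul_zero]), hc, neg_smul]
    · rintro e (⟨c, hc⟩ | ⟨c, hc⟩)
      · exact Submodule.mem_sup_left (hc ▸ Submodule.smul_mem _ c (self_mem_sp (hX.conj hg)))
      · exact Submodule.mem_sup_right (hc ▸ Submodule.smul_mem _ c (self_mem_sp (hX.conj hg')))
  have hconj : ∀ A ∈ W, ∀ h ∈ G, conjBy A h ∈ W := by
    rintro _ ⟨g, hg, rfl⟩ h hh
    refine ⟨h * g, mul_mem hh hg, ?_⟩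
    rw [hgrp, ← conjE_conjE]
    show (Subgroup.closure _).map _ = _
    rw [MonoidHom.map_closure]
    congr 1
    ext e
    constructor
    · rintro ⟨e', ⟨c, hc⟩, rfl⟩
      refine ⟨c, ?_⟩
      show dd (h * e' * h⁻¹) = _
      rw [dd_conjE, hc, conjE_smul]
    · rintro ⟨c, hc⟩
      refine ⟨h⁻¹ * e * h, ⟨c, ?_⟩, by show h * (h⁻¹ * e * h) * h⁻¹ = e; group⟩
      have e2 := dd_conjE h⁻¹ e
      rw [inv_inv] at e2
      rw [e2, hc, conjE_smul, conjE_conjE, inv_mul_cancel, conjE_one]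
  have hu := gen_unipotent hle hpair hconj
  obtain ⟨n, hn⟩ := unipotent_iff.mp hu
  obtain ⟨⟨m₀, hm₀⟩, hirr⟩ := hG.1
  have hex : ∃ v : M, v ≠ 0 ∧ ∀ Z ∈ ddSpan (gen W), Z v = 0 := by
    induction n generalizing m₀ with
    | zero =>
      exfalso
      rw [pow_zero] at hn
      have h1 : (1 : Module.End k M) ∈ (⊥ : Submodule k (Module.End k M)) := hn ▸ Submodule.one_le.mp le_rfl
      rw [Submodule.mem_bot] at h1
      exact hm₀ (LinearMap.congr_fun h1 m₀)
    | succ n ih =>
      by_cases h0 : ddSpan (gen W) ^ n = ⊥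
      · exact ih h0 m₀ hm₀
      obtain ⟨P, hP, hP0⟩ := Submodule.exists_mem_ne_zero_of_ne_bot h0
      obtain ⟨v, hv⟩ : ∃ v, P v ≠ 0 := by
        by_contra h; push Not at h; exact hP0 (LinearMap.ext h)
      refine ⟨P v, hv, fun Z hZ => ?_⟩
      have h1 : Z * P ∈ ddSpan (gen W) ^ (n + 1) := by rw [pow_succ']; exact Submodule.mul_mem_mul hZ hP
      rw [hn, Submodule.mem_bot] at h1
      exact LinearMap.congr_fun h1 v
  obtain ⟨v, hv, hfix⟩ := hex
  let Fx : Submodule k M :=
    { carrier := {m | ∀ Z ∈ ddSpan (gen W), Z m = 0}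
      add_mem' := fun {a b} ha hb Z hZ => by rw [map_add, ha Z hZ, hb Z hZ, add_zero]
      zero_mem' := fun Z _ => map_zero Z
      smul_mem' := fun c a ha Z hZ => by rw [map_smul, ha Z hZ, smul_zero] }
  have hstab : ∀ g ∈ G, ∀ w ∈ Fx, (g : M →ₗ[k] M) w ∈ Fx := by
    intro g hg w hw Z hZ
    refine Submodule.span_induction (p := fun Z _ => Z ((g : M →ₗ[k] M) w) = 0) ?_ (by simp)
      (fun a b _ _ ha hb => by rw [LinearMap.add_apply, ha, hb, add_zero])
      (fun c a _ ha => by rw [LinearMap.smul_apply, ha, smul_zero]) hZ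
    rintro _ ⟨x, hx, rfl⟩
    have hx' : g⁻¹ * x * g ∈ gen W := by
      have hle' : conjBy (gen W) g⁻¹ ≤ gen W := by
        show (gen W).map _ ≤ _
        rw [gen, Subgroup.map_iSup]
        simp only [Subgroup.map_iSup]
        exact iSup₂_le fun A hA => le_gen (hconj A hA g⁻¹ (inv_mem hg))
      have := hle' (RankOne.conj_mem_conjBy (g := g⁻¹) hx)
      simpa using this
    have h1 := hw _ (dd_mem_span hx')
    have e := dd_conjE g (g⁻¹ * x * g)
    rw [show g * (g⁻¹ * x * g) * g⁻¹ = x by group] at e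
    rw [e]
    show conjE g _ ((g : Module.End k M) w) = 0
    rw [conjE, Module.End.mul_apply, Module.End.mul_apply, ← Module.End.mul_apply _ (g : Module.End k M) w,
      Units.inv_mul, Module.End.one_apply, h1, map_zero]
  rcases hirr Fx hstab with h | h
  · exact hv ((Submodule.eq_bot_iff _).mp h v hfix)
  · refine hX.ne (LinearMap.ext fun m => ?_)
    obtain ⟨e, he, ee⟩ := hX.fam.exists_mem
    have hmem : dd e ∈ ddSpan (gen W) := dd_mem_span (le_gen (C := W) ⟨1, one_mem _, rfl⟩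
      (Subgroup.subset_closure ⟨1, by rw [one_smul, conjE_one, ee]⟩))
    rw [ee] at hmem
    exact (h ▸ Submodule.mem_top : m ∈ Fx) X hmem

/-- An exact opposite root map. -/
theorem exists_opposite (hk2 : ringChar k ≠ 2) (hk3 : Nat.card k ≠ 3) (hG : IsQuadraticPair G) (hU : IsRoot G U) :
    ∃ R, IsRoot G R ∧ U * R * U = U ∧ R * U * R = R ∧ Module.finrank k (sp G R) = Module.finrank k (sp G U) := by
  obtain ⟨g, hg, hN⟩ := exists_partner hk2 hk3 hG hU
  obtain ⟨f, P⟩ := exists_good hk2 hk3 hU (hU.conj hg) hN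
  have : Fact (Irreducible f) := ⟨P.irr⟩
  obtain ⟨e, -, b, -, -, -, -, hb, hb0, -, -, h1, h2⟩ := P.exists_swap hk2 hk3
  exact ⟨dd b, (sp_root P.rootY hb hb0).1, h1, h2, by rw [sp_eq P.rootY hb hb0, finrank_sp_conj hU hg]⟩

/-- The commutator map of a pair. -/
theorem comm_mem (hk2 : ringChar k ≠ 2) (hk3 : Nat.card k ≠ 3) (hX : IsRoot G X) (hY : IsRoot G Y)
    (hN : IsNilpotent (X * Y)) (hne : X * Y - Y * X ≠ 0) {X' Y' : Module.End k M} (hX' : X' ∈ sp G X)
    (hY' : Y' ∈ sp G Y) :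
    X' * Y' - Y' * X' ∈ sp G (X * Y - Y * X) ∧ (X' * Y' - Y' * X' = 0 → X' = 0 ∨ Y' = 0) := by
  obtain ⟨a1, a2⟩ := nilp_all hk2 hk3 hX hY hN hX' hY'
  obtain ⟨n1, n2⟩ := nilp_all hk2 hk3 hX hY hN (self_mem_sp hX) (self_mem_sp hY)
  obtain ⟨hU, -, -, hUr, hUk⟩ := comm_root hX hY n1 n2 hne
  by_cases hx : X' = 0
  · simp [hx]
  by_cases hy : Y' = 0
  · simp [hy]
  obtain ⟨hX1, hr, hk⟩ := sp_root hX hX' hx
  obtain ⟨hY1, hr', hk'⟩ := sp_root hY hY' hy
  have hne' : X' * Y' - Y' * X' ≠ 0 := fun h => hne (by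
    rw [sub_eq_zero] at h ⊢
    refine sp_commute_all hk2 hX1 hY1 h ?_ ?_
    · rw [sp_eq hX hX' hx]; exact self_mem_sp hX
    · rw [sp_eq hY hY' hy]; exact self_mem_sp hY)
  obtain ⟨hU1, -, -, hUr', hUk'⟩ := comm_root hX1 hY1 a1 a2 hne'
  refine ⟨?_, fun h => absurd h hne'⟩
  rw [hr, hr', hk, hk', ← hUr] at hUr'
  rw [hr, hr', hk, hk', ← hUk] at hUk'
  exact mem_sp hU.sq hU1.fam (le_of_eq hUr') (le_of_eq hUk'.symm)

theorem finrank_left_le (hk2 : ringChar k ≠ 2) (hk3 : Nat.card k ≠ 3) (hX : IsRoot G X) (hY : IsRoot G Y)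
    (hN : IsNilpotent (X * Y)) (hne : X * Y - Y * X ≠ 0) :
    Module.finrank k (sp G X) ≤ Module.finrank k (sp G (X * Y - Y * X)) := by
  let L : sp G X →ₗ[k] sp G (X * Y - Y * X) :=
    { toFun := fun Z => ⟨Z * Y - Y * Z, (comm_mem hk2 hk3 hX hY hN hne Z.2 (self_mem_sp hY)).1⟩
      map_add' := fun a b => Subtype.ext (by simp [add_mul, mul_add]; abel)
      map_smul' := fun c a => Subtype.ext (by simp [smul_sub]) }
  refine LinearMap.finrank_le_finrank_of_injective (f := L) ((injective_iff_map_eq_zero L).mpr fun Z hZ => ?_)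
  have h0 : (Z : Module.End k M) * Y - Y * Z = 0 := congrArg Subtype.val hZ
  exact Subtype.ext (((comm_mem hk2 hk3 hX hY hN hne Z.2 (self_mem_sp hY)).2 h0).resolve_right hY.ne)

theorem finrank_right_le (hk2 : ringChar k ≠ 2) (hk3 : Nat.card k ≠ 3) (hX : IsRoot G X) (hY : IsRoot G Y)
    (hN : IsNilpotent (X * Y)) (hne : X * Y - Y * X ≠ 0) :
    Module.finrank k (sp G Y) ≤ Module.finrank k (sp G (X * Y - Y * X)) := by
  let L : sp G Y →ₗ[k] sp G (X * Y - Y * X) :=
    { toFun := fun Z => ⟨X * Z - Z * X, (comm_mem hk2 hk3 hX hY hN hne (self_mem_sp hX) Z.2).1⟩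
      map_add' := fun a b => Subtype.ext (by simp [add_mul, mul_add]; abel)
      map_smul' := fun c a => Subtype.ext (by simp [smul_sub]) }
  refine LinearMap.finrank_le_finrank_of_injective (f := L) ((injective_iff_map_eq_zero L).mpr fun Z hZ => ?_)
  have h0 : X * (Z : Module.End k M) - Z * X = 0 := congrArg Subtype.val hZ
  exact Subtype.ext (((comm_mem hk2 hk3 hX hY hN hne (self_mem_sp hX) Z.2).2 h0).resolve_left hX.ne)

/-- The reduced element `X - γ` of a root map in the unipotent core of `U`. -/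
theorem reduce (hk2 : ringChar k ≠ 2) (hk3 : Nat.card k ≠ 3) (hX : IsRoot G X) (hU : IsRoot G U) (hR : IsRoot G R)
    (hURU : U * R * U = U) (hRUR : R * U * R = R) (hXU : X * U = 0) (hUX : U * X = 0)
    (hcore : ∀ m, U m = 0 → X m ∈ range U) (hns : X ∉ sp G U) :
    U * R * X * (R * U) ∈ sp G U ∧ IsRoot G (X - U * R * X * (R * U)) ∧
      Module.finrank k (sp G R) ≤ Module.finrank k (sp G (X - U * R * X * (R * U))) ∧
      Module.finrank k (sp G U) ≤ Module.finrank k (sp G (X - U * R * X * (R * U))) := by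
  have two : (2 : k) ≠ 0 := Ring.two_ne_zero hk2
  have a : ∀ A, X * (U * A) = 0 := fun A => by rw [← mul_assoc, hXU, zero_mul]
  have b : ∀ A, U * (X * A) = 0 := fun A => by rw [← mul_assoc, hUX, zero_mul]
  have cU : ∀ A, U * (R * (U * A)) = U * A := fun A => by rw [← mul_assoc, ← mul_assoc, hURU]
  have cR : ∀ A, R * (U * (R * A)) = R * A := fun A => by rw [← mul_assoc, ← mul_assoc, hRUR]
  have cU' : U * (R * U) = U := by rw [← mul_assoc, hURU]
  have cR' : R * (U * R) = R := by rw [← mul_assoc, hRUR]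
  have uu : ∀ A, U * (U * A) = 0 := fun A => by rw [← mul_assoc, hU.sq, zero_mul]
  have rr : ∀ A, R * (R * A) = 0 := fun A => by rw [← mul_assoc, hR.sq, zero_mul]
  have xx : ∀ A, X * (X * A) = 0 := fun A => by rw [← mul_assoc, hX.sq, zero_mul]
  set γ := U * R * X * (R * U) with hγ
  set X' := X - γ with hX'
  have key : ∀ m, U (R (X (m - R (U m)))) = X (m - R (U m)) := fun m => by
    obtain ⟨u, hu⟩ := hcore (m - R (U m)) (by
      rw [map_sub]
      exact sub_eq_zero.mpr (LinearMap.congr_fun cU' m).symm)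
    rw [← hu]
    exact LinearMap.congr_fun cU' u
  have K1 : X * (R * U) + U * R * X - γ = X := by
    refine LinearMap.ext fun m => ?_
    have := key m
    simp only [map_sub] at this
    simp only [hγ, LinearMap.add_apply, LinearMap.sub_apply, Module.End.mul_apply]
    rw [add_sub_assoc, this]
    abel
  -- the torus
  have hN : ¬ IsNilpotent (U * R) := by
    rintro ⟨j, hj⟩
    have e : ∀ i : ℕ, (U * R) ^ (i + 1) = U * R := by
      intro i
      induction i with
      | zero => rw [pow_one]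
      | succ i ih => rw [pow_succ, ih]; simp only [mul_assoc, cR']
    have h0 : U * R = 0 := by rw [← e j, pow_succ, hj, zero_mul]
    exact hU.ne (by rw [← hURU, h0, zero_mul])
  obtain ⟨f, P⟩ := exists_good hk2 hk3 hU hR hN
  have : Fact (Irreducible f) := ⟨P.irr⟩
  have hroot : AdjoinRoot.root f = 1 := by
    rw [← AdjoinRoot.mk_X, ← map_one (AdjoinRoot.mk f), AdjoinRoot.mk_eq_mk, ← P.iff_dvd, map_sub, sub_mul,
      show pev U R Polynomial.X = U * R from aeval_X _, map_one, one_mul, hURU, sub_self]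
  obtain ⟨t, ht0, ht2⟩ := exists_scalar two hk3
  have hγF : Fam G γ := by
    have htK : algebraMap k (AdjoinRoot f) t ≠ 0 := by simpa using ht0
    set h : SL(2, AdjoinRoot f) := dg (algebraMap k (AdjoinRoot f) t) htK with hh
    have hg := P.psi_mem hk2 hk3 h
    have hdd : dd (P.psi h) = (t - 1) • (U * R) + (t⁻¹ - 1) • (R * U) := by
      rw [P.dd_psi_eq (p := C (t - 1)) (q := 0) (r := 0) (s := C (t⁻¹ - 1))
        (by simp [hh, dg_coe, hroot]) (by simp [hh, dg_coe]) (by simp [hh, dg_coe, hroot]) (by simp [hh, dg_coe, hroot])]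
      simp only [quad, pev, map_zero, zero_mul, mul_zero, add_zero, aeval_C, ← Algebra.smul_def]
      rw [← Algebra.commutes, ← Algebra.smul_def, smul_mul_assoc]
    have hdi : dd (P.psi h)⁻¹ = (t⁻¹ - 1) • (U * R) + (t - 1) • (R * U) := by
      rw [← map_inv, hh, dg_inv, P.dd_psi_eq (p := C (t⁻¹ - 1)) (q := 0) (r := 0) (s := C (t - 1))
        (by simp [dg_coe, hroot]) (by simp [dg_coe]) (by simp [dg_coe, hroot]) (by simp [dg_coe, hroot])]
      simp only [quad, pev, map_zero, zero_mul, mul_zero, add_zero, aeval_C, ← Algebra.smul_def]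
      rw [← Algebra.commutes, ← Algebra.smul_def, smul_mul_assoc]
    have hconj : conjE (P.psi h) X = t • X + (t * t - t) • γ := by
      rw [conjE, coe_eq, coe_eq ((P.psi h)⁻¹), hdd, hdi]
      have e : X + (t - 1) • (X * (R * U) + U * R * X) + ((t - 1) * (t - 1)) • γ = t • X + (t * t - t) • γ := by
        have K2 : X * (R * U) + U * R * X = X + γ := eq_add_of_sub_eq K1
        rw [K2]
        module
      rw [← e]
      simp only [hγ, mul_add, add_mul, one_mul, mul_one, smul_mul_assoc, mul_smul_comm, mul_assoc, a, b, hXU, hUX,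
        smul_zero, mul_zero, zero_add, add_zero, smul_add, smul_smul]
      module
    have hf1 : Fam G (conjE (P.psi h) X) := hX.fam.conj hg
    have hmul : conjE (P.psi h) X * ((-t) • X) = 0 := by
      rw [hconj]
      simp only [hγ, add_mul, smul_mul_assoc, mul_smul_comm, mul_assoc, hX.sq, b, hUX, mul_zero, smul_zero, add_zero]
    have hF := (hf1.add (hX.fam.smul (-t)) hmul).smul (t * t - t)⁻¹
    convert hF using 1
    rw [hconj, show t • X + (t * t - t) • γ + (-t) • X = (t * t - t) • γ by module, inv_smul_smul₀]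
    rw [show t * t - t = t * (t - 1) by ring]
    exact mul_ne_zero ht0 (sub_ne_zero.mpr fun h1 => ht2 (by rw [h1, one_mul]))
  have hγsp : γ ∈ sp G U := mem_sp hU.sq hγF (by rw [hγ, mul_assoc U R X, mul_assoc]; exact range_mul_le _ _) (by
    intro m hm
    show U (R (X (R (U m)))) = 0
    rw [show U m = 0 from hm, map_zero, map_zero, map_zero, map_zero])
  have g1 : X * γ = 0 := by simp only [hγ, mul_assoc, a]
  have g2 : γ * X = 0 := by simp only [hγ, mul_assoc, hUX, mul_zero]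
  have g3 : γ * γ = 0 := sp_mul hU hγsp hγsp
  have hX'F : Fam G X' := by
    rw [hX', sub_eq_add_neg]
    exact hX.fam.add hγF.neg (by rw [mul_neg, g1, neg_zero])
  have hX'sq : X' * X' = 0 := by
    simp only [hX', sub_mul, mul_sub, hX.sq, g1, g2, g3, sub_zero]
  have hX'0 : X' ≠ 0 := fun h => hns (by rw [sub_eq_zero.mp h]; exact hγsp)
  have hrank : Module.finrank k (range X') ≤ Module.finrank k (range X) := by
    have hle : range X' ≤ (range X ⊓ range U) ⊔ (range X).map (1 - U * R) := by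
      rintro _ ⟨m, rfl⟩
      refine Submodule.mem_sup.mpr ⟨X (m - R (U m)), ⟨LinearMap.mem_range_self _ _, ?_⟩, (1 - U * R) (X (R (U m))),
        Submodule.mem_map_of_mem (LinearMap.mem_range_self _ _), ?_⟩
      · rw [← key m]; exact LinearMap.mem_range_self _ _
      · simp only [hX', hγ, LinearMap.sub_apply, Module.End.mul_apply, Module.End.one_apply, map_sub]
        abel
    refine (Submodule.finrank_mono hle).trans ((Submodule.finrank_add_le_finrank_add_finrank _ _).trans ?_)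
    have e := finrank_map_add_inf (1 - U * R) (range X)
    have e' : Module.finrank k (range X ⊓ range U : Submodule k M) ≤
        Module.finrank k (range X ⊓ ker (1 - U * R) : Submodule k M) := by
      refine Submodule.finrank_mono (inf_le_inf_left _ ?_)
      rintro _ ⟨u, rfl⟩
      show U u - U (R (U u)) = 0
      exact sub_eq_zero.mpr (LinearMap.congr_fun cU' u).symm
    omega
  have hX'root : IsRoot G X' := ⟨hX'0, hX'sq, hX'F, fun Z p q r => hrank.trans (hX.min Z p q r)⟩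
  have hXR : IsNilpotent (X' * R) := ⟨2, by
    simp only [pow_two, hX', hγ, sub_mul, mul_sub, mul_assoc, a, b, cR, cR', rr, sub_self]⟩
  obtain ⟨n1, n2⟩ := nilpotent_pair two hX'root hR hXR
  set D := X' * R - R * X' with hD
  have hE : D * U - U * D = X' := by
    rw [hD]
    have e : X * (R * U) + U * R * X - γ - γ = X' := by rw [K1]
    refine Eq.trans ?_ e
    simp only [hX', hγ, sub_mul, mul_sub, mul_assoc, a, b, cU, cU', uu, hXU, hUX, hU.sq, mul_zero, sub_zero, zero_sub]
    abel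
  have hD0 : D ≠ 0 := fun h => hX'0 (by rw [← hE, h, zero_mul, mul_zero, sub_zero])
  have hDr : IsRoot G D := (comm_root hX'root hR n1 n2 hD0).1
  have hX'U : X' * U = 0 := by simp only [hX', hγ, sub_mul, mul_assoc, hXU, hU.sq, mul_zero, sub_zero]
  have hUX' : U * X' = 0 := by simp only [hX', hγ, mul_sub, mul_assoc, hUX, uu, sub_zero]
  have hDU : IsNilpotent (D * U) := ⟨2, by
    have e : D * U = X' * (R * U) := by
      rw [hD, sub_mul, mul_assoc, mul_assoc R X', hX'U, mul_zero, sub_zero]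
    rw [pow_two, e]
    calc X' * (R * U) * (X' * (R * U)) = X' * (R * (U * X')) * (R * U) := by simp only [mul_assoc]
      _ = 0 := by rw [hUX', mul_zero, mul_zero, zero_mul]⟩
  have hE0 : D * U - U * D ≠ 0 := hE.symm ▸ hX'0
  have l1 : Module.finrank k (sp G R) ≤ Module.finrank k (sp G D) := finrank_right_le hk2 hk3 hX'root hR hXR hD0
  have l2 := finrank_left_le hk2 hk3 hDr hU hDU hE0
  have l3 := finrank_right_le hk2 hk3 hDr hU hDU hE0
  rw [hE] at l2 l3
  exact ⟨hγsp, hX'root, l1.trans l2, l3⟩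

/-- All three spaces have the same dimension. -/
theorem finrank_eq (hk2 : ringChar k ≠ 2) (hk3 : Nat.card k ≠ 3) (hG : IsQuadraticPair G) (hX : IsRoot G X)
    (hY : IsRoot G Y) (hN : IsNilpotent (X * Y)) (hne : X * Y - Y * X ≠ 0) :
    Module.finrank k (sp G X) = Module.finrank k (sp G (X * Y - Y * X)) := by
  refine le_antisymm (finrank_left_le hk2 hk3 hX hY hN hne) ?_
  obtain ⟨n1, n2⟩ := nilp_all hk2 hk3 hX hY hN (self_mem_sp hX) (self_mem_sp hY)
  obtain ⟨hU, hxy, hyx, hUr, hUk⟩ := comm_root hX hY n1 n2 hne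
  set U := X * Y - Y * X with hUdef
  obtain ⟨R, hR, hURU, hRUR, hRU⟩ := exists_opposite hk2 hk3 hG hU
  have hXU : X * U = 0 := by rw [hUdef, mul_sub, ← mul_assoc, hX.sq, zero_mul, ← mul_assoc, n1, sub_zero]
  have hUX : U * X = 0 := by rw [hUdef, sub_mul, mul_assoc Y X X, hX.sq, mul_zero, n1, sub_zero]
  have hYU : Y * U = 0 := by rw [hUdef, mul_sub, ← mul_assoc, n2, ← mul_assoc, hY.sq, zero_mul, sub_zero]
  have hUY : U * Y = 0 := by rw [hUdef, sub_mul, mul_assoc X Y Y, hY.sq, mul_zero, n2, sub_zero]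
  have hXns : X ∉ sp G U := fun h => hne (sub_eq_zero.mpr
    (sp_commute_all hk2 hU hY (hUY.trans hYU.symm) h (self_mem_sp hY)))
  have hYns : Y ∉ sp G U := fun h => hne (sub_eq_zero.mpr
    (sp_commute_all hk2 hU hX (hUX.trans hXU.symm) h (self_mem_sp hX)).symm)
  have hcX : ∀ m, U m = 0 → X m ∈ range U := by
    intro m hm
    have h1 : m ∈ range Y ⊔ ker X := (hUk.le hm).2
    obtain ⟨_, ⟨u, rfl⟩, z, hz, rfl⟩ := Submodule.mem_sup.mp h1
    rw [map_add, show X z = 0 from hz, add_zero, hUr]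
    exact Submodule.mem_sup_left (hxy.le ⟨u, rfl⟩)
  have hcY : ∀ m, U m = 0 → Y m ∈ range U := by
    intro m hm
    have h1 : m ∈ range X ⊔ ker Y := (hUk.le hm).1
    obtain ⟨_, ⟨u, rfl⟩, z, hz, rfl⟩ := Submodule.mem_sup.mp h1
    rw [map_add, show Y z = 0 from hz, add_zero, hUr]
    exact Submodule.mem_sup_right (hyx.le ⟨u, rfl⟩)
  obtain ⟨hgX, hXr, -, hXd⟩ := reduce hk2 hk3 hX hU hR hURU hRUR hXU hUX hcX hXns
  obtain ⟨hgY, hYr, -, hYd⟩ := reduce hk2 hk3 hY hU hR hURU hRUR hYU hUY hcY hYns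
  set γ := U * R * X * (R * U) with hγ
  set γ' := U * R * Y * (R * U) with hγ'
  have k1 : γ * Y = 0 := sp_mul_eq_zero hgX hUY
  have k2 : Y * γ = 0 := mul_sp_eq_zero hgX hYU
  have k3 : γ' * X = 0 := sp_mul_eq_zero hgY hUX
  have k4 : X * γ' = 0 := mul_sp_eq_zero hgY hXU
  have k5 : γ * γ' = 0 := sp_mul hU hgX hgY
  have k6 : γ' * γ = 0 := sp_mul hU hgY hgX
  have kg : γ * X = 0 := sp_mul_eq_zero hgX hUX
  have kg' : X * γ = 0 := mul_sp_eq_zero hgX hXU
  have exy : (X - γ) * (Y - γ') = X * Y := by simp only [sub_mul, mul_sub, k1, k4, k5, sub_zero]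
  have eyx : (Y - γ') * (X - γ) = Y * X := by simp only [sub_mul, mul_sub, k2, k3, k6, sub_zero]
  have hne' : (X - γ) * (Y - γ') - (Y - γ') * (X - γ) = U := by rw [exy, eyx]
  have hN' : IsNilpotent ((X - γ) * (Y - γ')) := exy.symm ▸ hN
  -- the commutator map on the reduced spaces is onto
  have hle1 := finrank_right_le hk2 hk3 hXr hYr hN' (by rw [hne']; exact hne)
  rw [hne'] at hle1
  let L : sp G (Y - γ') →ₗ[k] sp G U :=
    { toFun := fun Z => ⟨(X - γ) * Z - Z * (X - γ),
        hne' ▸ (comm_mem hk2 hk3 hXr hYr hN' (by rw [hne']; exact hne) (self_mem_sp hXr) Z.2).1⟩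
      map_add' := fun a b => Subtype.ext (by simp [add_mul, mul_add]; abel)
      map_smul' := fun c a => Subtype.ext (by simp [smul_sub]) }
  have hinj : Function.Injective L := (injective_iff_map_eq_zero L).mpr fun Z hZ => by
    have h0 : (X - γ) * (Z : Module.End k M) - Z * (X - γ) = 0 := congrArg Subtype.val hZ
    exact Subtype.ext (((comm_mem hk2 hk3 hXr hYr hN' (by rw [hne']; exact hne) (self_mem_sp hXr) Z.2).2 h0).resolve_left
      hXr.ne)
  obtain ⟨Z, hZ⟩ := (LinearMap.injective_iff_surjective_of_finrank_eq_finrank (le_antisymm hle1 hYd)).mp hinj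
    ⟨-γ, neg_mem hgX⟩
  have hZ' : (X - γ) * (Z : Module.End k M) - Z * (X - γ) = -γ := congrArg Subtype.val hZ
  obtain ⟨e, he, ee⟩ := (sp_fam Z.2).exists_mem
  have hZX : (Z : Module.End k M) * (X - γ) * Z = 0 := by
    obtain ⟨c1, c2⟩ := nilp_all hk2 hk3 hXr hYr hN' (self_mem_sp hXr) Z.2
    exact c2
  have hconj : conjE e (X - γ) = X := by
    have he2 : dd e * dd e = 0 := by rw [ee]; exact sp_mul hYr Z.2 Z.2
    rw [conjE, inv_coe he2, coe_eq e, ee]
    rw [show (1 + (Z : Module.End k M)) * (X - γ) * (1 - Z) =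
      (X - γ) - ((X - γ) * Z - Z * (X - γ)) - Z * (X - γ) * Z by noncomm_ring, hZ', hZX]
    abel
  calc Module.finrank k (sp G U) ≤ Module.finrank k (sp G (X - γ)) := hXd
    _ = Module.finrank k (sp G X) := by rw [← finrank_sp_conj hXr he, hconj]

/-- The commutator map is onto. -/
theorem comm_onto (hk2 : ringChar k ≠ 2) (hk3 : Nat.card k ≠ 3) (hG : IsQuadraticPair G) (hX : IsRoot G X)
    (hY : IsRoot G Y) (hN : IsNilpotent (X * Y)) (hne : X * Y - Y * X ≠ 0) {Z : Module.End k M}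
    (hZ : Z ∈ sp G (X * Y - Y * X)) {X' : Module.End k M} (hX' : X' ∈ sp G X) (hX0 : X' ≠ 0) :
    ∃ Y' ∈ sp G Y, X' * Y' - Y' * X' = Z := by
  obtain ⟨n1, n2⟩ := nilp_all hk2 hk3 hX hY hN (self_mem_sp hX) (self_mem_sp hY)
  let L : sp G Y →ₗ[k] sp G (X * Y - Y * X) :=
    { toFun := fun W => ⟨X' * W - W * X', (comm_mem hk2 hk3 hX hY hN hne hX' W.2).1⟩
      map_add' := fun a b => Subtype.ext (by simp [add_mul, mul_add]; abel)
      map_smul' := fun c a => Subtype.ext (by simp [smul_sub]) }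
  have hinj : Function.Injective L := (injective_iff_map_eq_zero L).mpr fun W hW => by
    have h0 : X' * (W : Module.End k M) - W * X' = 0 := congrArg Subtype.val hW
    exact Subtype.ext (((comm_mem hk2 hk3 hX hY hN hne hX' W.2).2 h0).resolve_left hX0)
  have hd : Module.finrank k (sp G Y) = Module.finrank k (sp G (X * Y - Y * X)) := by
    have hne2 : Y * X - X * Y ≠ 0 := fun h => hne (by rw [← neg_sub, h, neg_zero])
    rw [finrank_eq hk2 hk3 hG hY hX (nilpotent_symm hN) hne2]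
    have e : sp G (Y * X - X * Y) = sp G (X * Y - Y * X) := by
      obtain ⟨hU, -, -, -, -⟩ := comm_root hX hY n1 n2 hne
      exact sp_eq hU (show Y * X - X * Y ∈ _ by rw [← neg_sub (X * Y)]; exact neg_mem (self_mem_sp hU)) hne2
    rw [e]
  obtain ⟨W, hW⟩ := (LinearMap.injective_iff_surjective_of_finrank_eq_finrank hd).mp hinj ⟨Z, hZ⟩
  exact ⟨W, W.2, congrArg Subtype.val hW⟩

end Cfsg.Agent.Lib.QPair
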