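import Cfsg.Agent.Lib.QPair.Basic
import Cfsg.Agent.Lib.RankOne.Basic

/-!
# Unipotently generated families of subgroups

A conjugation invariant family of subgroups, any two of whose members generate a unipotent group, generates a
unipotent group.
-/

set_option autoImplicit false

namespace Cfsg.Agent.Lib.QPair

open Cfsg

variable {k : Type*} [Field k] {M : Type*} [AddCommGroup M] [Module k M]

/-- The span of the maps `g - 1`. -/
def ddSpan (H : Subgroup (LinearMap.GeneralLinearGroup k M)) : Submodule k (Module.End k M) :=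
  Submodule.span k (dd '' (H : Set (LinearMap.GeneralLinearGroup k M)))

theorem dd_mem_span {H : Subgroup (LinearMap.GeneralLinearGroup k M)} {g : LinearMap.GeneralLinearGroup k M}
    (hg : g ∈ H) : dd g ∈ ddSpan H := Submodule.subset_span ⟨g, hg, rfl⟩

theorem ddSpan_mul_self (H : Subgroup (LinearMap.GeneralLinearGroup k M)) : ddSpan H * ddSpan H ≤ ddSpan H := by
  rw [ddSpan, Submodule.span_mul_span, Submodule.span_le]
  rintro _ ⟨_, ⟨g, hg, rfl⟩, _, ⟨h, hh, rfl⟩, rfl⟩
  show dd g * dd h ∈ ddSpan H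
  have e : dd g * dd h = dd (g * h) - dd g - dd h := by rw [dd_mul]; abel
  rw [e]
  exact sub_mem (sub_mem (dd_mem_span (mul_mem hg hh)) (dd_mem_span hg)) (dd_mem_span hh)

theorem pow_succ_le (H : Subgroup (LinearMap.GeneralLinearGroup k M)) (n : ℕ) : ddSpan H ^ (n + 1) ≤ ddSpan H := by
  induction n with
  | zero => rw [pow_one]
  | succ n ih => rw [pow_succ]; exact (mul_le_mul' ih le_rfl).trans (ddSpan_mul_self H)

theorem prod_mem_pow (H : Subgroup (LinearMap.GeneralLinearGroup k M)) (l : List (LinearMap.GeneralLinearGroup k M))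
    (hl : ∀ g ∈ l, g ∈ H) : (l.map dd).prod ∈ ddSpan H ^ l.length := by
  induction l with
  | nil => rw [List.map_nil, List.prod_nil, List.length_nil, pow_zero]; exact Submodule.one_le.mp le_rfl
  | cons g l ih =>
    rw [List.map_cons, List.prod_cons, List.length_cons, pow_succ']
    exact Submodule.mul_mem_mul (dd_mem_span (hl g List.mem_cons_self)) (ih fun x hx => hl x (List.mem_cons_of_mem _ hx))

theorem isUnipotentOn_def {H : Subgroup (LinearMap.GeneralLinearGroup k M)} :
    IsUnipotentOn H ↔ ∃ n : ℕ, ∀ l : List (LinearMap.GeneralLinearGroup k M), (∀ g ∈ l, g ∈ H) → l.length = n →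
      (l.map dd).prod = 0 := by
  have e : ∀ l : List (LinearMap.GeneralLinearGroup k M),
      (l.map fun g => (g : M →ₗ[k] M) - 1) = l.map dd := by
    intro l
    induction l with
    | nil => rfl
    | cons a l ih => simp_all [dd]
  simp only [IsUnipotentOn, e]

theorem unipotent_iff {H : Subgroup (LinearMap.GeneralLinearGroup k M)} :
    IsUnipotentOn H ↔ ∃ n : ℕ, ddSpan H ^ n = ⊥ := by
  rw [isUnipotentOn_def]
  constructor
  · rintro ⟨n, hn⟩
    refine ⟨n, eq_bot_iff.mpr ?_⟩
    rw [ddSpan, Submodule.span_pow, Submodule.span_le]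
    intro x hx
    rw [Set.mem_pow] at hx
    obtain ⟨f, rfl⟩ := hx
    choose g hg he using fun i => (f i).2
    rw [SetLike.mem_coe, Submodule.mem_bot]
    have := hn (List.ofFn g) (fun y hy => by
      obtain ⟨i, rfl⟩ := List.mem_ofFn.mp hy
      exact hg i) List.length_ofFn
    rw [List.map_ofFn, show dd ∘ g = fun i => (f i : Module.End k M) from funext he] at this
    exact this
  · rintro ⟨n, hn⟩
    refine ⟨n, fun l hl hlen => ?_⟩
    have := prod_mem_pow H l hl
    rw [hlen, hn, Submodule.mem_bot] at this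
    exact this

theorem ddSpan_mono {H K : Subgroup (LinearMap.GeneralLinearGroup k M)} (h : H ≤ K) : ddSpan H ≤ ddSpan K :=
  Submodule.span_mono (Set.image_mono h)

theorem pow_mono_left {P Q : Submodule k (Module.End k M)} (h : P ≤ Q) (n : ℕ) : P ^ n ≤ Q ^ n := by
  induction n with
  | zero => simp
  | succ n ih => rw [pow_succ, pow_succ]; exact mul_le_mul' ih h

theorem ddSpan_closure (S : Set (LinearMap.GeneralLinearGroup k M)) (hS : ∀ g ∈ S, g⁻¹ ∈ S)
    (Q : Submodule k (Module.End k M)) (hQ : Q * Q ≤ Q) (h : ∀ g ∈ S, dd g ∈ Q) :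
    ddSpan (Subgroup.closure S) ≤ Q := by
  rw [ddSpan, Submodule.span_le]
  rintro _ ⟨g, hg, rfl⟩
  induction hg using Subgroup.closure_induction'' with
  | one => rw [SetLike.mem_coe, dd_one]; exact zero_mem _
  | mem x hx => exact h x hx
  | inv_mem x hx => exact h _ (hS x hx)
  | mul x y _ _ ihx ihy =>
    rw [SetLike.mem_coe, dd_mul]
    exact add_mem (add_mem ihx ihy) (hQ (Submodule.mul_mem_mul ihx ihy))

/-- A unipotent normalised subgroup and a unipotent subgroup generate a unipotent group. -/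
theorem unipotent_sup {D H : Subgroup (LinearMap.GeneralLinearGroup k M)} (hD : IsUnipotentOn D)
    (hH : IsUnipotentOn H) (hn : ∀ h ∈ H, ∀ d ∈ D, h * d * h⁻¹ ∈ D) : IsUnipotentOn (D ⊔ H) := by
  obtain ⟨a, ha⟩ := unipotent_iff.mp hD
  obtain ⟨b, hb⟩ := unipotent_iff.mp hH
  set R := ddSpan D with hR
  set S := ddSpan H with hS
  set E : Submodule k (Module.End k M) := 1 ⊔ S with hE
  have hRR : R * R ≤ R := ddSpan_mul_self D
  have hSS : S * S ≤ S := ddSpan_mul_self H
  have hEE : E * E ≤ E := by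
    rw [hE, Submodule.sup_mul, one_mul, Submodule.mul_sup, mul_one]
    exact sup_le le_rfl (sup_le le_sup_right (hSS.trans le_sup_right))
  have hSR : S * R ≤ R * E := by
    rw [hS, hR, ddSpan, ddSpan, Submodule.span_mul_span, Submodule.span_le]
    rintro _ ⟨_, ⟨h, hh, rfl⟩, _, ⟨d, hd, rfl⟩, rfl⟩
    show dd h * dd d ∈ R * E
    have e : dd h * dd d = dd (h * d * h⁻¹) * (1 + dd h) - dd d * 1 := by
      rw [← coe_eq h]
      show ((h : Module.End k M) - 1) * ((d : Module.End k M) - 1) =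
        ((h : Module.End k M) * (d : Module.End k M) * ((h⁻¹ : LinearMap.GeneralLinearGroup k M) : Module.End k M) - 1) *
          (h : Module.End k M) - ((d : Module.End k M) - 1) * 1
      rw [sub_mul _ (1 : Module.End k M) (h : Module.End k M), mul_assoc _ _ (h : Module.End k M), Units.inv_mul]
      noncomm_ring
    rw [e]
    exact sub_mem (Submodule.mul_mem_mul (dd_mem_span (hn h hh d hd))
      (add_mem (Submodule.mem_sup_left (Submodule.one_le.mp le_rfl)) (Submodule.mem_sup_right (dd_mem_span hh))))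
      (Submodule.mul_mem_mul (dd_mem_span hd) (Submodule.mem_sup_left (Submodule.one_le.mp le_rfl)))
  have hER : E * R ≤ R * E := by
    rw [hE, Submodule.sup_mul, one_mul]
    refine sup_le ?_ hSR
    calc R = R * 1 := (mul_one R).symm
      _ ≤ R * E := mul_le_mul' le_rfl le_sup_left
  set I := R * E with hI
  have hII : I * I ≤ I := by
    calc R * E * (R * E) = R * (E * R) * E := by simp only [mul_assoc]
      _ ≤ R * (R * E) * E := mul_le_mul' (mul_le_mul' le_rfl hER) le_rfl
      _ = R * R * (E * E) := by simp only [mul_assoc]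
      _ ≤ R * E := mul_le_mul' hRR hEE
  have hSI : S * I ≤ I := by
    calc S * (R * E) = S * R * E := (mul_assoc _ _ _).symm
      _ ≤ R * E * E := mul_le_mul' hSR le_rfl
      _ = R * (E * E) := mul_assoc _ _ _
      _ ≤ R * E := mul_le_mul' le_rfl hEE
  have hIS : I * S ≤ I := by
    calc R * E * S = R * (E * S) := mul_assoc _ _ _
      _ ≤ R * (E * E) := mul_le_mul' le_rfl (mul_le_mul' le_rfl le_sup_right)
      _ ≤ R * E := mul_le_mul' le_rfl hEE
  have hQ : (I ⊔ S) * (I ⊔ S) ≤ I ⊔ S := by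
    rw [Submodule.sup_mul, Submodule.mul_sup, Submodule.mul_sup]
    exact sup_le (sup_le (hII.trans le_sup_left) (hIS.trans le_sup_left))
      (sup_le (hSI.trans le_sup_left) (hSS.trans le_sup_right))
  have hle : ddSpan (D ⊔ H) ≤ I ⊔ S := by
    rw [Subgroup.sup_eq_closure]
    refine ddSpan_closure _ (fun g hg => hg.imp (fun h => inv_mem h) fun h => inv_mem h) _ hQ ?_
    rintro g (hg | hg)
    · refine Submodule.mem_sup_left ?_
      have := Submodule.mul_mem_mul (dd_mem_span hg)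
        (Submodule.mem_sup_left (Submodule.one_le.mp le_rfl) : (1 : Module.End k M) ∈ E)
      rwa [mul_one] at this
    · exact Submodule.mem_sup_right (dd_mem_span hg)
  have hpow : ∀ j : ℕ, (I ⊔ S) ^ (j + 1) ≤ I ⊔ S ^ (j + 1) := by
    intro j
    induction j with
    | zero => simp
    | succ j ih =>
      rw [pow_succ _ (j + 1)]
      refine (mul_le_mul' ih le_rfl).trans ?_
      rw [Submodule.sup_mul, Submodule.mul_sup, Submodule.mul_sup, ← pow_succ]
      exact sup_le (sup_le (hII.trans le_sup_left) (hIS.trans le_sup_left))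
        (sup_le ((mul_le_mul' (pow_succ_le H j) le_rfl).trans (hSI.trans le_sup_left)) le_sup_right)
  have hIpow : ∀ j : ℕ, I ^ j ≤ R ^ j * E := by
    intro j
    induction j with
    | zero => rw [pow_zero, pow_zero, one_mul]; exact le_sup_left
    | succ j ih =>
      calc I ^ (j + 1) = I ^ j * (R * E) := pow_succ I j
        _ ≤ R ^ j * E * (R * E) := mul_le_mul' ih le_rfl
        _ = R ^ j * (E * R) * E := by simp only [mul_assoc]
        _ ≤ R ^ j * (R * E) * E := mul_le_mul' (mul_le_mul' le_rfl hER) le_rfl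
        _ = R ^ (j + 1) * (E * E) := by simp only [pow_succ, mul_assoc]
        _ ≤ R ^ (j + 1) * E := mul_le_mul' le_rfl hEE
  refine unipotent_iff.mpr ⟨(b + 1) * a, eq_bot_iff.mpr ?_⟩
  have hb' : S ^ (b + 1) = ⊥ := by rw [pow_succ, hb, Submodule.bot_mul]
  calc ddSpan (D ⊔ H) ^ ((b + 1) * a) = (ddSpan (D ⊔ H) ^ (b + 1)) ^ a := pow_mul _ _ _
    _ ≤ ((I ⊔ S) ^ (b + 1)) ^ a := pow_mono_left (pow_mono_left hle _) _
    _ ≤ (I ⊔ S ^ (b + 1)) ^ a := pow_mono_left (hpow b) _
    _ = I ^ a := by rw [hb', sup_bot_eq]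
    _ ≤ R ^ a * E := hIpow a
    _ = ⊥ := by rw [ha, Submodule.bot_mul]

/-- Proper subgroups of a unipotent group are not self normalising. -/
theorem exists_normalizing {N U : Subgroup (LinearMap.GeneralLinearGroup k M)} (hU : IsUnipotentOn U)
    (hne : ¬ U ≤ N) (hNU : N ≤ U) : ∃ g ∈ U, g ∉ N ∧ g ∈ Subgroup.normalizer (N : Set (LinearMap.GeneralLinearGroup k M)) := by
  classical
  obtain ⟨a, ha⟩ := unipotent_iff.mp hU
  have hex : ∃ i, ∀ g ∈ U, dd g ∈ ddSpan U ^ (i + 1) → g ∈ N := ⟨a, fun g _ hg => by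
    rw [pow_succ, ha, Submodule.bot_mul, Submodule.mem_bot, dd_eq_zero] at hg
    exact hg ▸ one_mem _⟩
  have hspec := Nat.find_spec hex
  obtain ⟨j, hj⟩ : ∃ j, Nat.find hex = j + 1 := by
    refine Nat.exists_eq_succ_of_ne_zero fun h0 => hne fun g hg => ?_
    rw [h0] at hspec
    exact hspec g hg (by rw [zero_add, pow_one]; exact dd_mem_span hg)
  have hmin := Nat.find_min hex (by omega : j < Nat.find hex)
  push Not at hmin
  obtain ⟨g, hg, hgR, hgN⟩ := hmin
  rw [hj] at hspec
  have key : ∀ h ∈ U, dd h ∈ ddSpan U ^ (j + 1) → ∀ n ∈ N, h * n * h⁻¹ ∈ N := by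
    intro h hh hhR n hn
    have hc : dd (h * n * h⁻¹ * n⁻¹) = (dd h * dd n - dd n * dd h) * (1 + dd (h⁻¹ * n⁻¹)) := by
      have e : dd h * dd n - dd n * dd h = (h : Module.End k M) * (n : Module.End k M) -
          (n : Module.End k M) * (h : Module.End k M) := by
        rw [coe_eq h, coe_eq n]; noncomm_ring
      rw [e, ← coe_eq]
      show (h : Module.End k M) * n * ((h⁻¹ : LinearMap.GeneralLinearGroup k M) : Module.End k M) *
        ((n⁻¹ : LinearMap.GeneralLinearGroup k M) : Module.End k M) - 1 = _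
      rw [Units.val_mul, sub_mul, ← mul_assoc, ← mul_assoc, mul_assoc (n : Module.End k M) (h : Module.End k M),
        Units.mul_inv, mul_one, Units.mul_inv]
    have hd1 : dd h * dd n - dd n * dd h ∈ ddSpan U ^ (j + 2) := by
      refine sub_mem ?_ ?_
      · rw [pow_succ]; exact Submodule.mul_mem_mul hhR (dd_mem_span (hNU hn))
      · rw [pow_succ']; exact Submodule.mul_mem_mul (dd_mem_span (hNU hn)) hhR
    have hd2 : dd (h * n * h⁻¹ * n⁻¹) ∈ ddSpan U ^ (j + 2) := by
      rw [hc, mul_add, mul_one]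
      refine add_mem hd1 ?_
      have h3 := Submodule.mul_mem_mul hd1 (dd_mem_span (mul_mem (inv_mem hh) (inv_mem (hNU hn))))
      refine SetLike.le_def.mp ?_ h3
      rw [pow_succ _ (j + 1), mul_assoc]
      exact mul_le_mul' le_rfl (ddSpan_mul_self U)
    have hc' := hspec _ (mul_mem (mul_mem (mul_mem hh (hNU hn)) (inv_mem hh)) (inv_mem (hNU hn))) hd2
    simpa using mul_mem hc' hn
  refine ⟨g, hg, hgN, Subgroup.mem_normalizer_iff.mpr fun n => ⟨key g hg hgR n, fun hn => ?_⟩⟩
  have hinv : dd g⁻¹ ∈ ddSpan U ^ (j + 1) := by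
    have e : dd g⁻¹ = -(dd g + dd g * dd g⁻¹) := by
      have := dd_mul g g⁻¹
      rw [mul_inv_cancel, dd_one] at this
      rw [eq_neg_iff_add_eq_zero]
      rw [this]
      abel
    rw [e]
    refine neg_mem (add_mem hgR ?_)
    refine SetLike.le_def.mp ?_ (Submodule.mul_mem_mul hgR (dd_mem_span (inv_mem hg)))
    rw [pow_succ, mul_assoc]
    exact mul_le_mul' le_rfl (ddSpan_mul_self U)
  have := key g⁻¹ (inv_mem hg) hinv _ hn
  simpa [mul_assoc] using this

/-- The subgroup generated by a family. -/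
abbrev gen (C : Set (Subgroup (LinearMap.GeneralLinearGroup k M))) : Subgroup (LinearMap.GeneralLinearGroup k M) :=
  ⨆ A ∈ C, A

theorem le_gen {C : Set (Subgroup (LinearMap.GeneralLinearGroup k M))} {A : Subgroup (LinearMap.GeneralLinearGroup k M)}
    (hA : A ∈ C) : A ≤ gen C := le_iSup₂ (f := fun B _ => B) A hA

theorem unipotent_mono {H K : Subgroup (LinearMap.GeneralLinearGroup k M)} (h : H ≤ K) (hK : IsUnipotentOn K) :
    IsUnipotentOn H := by
  obtain ⟨n, hn⟩ := hK
  exact ⟨n, fun l hl => hn l fun g hg => h (hl g hg)⟩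

variable [FiniteDimensional k M] (W : Set (Subgroup (LinearMap.GeneralLinearGroup k M)))

/-- Unipotent subfamilies closed for the span. -/
def IsClosedFamily (C : Set (Subgroup (LinearMap.GeneralLinearGroup k M))) : Prop :=
  C ⊆ W ∧ IsUnipotentOn (gen C) ∧ ∀ A ∈ W, ddSpan A ≤ ddSpan (gen C) → A ∈ C

variable {W}

theorem exists_closed {C : Set (Subgroup (LinearMap.GeneralLinearGroup k M))} (hC : C ⊆ W)
    (hu : IsUnipotentOn (gen C)) : ∃ C', IsClosedFamily W C' ∧ C ⊆ C' := by
  set C' := {A | A ∈ W ∧ ddSpan A ≤ ddSpan (gen C)} with hC'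
  have hsub : C ⊆ C' := fun A hA => ⟨hC hA, ddSpan_mono (le_gen hA)⟩
  have hle : ddSpan (gen C') ≤ ddSpan (gen C) := by
    have hgen : gen C' = Subgroup.closure (⋃ A ∈ C', (A : Set (LinearMap.GeneralLinearGroup k M))) := by
      simp only [gen, Subgroup.closure_iUnion, Subgroup.closure_eq]
    rw [hgen]
    refine ddSpan_closure _ (fun g hg => ?_) _ (ddSpan_mul_self _) fun g hg => ?_
    all_goals simp only [Set.mem_iUnion, SetLike.mem_coe] at hg ⊢
    · obtain ⟨A, hA, hg⟩ := hg
      exact ⟨A, hA, inv_mem hg⟩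
    · obtain ⟨A, hA, hg⟩ := hg
      exact hA.2 (dd_mem_span hg)
  obtain ⟨n, hn⟩ := unipotent_iff.mp hu
  refine ⟨C', ⟨fun A hA => hA.1, unipotent_iff.mpr ⟨n, eq_bot_iff.mpr (hn ▸ pow_mono_left hle n)⟩,
    fun A hA h => ⟨hA, h.trans hle⟩⟩, hsub⟩

/-- A member outside a closed proper subfamily normalises it. -/
theorem exists_member {G : Subgroup (LinearMap.GeneralLinearGroup k M)} (hWG : ∀ A ∈ W, A ≤ G)
    (hWconj : ∀ A ∈ W, ∀ g ∈ G, conjBy A g ∈ W) {U C : Set (Subgroup (LinearMap.GeneralLinearGroup k M))}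
    (hU : IsClosedFamily W U) (hCU : C ⊆ U) (hne : ¬ U ⊆ C) :
    ∃ A ∈ U, A ∉ C ∧ ∀ a ∈ A, ∀ d ∈ gen C, a * d * a⁻¹ ∈ gen C := by
  by_contra hcon
  push Not at hcon
  set N := gen U ⊓ Subgroup.normalizer (gen C : Set (LinearMap.GeneralLinearGroup k M)) with hN
  have hin : ∀ A ∈ U, A ≤ N → A ∈ C := by
    intro A hA hle
    by_contra hAC
    obtain ⟨a, ha, d, hd, hn⟩ := hcon A hA hAC
    exact hn ((Subgroup.mem_normalizer_iff.mp (hle ha).2 d).mp hd)
  obtain ⟨A₀, hA₀, hA₀C⟩ := Set.not_subset.mp hne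
  obtain ⟨g, hg, hgN, hgn⟩ := exists_normalizing (N := N) hU.2.1
    (fun h => hA₀C (hin A₀ hA₀ ((le_gen hA₀).trans h))) inf_le_left
  have hgG : g ∈ G := (iSup₂_le fun A hA => hWG A (hU.1 hA)) hg
  have hmap : ∀ A ∈ C, ∀ x ∈ gen U, x ∈ G → x ∈ Subgroup.normalizer (N : Set (LinearMap.GeneralLinearGroup k M)) →
      conjBy A x ∈ C := by
    intro A hA x hx hxG hxN
    have hAN : A ≤ N := fun a ha => ⟨le_gen (hCU hA) ha, Subgroup.le_normalizer (le_gen hA ha)⟩
    have hle : conjBy A x ≤ N := by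
      intro y hy
      have h1 := (Subgroup.mem_normalizer_iff.mp hxN (x⁻¹ * y * x)).mp (hAN (RankOne.mem_conjBy.mp hy))
      simpa [mul_assoc] using h1
    exact hin _ (hU.2.2 _ (hWconj A (hU.1 (hCU hA)) x hxG) (ddSpan_mono (hle.trans inf_le_left))) hle
  have hgen : ∀ x ∈ gen U, x ∈ G → x ∈ Subgroup.normalizer (N : Set (LinearMap.GeneralLinearGroup k M)) →
      conjBy (gen C) x ≤ gen C := by
    intro x hx hxG hxN
    show (gen C).map _ ≤ _
    rw [gen, Subgroup.map_iSup]
    simp only [Subgroup.map_iSup]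
    exact iSup₂_le fun A hA => le_gen (hmap A hA x hx hxG hxN)
  refine hgN ⟨hg, Subgroup.mem_normalizer_iff.mpr fun d => ⟨fun hd => hgen g hg hgG hgn (RankOne.conj_mem_conjBy hd),
    fun hd => ?_⟩⟩
  have := hgen g⁻¹ (inv_mem hg) (inv_mem hgG) (inv_mem hgn) (RankOne.conj_mem_conjBy hd)
  simpa [mul_assoc] using this

/-- Baer type theorem. -/
theorem gen_unipotent {G : Subgroup (LinearMap.GeneralLinearGroup k M)} (hWG : ∀ A ∈ W, A ≤ G)
    (hWW : ∀ A ∈ W, ∀ B ∈ W, IsUnipotentOn (A ⊔ B)) (hWconj : ∀ A ∈ W, ∀ g ∈ G, conjBy A g ∈ W) :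
    IsUnipotentOn (gen W) := by
  classical
  let r : Set (Subgroup (LinearMap.GeneralLinearGroup k M)) → ℕ := fun C => Module.finrank k (ddSpan (gen C))
  have hlt : ∀ {C C'}, IsClosedFamily W C → IsClosedFamily W C' → C ⊆ C' → ¬ C' ⊆ C → r C < r C' := by
    intro C C' hC hC' hs hns
    refine Submodule.finrank_lt_finrank_of_lt (lt_of_le_of_ne (ddSpan_mono (iSup₂_le fun A hA => le_gen (hs hA))) fun e =>
      hns fun A hA => hC.2.2 A (hC'.1 hA) ?_)
    rw [e]
    exact ddSpan_mono (le_gen hA)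
  set B := Module.finrank k (Module.End k M)
  have hrB : ∀ C, r C ≤ B := fun C => Submodule.finrank_le _
  let IsMax : Set (Subgroup (LinearMap.GeneralLinearGroup k M)) → Prop := fun C =>
    IsClosedFamily W C ∧ ∀ C', IsClosedFamily W C' → C ⊆ C' → C' ⊆ C
  have hmax : ∀ C, IsClosedFamily W C → ∃ U, IsMax U ∧ C ⊆ U := by
    intro C hC
    induction h : B - r C using Nat.strong_induction_on generalizing C with
    | _ n ih =>
      by_cases hm : IsMax C
      · exact ⟨C, hm, le_rfl⟩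
      simp only [IsMax, hC, true_and, not_forall] at hm
      obtain ⟨C', hC', hs, hns⟩ := hm
      have := hlt hC hC' hs hns
      have := hrB C'
      obtain ⟨U, hU, hU'⟩ := ih (B - r C') (by omega) C' hC' rfl
      exact ⟨U, hU, hs.trans hU'⟩
  suffices huniq : ∀ U V, IsMax U → IsMax V → U ⊆ V by
    have hbot : IsUnipotentOn (gen (∅ : Set (Subgroup (LinearMap.GeneralLinearGroup k M)))) := by
      refine ⟨1, fun l hl hlen => ?_⟩
      obtain ⟨g, rfl⟩ := List.length_eq_one_iff.mp hlen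
      have hg : g ∈ gen (∅ : Set (Subgroup (LinearMap.GeneralLinearGroup k M))) := hl g (List.mem_singleton_self _)
      rw [gen, iSup_emptyset, Subgroup.mem_bot] at hg
      subst hg
      simp
    obtain ⟨C₀, hC₀, -⟩ := exists_closed (Set.empty_subset W) hbot
    obtain ⟨U, hU, -⟩ := hmax C₀ hC₀
    have hW : W ⊆ U := by
      intro A hA
      have hu : IsUnipotentOn (gen {A}) :=
        unipotent_mono (by rw [gen, iSup_singleton]; exact le_sup_left) (hWW A hA A hA)
      obtain ⟨C, hC, hAC⟩ := exists_closed (Set.singleton_subset_iff.mpr hA) hu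
      obtain ⟨V, hV, hCV⟩ := hmax C hC
      exact huniq V U hV hU (hCV (hAC rfl))
    exact unipotent_mono (iSup₂_le fun A hA => le_gen (hW hA)) hU.1.2.1
  intro U V hU hV
  induction h : B - r (U ∩ V) using Nat.strong_induction_on generalizing U V with
  | _ n ih =>
    by_contra hns
    have hclosed : ∀ U V, IsMax U → IsMax V → IsClosedFamily W (U ∩ V) := fun U V hU hV =>
      ⟨Set.inter_subset_left.trans hU.1.1,
        unipotent_mono (iSup₂_le fun A hA => le_gen hA.1) hU.1.2.1,
        fun A hA h => ⟨hU.1.2.2 A hA (h.trans (ddSpan_mono (iSup₂_le fun A hA => le_gen hA.1))),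
          hV.1.2.2 A hA (h.trans (ddSpan_mono (iSup₂_le fun A hA => le_gen hA.2)))⟩⟩
    set C := U ∩ V with hCdef
    have h1 : ¬ U ⊆ C := fun h' => hns (h'.trans Set.inter_subset_right)
    have h2 : ¬ V ⊆ C := fun h' => hns (hV.2 U hU.1 (h'.trans Set.inter_subset_left))
    obtain ⟨A, hA, hAC, hAn⟩ := exists_member hWG hWconj hU.1 Set.inter_subset_left h1
    obtain ⟨A', hA', hA'C, hA'n⟩ := exists_member hWG hWconj hV.1 Set.inter_subset_right h2
    have hnorm : ∀ x ∈ A ⊔ A', ∀ d ∈ gen C, x * d * x⁻¹ ∈ gen C := by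
      have hle : A ⊔ A' ≤ Subgroup.normalizer (gen C : Set (LinearMap.GeneralLinearGroup k M)) := by
        refine sup_le ?_ ?_ <;> intro a ha <;>
          refine Subgroup.mem_normalizer_iff.mpr fun d => ⟨fun hd => ?_, fun hd => ?_⟩
        · exact hAn a ha d hd
        · have := hAn a⁻¹ (inv_mem ha) _ hd; simpa [mul_assoc] using this
        · exact hA'n a ha d hd
        · have := hA'n a⁻¹ (inv_mem ha) _ hd; simpa [mul_assoc] using this
      exact fun x hx d hd => (Subgroup.mem_normalizer_iff.mp (hle hx) d).mp hd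
    have hcW : C ⊆ W := Set.inter_subset_left.trans hU.1.1
    have hgu : IsUnipotentOn (gen (C ∪ {A, A'})) := by
      refine unipotent_mono (iSup₂_le ?_) (unipotent_sup (hclosed U V hU hV).2.1
        (hWW A (hU.1.1 hA) A' (hV.1.1 hA')) hnorm)
      rintro X (hX | rfl | rfl)
      · exact (le_gen hX).trans le_sup_left
      · exact le_sup_left.trans le_sup_right
      · exact le_sup_right.trans le_sup_right
    obtain ⟨P, hP, hPsub⟩ := exists_closed (Set.union_subset hcW (Set.insert_subset (hU.1.1 hA)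
      (Set.singleton_subset_iff.mpr (hV.1.1 hA')))) hgu
    obtain ⟨Q, hQ, hPQ⟩ := hmax P hP
    have hA1 : A ∈ Q := hPQ (hPsub (Or.inr (Or.inl rfl)))
    have hA2 : A' ∈ Q := hPQ (hPsub (Or.inr (Or.inr rfl)))
    have hCQ : C ⊆ Q := fun X hX => hPQ (hPsub (Or.inl hX))
    have l1 := hlt (hclosed U V hU hV) (hclosed U Q hU hQ) (fun X hX => ⟨hX.1, hCQ hX⟩)
      fun h' => hAC (h' ⟨hA, hA1⟩)
    have l2 := hlt (hclosed U V hU hV) (hclosed Q V hQ hV) (fun X hX => ⟨hCQ hX, hX.2⟩)
      fun h' => hA'C (h' ⟨hA2, hA'⟩)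
    have e0 : r C = r (U ∩ V) := rfl
    have b1 := hrB (U ∩ Q)
    have b2 := hrB (Q ∩ V)
    exact hns ((ih _ (by omega) U Q hU hQ rfl).trans (ih _ (by omega) Q V hQ hV rfl))

end Cfsg.Agent.Lib.QPair
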